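import Cfsg.Agent.Lib.OstromWagner.Basic

/-!
# Counting lemmas for actions on invariant subsets

Fixed points of `p`-groups on invariant subsets, Gleason's lemma, and orbits of `p`-groups bounded
below through point stabilisers.
-/

set_option autoImplicit false
set_option linter.unusedSectionVars false

namespace Cfsg.Agent.OW

variable {G X : Type*} [Group G] [MulAction G X]

/-- A subgroup acts on an invariant subset. -/
@[reducible] def subAction (K : Subgroup G) (S : X → Prop) (hS : ∀ g ∈ K, ∀ x, S x → S (g • x)) :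
    MulAction K {x : X // S x} where
  smul g x := ⟨(g : G) • x.1, hS g g.2 x.1 x.2⟩
  one_smul x := Subtype.ext (one_smul G x.1)
  mul_smul g k x := Subtype.ext (mul_smul (g : G) (k : G) x.1)

/-- Fixed points of a `p`-group on an invariant subset. -/
theorem natCard_modEq_fixed [Finite X] {p : ℕ} [Fact p.Prime] (K : Subgroup G) (hK : IsPGroup p K)
    (S : X → Prop) (hS : ∀ g ∈ K, ∀ x, S x → S (g • x)) :
    Nat.card {x : X // S x} ≡ Nat.card {x : X // S x ∧ ∀ g ∈ K, g • x = x} [MOD p] := by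
  let := subAction K S hS
  refine (hK.card_modEq_card_fixedPoints {x : X // S x}).trans ?_
  rw [Nat.card_congr (α := MulAction.fixedPoints K {x : X // S x})
    (β := {x : X // S x ∧ ∀ g ∈ K, g • x = x})
    { toFun := fun x => ⟨x.1.1, x.1.2, fun g hg => congrArg Subtype.val (x.2 ⟨g, hg⟩)⟩
      invFun := fun x => ⟨⟨x.1, x.2.1⟩, fun g => Subtype.ext (x.2.2 g g.2)⟩ }]

lemma isPGroup_zpowers {p k : ℕ} {g : G} (hg : g ^ p ^ k = 1) :
    IsPGroup p (Subgroup.zpowers g) := by
  rintro ⟨x, hx⟩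
  obtain ⟨i, rfl⟩ := Subgroup.mem_zpowers_iff.mp hx
  exact ⟨k, Subtype.ext (by
    rw [Subgroup.coe_pow, Subgroup.coe_one, ← zpow_natCast, ← zpow_mul, mul_comm, zpow_mul,
      zpow_natCast, hg, one_zpow])⟩

lemma forall_zpowers_iff {g : G} {x : X} :
    (∀ h ∈ Subgroup.zpowers g, h • x = x) ↔ g • x = x :=
  ⟨fun h => h g (Subgroup.mem_zpowers g), fun h y hy =>
    (Subgroup.zpowers_le.mpr (show g ∈ MulAction.stabilizer G x from h)) hy⟩

/-- Fixed points of an element of `p`-power order on an invariant subset. -/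
theorem natCard_modEq_fixed_elem [Finite G] [Finite X] {p k : ℕ} [Fact p.Prime] {g : G}
    (hg : g ^ p ^ k = 1) (S : X → Prop) (hS : ∀ x, S x → S (g • x)) :
    Nat.card {x : X // S x} ≡ Nat.card {x : X // S x ∧ g • x = x} [MOD p] := by
  have hS' : ∀ h ∈ Subgroup.zpowers g, ∀ x, S x → S (h • x) := by
    intro h hh x hx
    rw [← mem_powers_iff_mem_zpowers] at hh
    obtain ⟨i, rfl⟩ := hh
    induction i with
    | zero => simpa using hx
    | succ i ih => simp only at ih ⊢; rw [pow_succ', mul_smul]; exact hS _ ih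
  refine (natCard_modEq_fixed _ (isPGroup_zpowers hg) S hS').trans ?_
  simp only [forall_zpowers_iff]
  rfl

/-- Gleason's lemma. -/
theorem gleason [Finite G] [Finite X] {p : ℕ} [Fact p.Prime] (K : Subgroup G) (S : X → Prop)
    (hS : ∀ g ∈ K, ∀ x, S x → S (g • x))
    (hfix : ∀ x, S x → ∃ g ∈ K, (∃ k : ℕ, g ^ p ^ k = 1) ∧ g • x = x ∧
      ∀ y, S y → g • y = y → y = x)
    {x y : X} (hx : S x) (hy : S y) : ∃ g ∈ K, g • x = y := by
  by_contra hne
  let O : X → Prop := fun z => ∃ g ∈ K, g • x = z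
  have hOS : ∀ z, O z → S z := by
    rintro z ⟨g, hg, rfl⟩
    exact hS g hg x hx
  have hO : ∀ h ∈ K, ∀ z, O z → O (h • z) := by
    rintro h hh z ⟨g, hg, rfl⟩
    exact ⟨h * g, K.mul_mem hh hg, mul_smul h g x⟩
  have count : ∀ z, S z → ∃ c : ℕ, Nat.card {w : X // O w} ≡ c [MOD p] ∧
      (O z → c = 1) ∧ (¬ O z → c = 0) := by
    intro z hz
    obtain ⟨g, hgK, ⟨k, hk⟩, hgz, huniq⟩ := hfix z hz
    refine ⟨_, natCard_modEq_fixed_elem hk O (hO g hgK), fun hOz => ?_, fun hOz => ?_⟩
    · rw [Nat.card_eq_one_iff_unique]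
      exact ⟨⟨fun a b => Subtype.ext ((huniq _ (hOS _ a.2.1) a.2.2).trans
        (huniq _ (hOS _ b.2.1) b.2.2).symm)⟩, ⟨⟨z, hOz, hgz⟩⟩⟩
    · rw [Nat.card_eq_zero]
      exact Or.inl ⟨fun a => hOz ((huniq _ (hOS _ a.2.1) a.2.2) ▸ a.2.1)⟩
  obtain ⟨c, hc, hc1, -⟩ := count x hx
  obtain ⟨d, hd, -, hd0⟩ := count y hy
  rw [hc1 ⟨1, K.one_mem, one_smul G x⟩] at hc
  rw [hd0 hne] at hd
  have h := hc.symm.trans hd
  rw [Nat.ModEq, Nat.zero_mod, Nat.one_mod_eq_one.mpr (Fact.out : p.Prime).ne_one] at h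
  exact one_ne_zero h

lemma index_eq_of_transitive {Y : Type*} [MulAction G Y] (S : Y → Prop) {x : Y}
    (hS : ∀ g : G, S (g • x)) (htr : ∀ y, S y → ∃ g : G, g • x = y) :
    (MulAction.stabilizer G x).index = Nat.card {y : Y // S y} := by
  rw [MulAction.index_stabilizer]
  have : MulAction.orbit G x = {y | S y} := by
    ext y
    exact ⟨by rintro ⟨g, rfl⟩; exact hS g, fun h => htr y h⟩
  rw [this, ← Nat.card_coe_set_eq]
  rfl

/-- A `p`-group whose point stabilisers in an invariant set of size `p ^ a` are small enough is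
transitive on it. -/
theorem transitive_of_stab [Finite G] [Finite X] {p a t : ℕ} [hp : Fact p.Prime] (T : Subgroup G)
    (hT : Nat.card T = p ^ (t + a)) (S : X → Prop) (hS : ∀ g ∈ T, ∀ x, S x → S (g • x))
    (hcard : Nat.card {x : X // S x} = p ^ a) {x : X} (hx : S x) (K : Subgroup G)
    (hTK : ∀ g ∈ T, g • x = x → g ∈ K) (hK : (Nat.card K).factorization p ≤ t)
    {y : X} (hy : S y) : ∃ g ∈ T, g • x = y := by
  let := subAction T S hS
  set x' : {x : X // S x} := ⟨x, hx⟩
  obtain ⟨s, -, hs⟩ := (Nat.dvd_prime_pow hp.out).mp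
    (hT ▸ (MulAction.stabilizer T x').card_subgroup_dvd_card)
  have hst : s ≤ t := by
    refine le_trans ?_ hK
    rw [← hp.out.pow_dvd_iff_le_factorization (Nat.card_pos).ne', ← hs]
    have himg : (MulAction.stabilizer T x').map T.subtype ≤ K := by
      rintro g ⟨h, hh, rfl⟩
      exact hTK _ h.2 (congrArg Subtype.val hh)
    rw [← Subgroup.card_map_of_injective T.subtype_injective]
    exact Subgroup.card_dvd_of_le himg
  have h1 := Subgroup.card_mul_index (MulAction.stabilizer T x')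
  rw [hs, hT, MulAction.index_stabilizer] at h1
  have h2 : (MulAction.orbit T x').ncard ≤ p ^ a :=
    (Set.ncard_le_card _).trans hcard.le
  have h3 : p ^ a ≤ (MulAction.orbit T x').ncard := by
    refine Nat.le_of_mul_le_mul_left ?_ (pow_pos hp.out.pos s)
    rw [h1, ← pow_add]
    exact Nat.pow_le_pow_right hp.out.pos (by omega)
  have huniv : MulAction.orbit T x' = Set.univ := by
    refine Set.eq_of_subset_of_ncard_le (Set.subset_univ _) ?_
    rw [Set.ncard_univ, hcard]
    exact h3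
  obtain ⟨g, hg⟩ : (⟨y, hy⟩ : {x : X // S x}) ∈ MulAction.orbit T x' := huniv ▸ Set.mem_univ _
  exact ⟨g, g.2, congrArg Subtype.val hg⟩

end Cfsg.Agent.OW
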