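import Cfsg.Agent.Lib.OstromWagner.Subplane
import Cfsg.Agent.Lib.OstromWagner.Util

/-!
# 2-transitive planes of prime power order

A 2-transitive collineation group of a plane of prime power order contains a nontrivial central
collineation.
-/

set_option autoImplicit false
set_option linter.unusedSectionVars false

namespace Cfsg.Agent.OW

open Configuration

variable {G P L : Type*} [Group G] [MulAction G P] [MulAction G L] [Membership P L]
  [ProjectivePlane P L] [Finite P] [Finite L] [Coll G P L] [Finite G]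

lemma natCard_flags :
    Nat.card {x : P × L // x.1 ∈ x.2} = Nat.card P * (ProjectivePlane.order P L + 1) := by
  classical
  have := Fintype.ofFinite P
  rw [Nat.card_congr (Equiv.subtypeProdEquivSigmaSubtype fun (p : P) (l : L) => p ∈ l),
    Nat.card_sigma]
  simp [natCard_lines_through]

lemma natCard_antiflags :
    Nat.card {x : P × L // x.1 ∉ x.2} = Nat.card P * ProjectivePlane.order P L ^ 2 := by
  classical
  have := Fintype.ofFinite P
  have := Fintype.ofFinite L
  have h := natCard_flags (P := P) (L := L)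
  rw [Nat.card_eq_fintype_card] at h ⊢
  have h2 := card_lines_nat (P := P) (L := L)
  rw [Nat.card_eq_fintype_card] at h2
  rw [Fintype.card_subtype_compl, h, Fintype.card_prod, h2, Nat.card_eq_fintype_card (α := P),
    ← Nat.mul_sub]
  congr 1
  omega

lemma natCard_offdiag {X : Type*} [Finite X] :
    Nat.card {x : X × X // x.1 ≠ x.2} = Nat.card X * Nat.card X - Nat.card X := by
  classical
  have := Fintype.ofFinite X
  rw [Nat.card_eq_fintype_card, Nat.card_eq_fintype_card, Fintype.card_subtype_compl,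
    Fintype.card_prod]
  congr 1
  exact Fintype.card_congr
    { toFun := fun x => x.1.1
      invFun := fun x => ⟨(x, x), rfl⟩
      left_inv := fun x => Subtype.ext (Prod.ext rfl x.2)
      right_inv := fun _ => rfl }

section Val

variable {p a : ℕ}

/-- The exponent of `p` in the order of a group. -/
noncomputable def pVal (p : ℕ) (H : Type*) : ℕ := (Nat.card H).factorization p

lemma pVal_add_index (p : ℕ) (H : Subgroup G) :
    pVal p H + H.index.factorization p = pVal p G := by
  rw [pVal, pVal, ← H.card_mul_index,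
    Nat.factorization_mul (Nat.card_pos).ne' Subgroup.index_ne_zero_of_finite]
  rfl

lemma fact_pointsCard (hp : p.Prime) (hn : ProjectivePlane.order P L = p ^ a) (ha : 0 < a) :
    (Nat.card P).factorization p = 0 ∧
      (ProjectivePlane.order P L + 1).factorization p = 0 ∧
      (ProjectivePlane.order P L).factorization p = a := by
  have hdvd : p ∣ ProjectivePlane.order P L := hn ▸ dvd_pow_self p ha.ne'
  refine ⟨Nat.factorization_eq_zero_of_not_dvd fun h => ?_,
    Nat.factorization_eq_zero_of_not_dvd fun h => ?_, by rw [hn, hp.factorization_pow]; simp⟩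
  · rw [card_points_nat (L := L)] at h
    have : p ∣ ProjectivePlane.order P L ^ 2 + ProjectivePlane.order P L :=
      dvd_add (dvd_pow hdvd two_ne_zero) hdvd
    exact hp.not_dvd_one ((Nat.dvd_add_right this).mp h)
  · exact hp.not_dvd_one ((Nat.dvd_add_right hdvd).mp h)

lemma pVal_flag (h2 : TwoTrans G P) (hp : p.Prime) (hn : ProjectivePlane.order P L = p ^ a)
    (ha : 0 < a) {C : P} {l : L} (hC : C ∈ l) :
    pVal p (MulAction.stabilizer G (C, l)) = pVal p G := by
  have hidx : (MulAction.stabilizer G (C, l)).index =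
      Nat.card P * (ProjectivePlane.order P L + 1) := by
    rw [← natCard_flags, index_eq_of_transitive (fun x : P × L => x.1 ∈ x.2)
      (fun g => smul_mem g hC)]
    rintro ⟨D, m⟩ hD
    obtain ⟨g, h1, h2⟩ := h2.flag hC hD
    exact ⟨g, Prod.ext h1 h2⟩
  have h := pVal_add_index p (MulAction.stabilizer G (C, l))
  obtain ⟨f1, f2, -⟩ := fact_pointsCard hp hn ha
  have hN : Nat.card P ≠ 0 := by rw [card_points_nat (L := L)]; omega
  rw [hidx, Nat.factorization_mul hN (by omega)] at h
  simpa [f1, f2] using h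

lemma pVal_antiflag (h2 : TwoTrans G P) (hp : p.Prime) (hn : ProjectivePlane.order P L = p ^ a)
    (ha : 0 < a) {C : P} {l : L} (hC : C ∉ l) :
    pVal p (MulAction.stabilizer G (C, l)) + 2 * a = pVal p G := by
  have hidx : (MulAction.stabilizer G (C, l)).index =
      Nat.card P * ProjectivePlane.order P L ^ 2 := by
    rw [← natCard_antiflags, index_eq_of_transitive (fun x : P × L => x.1 ∉ x.2)
      (fun g => smul_not_mem g hC)]
    rintro ⟨D, m⟩ hD
    obtain ⟨g, h1, h2⟩ := h2.antiflag hC hD
    exact ⟨g, Prod.ext h1 h2⟩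
  have h := pVal_add_index p (MulAction.stabilizer G (C, l))
  obtain ⟨f1, -, f3⟩ := fact_pointsCard hp hn ha
  have hN : Nat.card P ≠ 0 := by rw [card_points_nat (L := L)]; omega
  have hn0 : ProjectivePlane.order P L ≠ 0 := by
    have := two_le_order (P := P) (L := L); omega
  rw [hidx, Nat.factorization_mul hN (pow_ne_zero 2 hn0), Nat.factorization_pow] at h
  simpa [f1, f3] using h

lemma pVal_pair (h2 : TwoTrans G P) (hp : p.Prime) (hn : ProjectivePlane.order P L = p ^ a)
    (ha : 0 < a) {C D : P} (hC : C ≠ D) :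
    pVal p (MulAction.stabilizer G (C, D)) + a = pVal p G := by
  have hidx : (MulAction.stabilizer G (C, D)).index =
      Nat.card P * (ProjectivePlane.order P L * (ProjectivePlane.order P L + 1)) := by
    rw [index_eq_of_transitive (fun x : P × P => x.1 ≠ x.2)
      (fun g => (MulAction.injective g).ne hC), natCard_offdiag]
    · have hc := card_points_nat (P := P) (L := L)
      rw [← Nat.mul_sub_one]
      congr 1
      rw [hc, pow_two, mul_add, mul_one]
      omega
    rintro ⟨x, y⟩ hxy
    obtain ⟨g, h1, h2⟩ := h2 C D x y hC hxy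
    exact ⟨g, Prod.ext h1 h2⟩
  have h := pVal_add_index p (MulAction.stabilizer G (C, D))
  obtain ⟨f1, f2, f3⟩ := fact_pointsCard hp hn ha
  have hN : Nat.card P ≠ 0 := by rw [card_points_nat (L := L)]; omega
  have hn0 : ProjectivePlane.order P L ≠ 0 := by
    have := two_le_order (P := P) (L := L); omega
  rw [hidx, Nat.factorization_mul hN (mul_ne_zero hn0 (by omega)),
    Nat.factorization_mul hn0 (by omega)] at h
  simpa [f1, f2, f3] using h

end Val

lemma natCard_on_ne (l : L) {C : P} (hC : C ∈ l) :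
    Nat.card {x : P // x ∈ l ∧ x ≠ C} = ProjectivePlane.order P L := by
  classical
  have := Fintype.ofFinite P
  have h1 := natCard_points_on (P := P) l
  rw [Nat.card_eq_fintype_card, Fintype.card_subtype] at h1 ⊢
  rw [show (Finset.univ.filter fun p : P => p ∈ l ∧ p ≠ C) =
    (Finset.univ.filter fun p : P => p ∈ l).erase C by ext; simp [and_comm],
    Finset.card_erase_of_mem (by simpa using hC), h1, Nat.add_sub_cancel]

/-- A 2-transitive collineation group of a plane of prime power order has a central element. -/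
theorem hasCentral_of_prime_pow (h2 : TwoTrans G P) {p a : ℕ} (hp : p.Prime)
    (hn : ProjectivePlane.order P L = p ^ a) : HasCentral G P L := by
  classical
  by_contra hnc
  have hnc' : ∀ (g : G) (C : P) (l : L), Axial g C l → g = 1 := fun g C l h =>
    by_contra fun hg => hnc ⟨g, C, l, hg, h⟩
  have := Fact.mk hp
  have ha : 0 < a := by
    rcases Nat.eq_zero_or_pos a with rfl | h
    · have := two_le_order (P := P) (L := L)
      rw [hn, pow_zero] at this
      omega
    · exact h
  have h2L : TwoTrans G (Dual L) := h2.dual (P := P)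
  have hnL : ProjectivePlane.order (Dual L) (Dual P) = p ^ a := by
    rw [ProjectivePlane.Dual.order]; exact hn
  -- Sylow subgroups of flag stabilisers
  have key : ∀ (X : P) (m : L), X ∈ m → ∀ T : Subgroup G,
      Nat.card T = p ^ pVal p G → T ≤ MulAction.stabilizer G (X, m) →
        ∀ z : G, z ∈ T → z ≠ 1 → (∀ t ∈ T, t * z = z * t) → ∀ R : P, z • R = R → R = X := by
    intro X m hXm T hT hTle z hzT hz hzc
    have hTX : ∀ t ∈ T, t • X = X ∧ t • m = m := fun t ht => Prod.mk.inj (hTle ht)
    have hva : a ≤ pVal p G := by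
      obtain ⟨x, hx, hxX⟩ := exists_mem_ne m X
      have := pVal_pair h2 hp hn ha hxX
      omega
    have hon : ∀ Q, Q ∈ m → Q ≠ X → z • Q ≠ Q := by
      intro Q hQ hQX hzQ
      have hax : IsAxis z m := by
        intro R hR
        rcases eq_or_ne R X with rfl | hRX
        · exact (hTX z hzT).1
        obtain ⟨t, ht, rfl⟩ := transitive_of_stab (p := p) (a := a) (t := pVal p G - a) T
          (by rw [hT]; congr 1; omega) (fun x : P => x ∈ m ∧ x ≠ X)
          (fun t ht x hx => ⟨(smul_mem_iff_of_fix (hTX t ht).2 x).mpr hx.1,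
            fun e => hx.2 (MulAction.injective t (e.trans (hTX t ht).1.symm))⟩)
          (by rw [natCard_on_ne m hXm, hn]) (x := Q) ⟨hQ, hQX⟩
          (MulAction.stabilizer G (X, Q))
          (fun t ht hfix => Prod.ext (hTX t ht).1 hfix)
          (by
            have := pVal_pair h2 hp hn ha hQX.symm
            unfold pVal at this ⊢
            omega) ⟨hR, hRX⟩
        rw [← mul_smul, ← hzc t ht, mul_smul, hzQ]
      obtain ⟨C, hC⟩ := hax.exists_centre
      exact hz (hnc' z C m ⟨hax, hC⟩)
    have hln : ∀ k : L, X ∈ k → k ≠ m → z • k ≠ k := by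
      intro k hk hkm hzk
      have hcen : IsCentre L z X := by
        intro R hR
        rcases eq_or_ne R m with rfl | hRm
        · exact (hTX z hzT).2
        obtain ⟨t, ht, rfl⟩ := transitive_of_stab (p := p) (a := a) (t := pVal p G - a) T
          (by rw [hT]; congr 1; omega) (fun x : L => X ∈ x ∧ x ≠ m)
          (fun t ht x hx => ⟨(mem_smul_iff_of_fix (hTX t ht).1 x).mpr hx.1,
            fun e => hx.2 (MulAction.injective t (e.trans (hTX t ht).2.symm))⟩)
          (by rw [← hnL]; exact natCard_on_ne (P := Dual L) (L := Dual P) X hXm) (x := k) ⟨hk, hkm⟩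
          (MulAction.stabilizer G (m, k))
          (fun t ht hfix => Prod.ext (hTX t ht).2 hfix)
          (by
            have : pVal p (MulAction.stabilizer G (m, k)) + a = pVal p G :=
              pVal_pair (P := Dual L) (L := Dual P) h2L hp hnL ha (C := m) (D := k) hkm.symm
            unfold pVal at this ⊢
            omega) ⟨hR, hRm⟩
        rw [← mul_smul, ← hzc t ht, mul_smul, hzk]
      obtain ⟨l, hl⟩ := hcen.exists_axis
      exact hz (hnc' z X l ⟨hl, hcen⟩)
    intro R hzR
    by_contra hRX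
    by_cases hRm : R ∈ m
    · exact hon R hRm hRX hzR
    · exact hln (lineThru L X R) (left_mem_lineThru X R)
        (fun e => hRm (e ▸ right_mem_lineThru X R))
        (lineThru_fixed (Ne.symm hRX) (hTX z hzT).1 hzR)
  -- central elements of such Sylow subgroups
  have sylow : ∀ (X : P) (m : L), X ∈ m → ∀ Y : Subgroup G, IsPGroup p Y →
      Y ≤ MulAction.stabilizer G (X, m) → ∃ T : Subgroup G, Nat.card T = p ^ pVal p G ∧ Y ≤ T ∧
        T ≤ MulAction.stabilizer G (X, m) := by
    intro X m hXm Y hY hYle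
    obtain ⟨T, hT⟩ := (hY.comap_subtype (K := MulAction.stabilizer G (X, m))).exists_le_sylow
    refine ⟨T.toSubgroup.map (Subgroup.subtype _), ?_, ?_, Subgroup.map_subtype_le _⟩
    · rw [Subgroup.card_map_of_injective (Subgroup.subtype_injective _), T.card_eq_multiplicity]
      congr 1
      exact pVal_flag h2 hp hn ha hXm
    · intro y hy
      exact ⟨⟨y, hYle hy⟩, hT hy, rfl⟩
  have centre : ∀ T : Subgroup G, Nat.card T = p ^ pVal p G → 0 < pVal p G →
      ∃ z : G, z ∈ T ∧ z ≠ 1 ∧ (∃ k : ℕ, z ^ p ^ k = 1) ∧ (∀ t ∈ T, t * z = z * t) ∧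
        z ^ p = 1 := by
    intro T hT hpos
    have hTp : IsPGroup p T := IsPGroup.of_card hT
    have : Nontrivial T := (Finite.one_lt_card_iff_nontrivial).mp
      (by rw [hT]; exact Nat.one_lt_pow hpos.ne' hp.one_lt)
    have hcn := hTp.center_nontrivial
    obtain ⟨z, hz⟩ := exists_prime_orderOf_dvd_card' (G := Subgroup.center T) p
      (by
        obtain ⟨n, hn⟩ := IsPGroup.iff_card.mp (hTp.to_subgroup (Subgroup.center T))
        rw [hn]
        refine dvd_pow_self p fun e => ?_
        rw [e, pow_zero] at hn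
        exact absurd (Finite.one_lt_card_iff_nontrivial.mpr hcn) (by omega))
    have hz1 : z ^ p = 1 := hz ▸ pow_orderOf_eq_one z
    have hzp : ((z : T) : G) ^ p = 1 := by
      have := congrArg (fun y : Subgroup.center T => ((y : T) : G)) hz1
      simpa using this
    refine ⟨((z : T) : G), (z : T).2, ?_, ⟨1, by rwa [pow_one]⟩, ?_, hzp⟩
    · intro e
      have : z = 1 := Subtype.ext (Subtype.ext e)
      rw [this, orderOf_one] at hz
      exact hp.ne_one hz.symm
    · intro t ht
      exact congrArg Subtype.val (Subgroup.mem_center_iff.mp z.2 ⟨t, ht⟩)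
  -- the basic flag
  obtain ⟨m⟩ := nonempty_line (L := L) P
  obtain ⟨P₀, Q, hP₀, hQ, hPQ⟩ := exists_two_mem (P := P) m
  have hv : a ≤ pVal p G := by
    have := pVal_pair h2 hp hn ha hPQ
    omega
  obtain ⟨S, hS, -, hSle⟩ := sylow P₀ m hP₀ ⊥ IsPGroup.of_bot bot_le
  have hSfix : ∀ s ∈ S, s • P₀ = P₀ ∧ s • m = m := fun s hs => Prod.mk.inj (hSle hs)
  obtain ⟨z, hzS, hz, -, hzc, hzp⟩ := centre S hS (by omega)
  have hzfix := key P₀ m hP₀ S hS hSle z hzS hz hzc
  rcases eq_or_ne p 2 with rfl | hp2
  · obtain ⟨C, l, hax⟩ := IsInv.central_of_not_quad (P := P) (L := L) (g := z)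
      ⟨hz, by rwa [pow_two] at hzp⟩ (by
        rintro ⟨a, b, c, d, ha, hb, hc, -, habc, -, -, -⟩
        exact habc (lineThru L a c) (left_mem_lineThru a c)
          (hzfix b hb ▸ (hzfix a ha ▸ left_mem_lineThru a c)) (right_mem_lineThru a c))
    exact hz (hnc' z C l hax)
  -- the stabiliser `Y` of `Q` in `S`
  set Y : Subgroup G := S ⊓ MulAction.stabilizer G Q with hYdef
  have hStrans : ∀ {R : P}, R ∈ m → R ≠ P₀ → ∃ s ∈ S, s • Q = R := by
    intro R hR hRP
    exact transitive_of_stab (p := p) (a := a) (t := pVal p G - a) S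
      (by rw [hS]; congr 1; omega) (fun x : P => x ∈ m ∧ x ≠ P₀)
      (fun t ht x hx => ⟨(smul_mem_iff_of_fix (hSfix t ht).2 x).mpr hx.1,
        fun e => hx.2 (MulAction.injective t (e.trans (hSfix t ht).1.symm))⟩)
      (by rw [natCard_on_ne m hP₀, hn]) (x := Q) ⟨hQ, hPQ.symm⟩
      (MulAction.stabilizer G (P₀, Q))
      (fun t ht hfix => Prod.ext (hSfix t ht).1 hfix)
      (by
        have := pVal_pair h2 hp hn ha hPQ
        unfold pVal at this ⊢
        omega) ⟨hR, hRP⟩
  have hYp : IsPGroup p Y := (IsPGroup.of_card hS).to_le inf_le_left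
  have hYcard : Nat.card Y = p ^ (pVal p G - a) := by
    let hS' : ∀ t ∈ S, ∀ x : P, x ∈ m ∧ x ≠ P₀ → t • x ∈ m ∧ t • x ≠ P₀ :=
      fun t ht x hx => ⟨(smul_mem_iff_of_fix (hSfix t ht).2 x).mpr hx.1,
        fun e => hx.2 (MulAction.injective t (e.trans (hSfix t ht).1.symm))⟩
    let := subAction S (fun x : P => x ∈ m ∧ x ≠ P₀) hS'
    let Q' : {x : P // x ∈ m ∧ x ≠ P₀} := ⟨Q, hQ, hPQ.symm⟩
    have h1 := Subgroup.card_mul_index (MulAction.stabilizer S Q')
    have htr : MulAction.orbit S Q' = Set.univ := by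
      ext ⟨R, hR⟩
      simp only [Set.mem_univ, iff_true]
      obtain ⟨s, hs, h⟩ := hStrans hR.1 hR.2
      exact ⟨⟨s, hs⟩, Subtype.ext h⟩
    rw [MulAction.index_stabilizer, htr, Set.ncard_univ, natCard_on_ne m hP₀, hn, hS] at h1
    have h3 : Nat.card (MulAction.stabilizer S Q') = Nat.card Y := by
      rw [← Subgroup.card_map_of_injective S.subtype_injective]
      congr! 2
      ext g
      constructor
      · rintro ⟨s, hs, rfl⟩
        exact ⟨s.2, congrArg Subtype.val hs⟩
      · rintro ⟨hg, hgQ⟩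
        exact ⟨⟨g, hg⟩, Subtype.ext hgQ, rfl⟩
    rw [h3, show pVal p G = (pVal p G - a) + a by omega, pow_add] at h1
    exact Nat.eq_of_mul_eq_mul_right (pow_pos hp.pos a) h1
  let F : P → Prop := fun R => ∀ y ∈ Y, y • R = R
  have hFP : F P₀ := fun y hy => (hSfix y hy.1).1
  have hFQ : F Q := fun y hy => hy.2
  -- `Y` is transitive on the lines through a fixed point other than `m`
  have hYlines : ∀ {X X' : P}, F X → F X' → X ≠ X' → X ∈ m → X' ∈ m →
      ∀ {k k' : L}, X ∈ k → k ≠ m → X ∈ k' → k' ≠ m → ∃ y ∈ Y, y • k = k' := by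
    intro X X' hFX hFX' hne hX hX' k k' hk hkm hk' hkm'
    have hX'k : X' ∉ k := fun e => hkm (line_eq hne hk e hX hX')
    by_cases hvv : 2 * a ≤ pVal p G
    · exact transitive_of_stab (p := p) (a := a) (t := pVal p G - 2 * a) Y
        (by rw [hYcard]; congr 1; omega) (fun x : L => X ∈ x ∧ x ≠ m)
        (fun t ht x hx => ⟨(mem_smul_iff_of_fix (hFX t ht) x).mpr hx.1,
          fun e => hx.2 (MulAction.injective t (e.trans (hSfix t ht.1).2.symm))⟩)
        (by rw [← hnL]; exact natCard_on_ne (P := Dual L) (L := Dual P) X hX) (x := k) ⟨hk, hkm⟩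
        (MulAction.stabilizer G (X', k))
        (fun t ht hfix => Prod.ext (hFX' t ht) hfix)
        (by
          have := pVal_antiflag h2 hp hn ha hX'k
          unfold pVal at this ⊢
          omega) ⟨hk', hkm'⟩
    · exfalso
      have := pVal_antiflag h2 hp hn ha hX'k
      omega
  have hFm : ∀ {R : P}, F R → R ∈ m := by
    intro R hR
    by_contra hRm
    have hRQ : Q ≠ R := ne_of_mem_of_not_mem hQ hRm
    set k := lineThru L Q R
    have hkm : k ≠ m := fun e => hRm (e ▸ right_mem_lineThru Q R)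
    obtain ⟨k', hk', hk'm, hk'k⟩ := exists_line_ne_ne Q m k
    obtain ⟨y, hy, hyk⟩ := hYlines hFQ hFP hPQ.symm hQ hP₀ (left_mem_lineThru Q R) hkm hk' hk'm
    exact hk'k (hyk ▸ smul_eq_of_two_pts hRQ (hFQ y hy) (hR y hy) (left_mem_lineThru Q R)
      (right_mem_lineThru Q R))
  set C := Subgroup.centralizer (Y : Set G) with hC
  have hCF : ∀ g ∈ C, ∀ x, F x → F (g • x) := by
    intro g hg x hx y hy
    rw [← mul_smul, Subgroup.mem_centralizer_iff.mp hg y hy, mul_smul, hx y hy]
  -- `C` is transitive on `F`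
  have hCtrans : ∀ {x y : P}, F x → F y → ∃ g ∈ C, g • x = y := by
    intro x y hx hy
    refine gleason (p := p) C F hCF (fun X hX => ?_) hx hy
    obtain ⟨T, hT, hYT, hTle⟩ := sylow X m (hFm hX) Y hYp
      (fun y hy => Prod.ext (hX y hy) (hSfix y hy.1).2)
    obtain ⟨w, hwT, hw, hwp, hwc, -⟩ := centre T hT (by omega)
    refine ⟨w, Subgroup.mem_centralizer_iff.mpr fun y hy => hwc y (hYT hy), hwp,
      (Prod.mk.inj (hTle hwT)).1, fun R _ hR => ?_⟩
    exact key X m (hFm hX) T hT hTle w hwT hw hwc R hR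
  -- the size of `F` is even
  have hFeven : 2 ∣ Nat.card {x : P // F x} := by
    let N : Subgroup G := S ⊓ Subgroup.normalizer (Y : Set G)
    have hNF : ∀ g ∈ N, ∀ x, F x ∧ x ≠ P₀ → F (g • x) ∧ g • x ≠ P₀ := by
      intro g hg x hx
      refine ⟨fun y hy => ?_, fun e => hx.2 (MulAction.injective g
        (e.trans (hSfix g hg.1).1.symm))⟩
      have h3 : g⁻¹ * y * g ∈ Y := by
        have h4 := (Subgroup.mem_normalizer_iff.mp (inv_mem hg.2) y).mp hy
        rwa [inv_inv] at h4
      have h5 := hx.1 _ h3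
      rwa [mul_smul, mul_smul, inv_smul_eq_iff] at h5
    let := subAction N (fun x => F x ∧ x ≠ P₀) hNF
    let Q' : {x : P // F x ∧ x ≠ P₀} := ⟨Q, hFQ, hPQ.symm⟩
    have htr : MulAction.orbit N Q' = Set.univ := by
      ext ⟨R, hR, hRP⟩
      simp only [Set.mem_univ, iff_true]
      obtain ⟨s, hs, hsR⟩ := hStrans (hFm hR) hRP
      have hmap : ∀ y ∈ Y, s⁻¹ * y * s ∈ Y := fun y hy =>
        ⟨S.mul_mem (S.mul_mem (inv_mem hs) hy.1) hs, by
          show (s⁻¹ * y * s) • Q = Q
          rw [mul_smul, mul_smul, hsR, hR y hy, inv_smul_eq_iff, hsR]⟩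
      have hns : s⁻¹ ∈ Subgroup.normalizer (Y : Set G) := by
        have hle : Y.map (MulAut.conj s⁻¹).toMonoidHom ≤ Y := by
          rintro _ ⟨y, hy, rfl⟩
          simpa using hmap y hy
        have heq := Subgroup.eq_of_le_of_card_ge hle
          (Subgroup.card_map_of_injective (MulAut.conj s⁻¹).injective).ge
        rw [Subgroup.mem_normalizer_iff]
        intro y
        constructor
        · intro hy
          simpa using hmap y hy
        · intro hy
          rw [← heq] at hy
          obtain ⟨y', hy', he⟩ := hy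
          rwa [← (MulAut.conj s⁻¹).injective
            (show MulAut.conj s⁻¹ y' = MulAut.conj s⁻¹ y by simpa using he)]
      exact ⟨⟨s, hs, by simpa using inv_mem hns⟩, Subtype.ext hsR⟩
    obtain ⟨j, hj⟩ := IsPGroup.iff_card.mp
      ((IsPGroup.of_card hS).to_le (inf_le_left : N ≤ S))
    have h1 := Subgroup.card_mul_index (MulAction.stabilizer N Q')
    rw [MulAction.index_stabilizer, htr, Set.ncard_univ, hj] at h1
    obtain ⟨i, -, hi⟩ := (Nat.dvd_prime_pow hp).mp (Dvd.intro_left _ h1)
    have := Fintype.ofFinite P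
    have h4 : (Finset.univ.filter fun x : P => F x ∧ x ≠ P₀) =
        (Finset.univ.filter fun x : P => F x).erase P₀ := by
      ext x; simp [and_comm]
    rw [Nat.card_eq_fintype_card, Fintype.card_subtype, h4,
      Finset.card_erase_of_mem (by simpa using hFP)] at hi
    rw [Nat.card_eq_fintype_card, Fintype.card_subtype]
    have hodd : ¬ 2 ∣ p ^ i := fun h => hp2 ((Nat.prime_dvd_prime_iff_eq Nat.prime_two hp).mp
      (Nat.prime_two.dvd_of_dvd_pow h)).symm
    have : 0 < (Finset.univ.filter fun x : P => F x).card :=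
      Finset.card_pos.mpr ⟨P₀, by simpa using hFP⟩
    omega
  -- an involution centralising `Y`
  obtain ⟨u, hu⟩ : ∃ u : C, orderOf u = 2 := by
    have := Fact.mk Nat.prime_two
    refine exists_prime_orderOf_dvd_card' 2 ?_
    let := subAction C F hCF
    let P' : {x : P // F x} := ⟨P₀, hFP⟩
    have htr : MulAction.orbit C P' = Set.univ := by
      ext ⟨R, hR⟩
      simp only [Set.mem_univ, iff_true]
      obtain ⟨g, hg, h⟩ := hCtrans hFP hR
      exact ⟨⟨g, hg⟩, Subtype.ext h⟩
    have h1 := Subgroup.card_mul_index (MulAction.stabilizer C P')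
    rw [MulAction.index_stabilizer, htr, Set.ncard_univ] at h1
    exact h1 ▸ dvd_mul_of_dvd_right hFeven _
  have huinv : IsInv (u : G) := by
    refine ⟨fun e => ?_, ?_⟩
    · have : u = 1 := Subtype.ext e
      rw [this, orderOf_one] at hu
      omega
    · have := congrArg Subtype.val (hu ▸ pow_orderOf_eq_one u : u ^ 2 = 1)
      simpa [pow_two] using this
  have hucomm : ∀ y ∈ Y, y * (u : G) = (u : G) * y := fun y hy =>
    Subgroup.mem_centralizer_iff.mp u.2 y hy
  have hquad : HasQuad L fun x : P => (u : G) • x = x := by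
    by_contra h
    obtain ⟨C', l, hax⟩ := huinv.central_of_not_quad (P := P) (L := L) h
    exact huinv.1 (hnc' _ C' l hax)
  have hum : (u : G) • m = m :=
    line_eq ((MulAction.injective (u : G)).ne hPQ) (smul_mem _ hP₀) (smul_mem _ hQ)
      (hFm (hCF _ u.2 _ hFP)) (hFm (hCF _ u.2 _ hFQ))
  have hnofix : ∀ X, F X → (u : G) • X ≠ X := by
    intro X hX hfix
    obtain ⟨X', hX'F, hX'ne⟩ : ∃ X', F X' ∧ X' ≠ X := by
      rcases eq_or_ne X P₀ with rfl | h
      · exact ⟨Q, hFQ, hPQ.symm⟩
      · exact ⟨P₀, hFP, Ne.symm h⟩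
    have hpar : 0 < Nat.card {k : L // (X ∈ k ∧ k ≠ m) ∧ (u : G) • k = k} := by
      have hmod := natCard_modEq_fixed_elem (p := 2) (k := 1) (g := (u : G))
        (by rw [pow_one, pow_two, huinv.2]) (fun k : L => X ∈ k ∧ k ≠ m)
        (fun k hk => ⟨(mem_smul_iff_of_fix hfix k).mpr hk.1,
          fun e => hk.2 (MulAction.injective (u : G) (e.trans hum.symm))⟩)
      have hnn : Nat.card {k : L // X ∈ k ∧ k ≠ m} = ProjectivePlane.order P L := by
        rw [← ProjectivePlane.Dual.order]
        exact natCard_on_ne (P := Dual L) (L := Dual P) X (hFm hX)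
      rw [hnn, hn, Nat.ModEq] at hmod
      have : p ^ a % 2 = 1 := by
        simp [Nat.pow_mod, hp.eq_two_or_odd.resolve_left hp2]
      omega
    obtain ⟨⟨k, ⟨hk, hkm⟩, huk⟩⟩ := (Nat.card_pos_iff.mp hpar).1
    have hcen : IsCentre L (u : G) X := by
      intro R hR
      rcases eq_or_ne R m with rfl | hRm
      · exact hum
      obtain ⟨y, hy, rfl⟩ := hYlines hX hX'F hX'ne.symm (hFm hX) (hFm hX'F) hk hkm hR hRm
      rw [← mul_smul, ← hucomm y hy, mul_smul, huk]
    obtain ⟨l, hl⟩ := hcen.exists_axis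
    exact huinv.1 (hnc' _ X l ⟨hl, hcen⟩)
  have hq' : HasQuad L fun x : P => ∀ h ∈ Subgroup.zpowers (u : G), h • x = x := by
    simpa only [forall_zpowers_iff] using hquad
  obtain ⟨k, -, hk, hline⟩ := exists_subOrder _ hq'
  simp only [forall_zpowers_iff] at hk hline
  have hsq := huinv.baer hquad hk
  have hmod := natCard_modEq_fixed Y hYp (fun x : P => x ∈ m ∧ (u : G) • x = x)
    (fun y hy x hx => ⟨(smul_mem_iff_of_fix (hSfix y hy.1).2 x).mpr hx.1, by
      rw [← mul_smul, ← hucomm y hy, mul_smul, hx.2]⟩)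
  rw [hline m hum, show Nat.card {x : P // (x ∈ m ∧ (u : G) • x = x) ∧ ∀ y ∈ Y, y • x = x} = 0 from
    Nat.card_eq_zero.mpr (Or.inl ⟨fun x => hnofix x.1 x.2.2 x.2.1.2⟩)] at hmod
  have hpk : p ∣ k := hp.dvd_of_dvd_pow (n := 2) (hsq ▸ hn ▸ dvd_pow_self p ha.ne')
  exact hp.not_dvd_one ((Nat.dvd_add_right hpk).mp (Nat.modEq_zero_iff_dvd.mp hmod))

end Cfsg.Agent.OW
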