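import Cfsg.Agent.Lib.OstromWagner.KOdd
import Cfsg.Agent.Lib.OstromWagner.PrimePow

/-!
# Existence of elations

A finite projective plane whose collineation group is 2-transitive on points has a nontrivial
elation, by induction on the order: otherwise all involutions are Baer involutions and a maximal
2-group fixing a quadrangle reduces the order to a prime power.
-/

set_option autoImplicit false
set_option linter.unusedSectionVars false

namespace Cfsg.Agent.OW

open Configuration

universe u v

variable {G P L : Type*} [Group G] [MulAction G P] [MulAction G L] [Membership P L]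
  [ProjectivePlane P L] [Finite P] [Finite L] [Coll G P L] [Finite G]

lemma index_stabilizer_pair {X : Type*} [MulAction G X] [Finite X] (h : TwoTrans G X) {a b : X}
    (hab : a ≠ b) :
    (MulAction.stabilizer G (a, b)).index = Nat.card X * Nat.card X - Nat.card X := by
  rw [index_eq_of_transitive (fun x : X × X => x.1 ≠ x.2)
    (fun g => (MulAction.injective g).ne hab), natCard_offdiag]
  rintro ⟨c, d⟩ hcd
  obtain ⟨g, h1, h2⟩ := h a b c d hab hcd
  exact ⟨g, Prod.ext h1 h2⟩

lemma natCard_stabilizer_pair {X Y : Type*} [MulAction G X] [Finite X] [MulAction G Y] [Finite Y]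
    (hX : TwoTrans G X) (hY : TwoTrans G Y) (hc : Nat.card X = Nat.card Y) {a b : X} (hab : a ≠ b)
    {c d : Y} (hcd : c ≠ d) :
    Nat.card (MulAction.stabilizer G (a, b)) = Nat.card (MulAction.stabilizer G (c, d)) := by
  have h1 := Subgroup.card_mul_index (MulAction.stabilizer G (a, b))
  have h2 := Subgroup.card_mul_index (MulAction.stabilizer G (c, d))
  rw [index_stabilizer_pair hX hab] at h1
  rw [index_stabilizer_pair hY hcd, ← hc] at h2
  have : 0 < Nat.card X * Nat.card X - Nat.card X := by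
    rw [← index_stabilizer_pair (G := G) hX hab]
    exact Nat.pos_of_ne_zero Subgroup.index_ne_zero_of_finite
  exact Nat.eq_of_mul_eq_mul_right this (h1.trans h2.symm)

/-- A 2-transitive group has even order. -/
lemma TwoTrans.two_dvd_card (h2 : TwoTrans G P) (m : L) : 2 ∣ Nat.card G := by
  obtain ⟨A, B, -, -, hne⟩ := exists_two_mem (P := P) m
  have h := Subgroup.index_dvd_card (MulAction.stabilizer G (A, B))
  rw [index_stabilizer_pair h2 hne, ← Nat.mul_sub_one] at h
  refine dvd_trans ?_ h
  rw [card_points_nat (L := L), Nat.add_sub_cancel]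
  refine dvd_mul_of_dvd_right ?_ _
  rw [pow_two, ← Nat.mul_succ]
  exact (Nat.even_mul_succ_self _).two_dvd

/-- The reduction: without central collineations, the order is a prime power. -/
theorem prime_pow_of_no_central (h2 : TwoTrans G P) (hnc : ¬ HasCentral G P L)
    (ih : ∀ (U : Subgroup G),
      ∀ [ProjectivePlane (FixSet U P) (FixSet U L)],
        ProjectivePlane.order (FixSet U P) (FixSet U L) < ProjectivePlane.order P L →
        TwoTrans (Col (FixSet U P) (FixSet U L)) (FixSet U P) →
          HasElation (Col (FixSet U P) (FixSet U L)) (FixSet U P) (FixSet U L)) :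
    ∃ p a : ℕ, p.Prime ∧ ProjectivePlane.order P L = p ^ a := by
  classical
  have := Fintype.ofFinite G
  have := Fact.mk Nat.prime_two
  let Q2 : Finset (Subgroup G) := Finset.univ.filter fun V =>
    IsPGroup 2 V ∧ HasQuad L fun x : P => ∀ g ∈ V, g • x = x
  obtain ⟨u, hu⟩ := exists_prime_orderOf_dvd_card' 2 (h2.two_dvd_card (nonempty_line (L := L) P).some)
  have huinv : IsInv u := by
    refine ⟨fun e => ?_, ?_⟩
    · rw [e, orderOf_one] at hu; omega
    · have h3 := pow_orderOf_eq_one u
      rwa [hu, pow_two] at h3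
  have hmemu : Subgroup.zpowers u ∈ Q2 := by
    refine Finset.mem_filter.mpr ⟨Finset.mem_univ _,
      isPGroup_zpowers (k := 1) (by rw [pow_one, pow_two, huinv.2]), ?_⟩
    simp only [forall_zpowers_iff]
    by_contra hq
    obtain ⟨C, l, hax⟩ := huinv.central_of_not_quad (P := P) (L := L) hq
    exact hnc ⟨u, C, l, huinv.1, hax⟩
  obtain ⟨U, hU, hmax⟩ := Q2.exists_max_image (fun V => Nat.card V) ⟨_, hmemu⟩
  simp only [Q2, Finset.mem_filter, Finset.mem_univ, true_and] at hU hmax
  obtain ⟨hUp, hUq⟩ := hU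
  have hU2 : ∃ h ∈ U, h ≠ 1 := by
    by_contra hc
    push Not at hc
    have h1 := hmax _ (by simpa [Q2] using hmemu)
    rw [Nat.card_zpowers, hu, (Subgroup.eq_bot_iff_forall U).mpr hc, Subgroup.card_bot] at h1
    omega
  obtain ⟨k, hk2, hk, -⟩ := exists_subOrder U hUq
  have hlt := subOrder_lt (P := P) (L := L) U hU2 hk
  let := subPlane U hUq
  have hordF : ProjectivePlane.order (FixSet U P) (FixSet U L) = k :=
    order_inj ((card_points_nat (P := FixSet U P) (L := FixSet U L)).symm.trans hk)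
  suffices hk' : ∃ p a : ℕ, p.Prime ∧ 0 < a ∧ k = p ^ a by
    obtain ⟨p, a, hp, -, rfl⟩ := hk'
    obtain ⟨i, hi⟩ := exists_pow_of_two_group U hUp (P := P) (L := L) (k := p ^ a)
      (by
        obtain ⟨a, b, c, d, ha, hb, hc, hd, h⟩ := hUq
        exact ⟨a, b, c, d, fun g => ha g g.2, fun g => hb g g.2, fun g => hc g g.2,
          fun g => hd g g.2, h⟩)
      (by
        rw [← hk]
        exact Nat.card_congr (Equiv.subtypeEquivRight fun x =>
          ⟨fun h g hg => h ⟨g, hg⟩, fun h g => h g g.2⟩))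
    exact ⟨p, a * 2 ^ i, hp, by rw [hi, pow_mul]⟩
  -- the normaliser of `U` acts on the fixed plane
  set N := Subgroup.normalizer (U : Set G) with hN
  have hUN : U ≤ N := Subgroup.le_normalizer
  obtain ⟨j, hj⟩ := IsPGroup.iff_card.mp hUp
  let act : MulAction N (FixSet U P) :=
    { smul := fun g x => ⟨(g : G) • x.1, fun h hh => by
        have h3 := x.2 _ ((Subgroup.mem_normalizer_iff.mp (inv_mem g.2) h).mp hh)
        rwa [inv_inv, mul_smul, mul_smul, inv_smul_eq_iff] at h3⟩
      one_smul := fun x => Subtype.ext (one_smul G x.1)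
      mul_smul := fun g g' x => Subtype.ext (mul_smul (g : G) (g' : G) x.1) }
  let actL : MulAction N (FixSet U L) :=
    { smul := fun g x => ⟨(g : G) • x.1, fun h hh => by
        have h3 := x.2 _ ((Subgroup.mem_normalizer_iff.mp (inv_mem g.2) h).mp hh)
        rwa [inv_inv, mul_smul, mul_smul, inv_smul_eq_iff] at h3⟩
      one_smul := fun x => Subtype.ext (one_smul G x.1)
      mul_smul := fun g g' x => Subtype.ext (mul_smul (g : G) (g' : G) x.1) }
  have hsmul : ∀ (g : N) (x : FixSet U P), (g • x).1 = (g : G) • x.1 := fun _ _ => rfl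
  let : IsColl N (FixSet U P) (FixSet U L) :=
    ⟨fun g x l => IsColl.mem_iff (g : G) x.1 l.1⟩
  set φ := toCol N (FixSet U P) (FixSet U L) with hφ
  -- a larger 2-group cannot fix a quadrangle
  have hbig : ∀ g : N, (∃ m : ℕ, g ^ 2 ^ m = 1) → (g : G) ∉ U →
      ¬ HasQuad (FixSet U L) fun x : FixSet U P => g • x = x := by
    intro g ⟨m, hm⟩ hgU ⟨a, b, c, d, ha, hb, hc, hd, h1, h2, h3, h4⟩
    have hm' : (g : G) ^ 2 ^ m = 1 := by
      simpa using congrArg Subtype.val hm
    let V : Subgroup N := Subgroup.zpowers g ⊔ U.subgroupOf N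
    have hVp : IsPGroup 2 V :=
      (isPGroup_zpowers hm).to_sup_of_normal_right (hUp.comap_subtype)
    have hVfix : ∀ x : FixSet U P, g • x = x → ∀ w ∈ V.map N.subtype, w • x.1 = x.1 := by
      intro x hx w hw
      have : V.map N.subtype ≤ MulAction.stabilizer G x.1 := by
        rw [Subgroup.map_sup, sup_le_iff]
        refine ⟨?_, ?_⟩
        · rw [MonoidHom.map_zpowers, Subgroup.zpowers_le]
          exact congrArg Subtype.val hx
        · rintro _ ⟨y, hy, rfl⟩
          exact x.2 _ hy
      exact this hw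
    have nc : ∀ {x y z : FixSet U P}, NonCol (FixSet U L) x y z → NonCol L x.1 y.1 z.1 := by
      intro x y z hxyz l hx hy hz
      have hxy : x.1 ≠ y.1 := fun e => by
        obtain rfl : x = y := Subtype.ext e
        exact hxyz (lineThru (FixSet U L) x z) (left_mem_lineThru x z) (left_mem_lineThru x z)
          (right_mem_lineThru x z)
      exact hxyz ⟨l, fun h hh => smul_eq_of_two_pts hxy (x.2 h hh) (y.2 h hh) hx hy⟩ hx hy hz
    have hle := hmax (V.map N.subtype)
      ⟨hVp.map _, a.1, b.1, c.1, d.1, hVfix a ha, hVfix b hb, hVfix c hc, hVfix d hd, nc h1, nc h2,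
        nc h3, nc h4⟩
    have hUV : U ≤ V.map N.subtype := fun x hx =>
      ⟨⟨x, hUN hx⟩, Subgroup.mem_sup_right hx, rfl⟩
    have heq := Subgroup.eq_of_le_of_card_ge hUV hle
    exact hgU (heq ▸ ⟨g, Subgroup.mem_sup_left (Subgroup.mem_zpowers g), rfl⟩)
  have hcentral : ∀ x : φ.range, IsInv x →
      ∃ (C : FixSet U P) (l : FixSet U L), Axial x C l := by
    intro x hx
    obtain ⟨g, hg⟩ := x.2
    by_contra hno
    obtain ⟨m, r, hr, hmr⟩ := Nat.exists_eq_pow_mul_and_not_dvd (orderOf_pos g).ne' 2 (by norm_num)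
    have hxr : φ (g ^ r) = (x : Col (FixSet U P) (FixSet U L)) := by
      obtain ⟨t, rfl⟩ : ∃ t, r = 2 * t + 1 := ⟨r / 2, by omega⟩
      have hxx : (x : Col (FixSet U P) (FixSet U L)) * x = 1 := congrArg Subtype.val hx.2
      rw [map_pow, hg, pow_succ, pow_mul, pow_two, hxx, one_pow, one_mul]
    refine hbig (g ^ r) ⟨m, by rw [← pow_mul, mul_comm, ← hmr, pow_orderOf_eq_one]⟩ (fun hmem => ?_) ?_
    · refine hx.1 (Coll.faithful (P := FixSet U P) (L := FixSet U L) x fun y => ?_)
      show (x : Col (FixSet U P) (FixSet U L)) • y = y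
      rw [← hxr, toCol_smul_pt]
      exact Subtype.ext (y.2 _ hmem)
    · have hq : HasQuad (FixSet U L) fun y : FixSet U P => x • y = y :=
        by_contra fun hq => hno (hx.central_of_not_quad hq)
      obtain ⟨a, b, c, d, ha, hb, hc, hd, h⟩ := hq
      have hfix : ∀ y : FixSet U P, x • y = y → (g ^ r) • y = y := fun y hy => by
        rw [← toCol_smul_pt (L := FixSet U L) (g ^ r) y, ← hφ, hxr]
        exact hy
      exact ⟨a, b, c, d, hfix a ha, hfix b hb, hfix c hc, hfix d hd, h⟩
  -- pairs of fixed points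
  obtain ⟨A₀, B₀, hA₀, hB₀, hne₀⟩ : ∃ A B : P,
      (∀ g ∈ U, g • A = A) ∧ (∀ g ∈ U, g • B = B) ∧ A ≠ B := by
    obtain ⟨l⟩ := nonempty_line (L := FixSet U L) (FixSet U P)
    obtain ⟨A, B, -, -, hne⟩ := exists_two_mem (P := FixSet U P) l
    exact ⟨A.1, B.1, A.2, B.2, fun e => hne (Subtype.ext e)⟩
  have hle₀ : U ≤ MulAction.stabilizer G (A₀, B₀) := fun g hg => Prod.ext (hA₀ g hg) (hB₀ g hg)
  by_cases hsyl : 2 ^ (j + 1) ∣ Nat.card (MulAction.stabilizer G (A₀, B₀))
  swap
  · -- `U` is a Sylow subgroup of every two point stabiliser containing it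
    have hwitt : TwoTrans (Col (FixSet U P) (FixSet U L)) (FixSet U P) := by
      intro a b c d hab hcd
      obtain ⟨g, hga, hgb⟩ := h2 a.1 b.1 c.1 d.1 (fun e => hab (Subtype.ext e))
        (fun e => hcd (Subtype.ext e))
      set K := MulAction.stabilizer G (c.1, d.1)
      have hUK : U ≤ K := fun x hx => Prod.ext (c.2 x hx) (d.2 x hx)
      set U' := U.map (MulAut.conj g).toMonoidHom with hU'
      have hU'K : U' ≤ K := by
        rintro _ ⟨x, hx, rfl⟩
        refine Prod.ext ?_ ?_
        · show (g * x * g⁻¹) • c.1 = c.1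
          rw [← hga, mul_smul, mul_smul, inv_smul_smul, a.2 x hx]
        · show (g * x * g⁻¹) • d.1 = d.1
          rw [← hgb, mul_smul, mul_smul, inv_smul_smul, b.2 x hx]
      have hcardK : (Nat.card K).factorization 2 = j := by
        rw [natCard_stabilizer_pair h2 h2 rfl (fun e => hcd (Subtype.ext e)) hne₀]
        refine le_antisymm (not_lt.mp fun hgt => hsyl ?_) ?_
        · exact (Nat.prime_two.pow_dvd_iff_le_factorization Nat.card_pos.ne').mpr hgt
        · refine (Nat.prime_two.pow_dvd_iff_le_factorization Nat.card_pos.ne').mp ?_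
          exact hj ▸ Subgroup.card_dvd_of_le hle₀
      have h1 : Nat.card (U.subgroupOf K) = 2 ^ (Nat.card K).factorization 2 := by
        rw [Nat.card_congr (Subgroup.subgroupOfEquivOfLe hUK).toEquiv, hj, hcardK]
      have h1' : Nat.card (U'.subgroupOf K) = 2 ^ (Nat.card K).factorization 2 := by
        rw [Nat.card_congr (Subgroup.subgroupOfEquivOfLe hU'K).toEquiv, hU',
          Subgroup.card_map_of_injective (MulAut.conj g).injective, hj, hcardK]
      obtain ⟨y, hy⟩ := MulAction.exists_smul_eq K (Sylow.ofCard (U'.subgroupOf K) h1')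
        (Sylow.ofCard (U.subgroupOf K) h1)
      have hy' : ∀ z : K, (z : G) ∈ U' → (y : G) * z * (y : G)⁻¹ ∈ U := by
        intro z hz
        have hz' : y * z * y⁻¹ ∈ (y • Sylow.ofCard (U'.subgroupOf K) h1').toSubgroup :=
          ⟨z, hz, rfl⟩
        rw [hy] at hz'
        exact hz'
      have hn : (y : G) * g ∈ N := by
        have hle : U.map (MulAut.conj ((y : G) * g)).toMonoidHom ≤ U := by
          rintro _ ⟨x, hx, rfl⟩
          have hxK : g * x * g⁻¹ ∈ K := hU'K ⟨x, hx, rfl⟩
          have := hy' ⟨g * x * g⁻¹, hxK⟩ ⟨x, hx, rfl⟩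
          simpa [mul_assoc] using this
        have heq := Subgroup.eq_of_le_of_card_ge hle
          (Subgroup.card_map_of_injective (MulAut.conj ((y : G) * g)).injective).ge
        rw [hN, Subgroup.mem_normalizer_iff]
        intro x
        constructor
        · intro hx
          rw [← heq]
          exact ⟨x, hx, rfl⟩
        · intro hx
          rw [← heq] at hx
          obtain ⟨x', hx', he⟩ := hx
          rwa [← (MulAut.conj ((y : G) * g)).injective
            (show MulAut.conj ((y : G) * g) x' = MulAut.conj ((y : G) * g) x from he)]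
      refine ⟨φ ⟨_, hn⟩, Subtype.ext ?_, Subtype.ext ?_⟩
      · rw [toCol_smul_pt, hsmul, Subgroup.coe_mk, mul_smul, hga]
        exact (Prod.mk.inj y.2).1
      · rw [toCol_smul_pt, hsmul, Subgroup.coe_mk, mul_smul, hgb]
        exact (Prod.mk.inj y.2).2
    obtain ⟨-, -, p, a, hp, ha, hpa⟩ := translation hwitt (ih U (hordF ▸ hlt) hwitt)
    exact ⟨p, a, hp, ha, hordF ▸ hpa⟩
  -- every pair of points and every pair of lines is fixed by an involution of the fixed plane
  have hext : ∀ (K : Subgroup G), U ≤ K → 2 ^ (j + 1) ∣ Nat.card K →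
      ∃ g : N, (g : G) ∈ K ∧ IsInv (⟨φ g, g, rfl⟩ : φ.range) := by
    intro K hUK hdvd
    obtain ⟨T, hT, hUT⟩ := Sylow.exists_subgroup_card_pow_succ hdvd
      (show Nat.card (U.subgroupOf K) = 2 ^ j by
        rw [Nat.card_congr (Subgroup.subgroupOfEquivOfLe hUK).toEquiv, hj])
    set T' := T.map K.subtype with hT'
    have hUT' : U ≤ T' := fun x hx => ⟨⟨x, hUK hx⟩, hUT hx, rfl⟩
    have hT'card : Nat.card T' = 2 ^ (j + 1) := by
      rw [hT', Subgroup.card_map_of_injective K.subtype_injective, hT]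
    have hidx : (U.subgroupOf T').index = 2 := by
      have h3 := Subgroup.card_mul_index (U.subgroupOf T')
      rw [Nat.card_congr (Subgroup.subgroupOfEquivOfLe hUT').toEquiv, hj, hT'card, pow_succ] at h3
      exact Nat.eq_of_mul_eq_mul_left (Nat.two_pow_pos _) h3
    have hnorm : (U.subgroupOf T').Normal := Subgroup.normal_of_index_eq_two hidx
    have hT'N : T' ≤ N := Subgroup.le_normalizer_of_normal_subgroupOf hUT'
    obtain ⟨h, hhT, hhU⟩ : ∃ h ∈ T', h ∉ U := by
      by_contra hc
      push Not at hc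
      have := Nat.le_of_dvd Nat.card_pos (Subgroup.card_dvd_of_le hc)
      rw [hT'card, hj, pow_succ] at this
      have := Nat.two_pow_pos j
      omega
    have hh2 : h * h ∈ U :=
      (Subgroup.mul_mem_iff_of_index_two hidx (a := ⟨h, hhT⟩) (b := ⟨h, hhT⟩)).mpr Iff.rfl
    have hh2' : ∃ m : ℕ, (⟨h, hT'N hhT⟩ : N) ^ 2 ^ m = 1 := by
      obtain ⟨m, hm⟩ := IsPGroup.of_card hT'card ⟨h, hhT⟩
      exact ⟨m, Subtype.ext (by simpa using congrArg Subtype.val hm)⟩
    refine ⟨⟨h, hT'N hhT⟩, ?_, ?_, ?_⟩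
    · obtain ⟨z, -, rfl⟩ := hhT
      exact z.2
    · intro e
      refine hbig ⟨h, hT'N hhT⟩ hh2' hhU ?_
      obtain ⟨a, b, c, d, ha, hb, hc, hd, h1, h2, h3, h4⟩ := hUq
      have hall : ∀ x : FixSet U P, (⟨h, hT'N hhT⟩ : N) • x = x := fun x => by
        rw [← toCol_smul_pt (L := FixSet U L) (⟨h, hT'N hhT⟩ : N) x, ← hφ,
          show φ ⟨h, hT'N hhT⟩ = 1 from congrArg Subtype.val e, one_smul]
      exact ⟨⟨a, ha⟩, ⟨b, hb⟩, ⟨c, hc⟩, ⟨d, hd⟩, hall _, hall _, hall _, hall _, fun l => h1 l.1,
        fun l => h2 l.1, fun l => h3 l.1, fun l => h4 l.1⟩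
    · refine Subtype.ext ?_
      show φ ⟨h, hT'N hhT⟩ * φ ⟨h, hT'N hhT⟩ = 1
      rw [← map_mul]
      exact Coll.faithful (P := FixSet U P) (L := FixSet U L) _ fun x => Subtype.ext (x.2 _ hh2)
  have hK : InvHyp φ.range (FixSet U P) (FixSet U L) := by
    refine ⟨hcentral, fun A B hne => ?_, fun a b hne => ?_⟩
    · obtain ⟨g, hgK, hinv⟩ := hext (MulAction.stabilizer G (A.1, B.1))
        (fun g hg => Prod.ext (A.2 g hg) (B.2 g hg))
        (by
          rw [natCard_stabilizer_pair h2 h2 rfl (fun e => hne (Subtype.ext e)) hne₀]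
          exact hsyl)
      exact ⟨_, hinv, Subtype.ext (Prod.mk.inj hgK).1, Subtype.ext (Prod.mk.inj hgK).2⟩
    · obtain ⟨g, hgK, hinv⟩ := hext (MulAction.stabilizer G (a.1, b.1))
        (fun g hg => Prod.ext (a.2 g hg) (b.2 g hg))
        (by
          rw [natCard_stabilizer_pair (h2.lines (P := P) (L := L)) h2
            ((card_lines_nat (P := P) (L := L)).trans (card_points_nat (P := P) (L := L)).symm)
            (fun e => hne (Subtype.ext e)) hne₀]
          exact hsyl)
      exact ⟨_, hinv, Subtype.ext (Prod.mk.inj hgK).1, Subtype.ext (Prod.mk.inj hgK).2⟩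
  obtain ⟨p, a, hp, ha, hpa⟩ := hK.prime_pow
  exact ⟨p, a, hp, ha, hordF ▸ hpa⟩

/-- A plane with 2-transitive collineation group has an elation. -/
theorem hasElation_of_twoTrans (n : ℕ) : ∀ (P : Type u) (L : Type v) [Membership P L]
    [ProjectivePlane P L] [Finite P] [Finite L],
    ProjectivePlane.order P L = n → TwoTrans (Col P L) P → HasElation (Col P L) P L := by
  induction n using Nat.strong_induction_on with
  | _ n ih =>
  intro P L _ _ _ _ hn h2
  by_cases hc : HasCentral (Col P L) P L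
  · exact h2.hasElation_of_central hc
  exfalso
  obtain ⟨p, a, hp, hpa⟩ := prime_pow_of_no_central h2 hc fun U _ hlt hU =>
    ih _ (hn ▸ hlt) (FixSet U P) (FixSet U L) rfl hU
  exact hc (hasCentral_of_prime_pow h2 hp hpa)

end Cfsg.Agent.OW
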