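import Cfsg.Agent.Lib.OstromWagner.Alt

/-!
# Semifields with inverse-additive multiplications

The two inverse conditions coming from the elations give the alternative laws and the Moufang
identity, by Hua's identity.
-/

set_option autoImplicit false
set_option linter.unusedSectionVars false

namespace Cfsg.Agent.OW

open MulOpposite

/-- The inverses of the left multiplications are closed under addition. -/
def LeftInvAdd (R : Type*) [NonAssocRing R] : Prop :=
  ∀ a k : R, a ≠ 0 → k ≠ 0 → a + k ≠ 0 → ∃ d, ∀ x v, a * x = k * v → d * (x + v) = a * x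

variable {R : Type*} [NonAssocRing R] [Nontrivial R] [NoZeroDivisors R]

lemma eq_of_mul_eq {a x y : R} (ha : a ≠ 0) (h : a * x = a * y) : x = y := by
  have h1 : a * (x - y) = 0 := by rw [mul_sub, h, sub_self]
  exact sub_eq_zero.mp ((mul_eq_zero.mp h1).resolve_left ha)

/-- Hua's identity in the form needed here. -/
lemma LeftInvAdd.hua (h : LeftInvAdd R) (a : R) {k : R} (hk : k ≠ 0) :
    ∃ w, ∀ v y, k * v = a * y → a * v = w * y := by
  rcases eq_or_ne a 0 with rfl | ha
  · exact ⟨0, fun v y _ => by rw [zero_mul, zero_mul]⟩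
  rcases eq_or_ne k a with rfl | hne
  · exact ⟨k, fun v y hv => by rw [eq_of_mul_eq ha hv]⟩
  obtain ⟨d, hd⟩ := h a (k - a) ha (sub_ne_zero.mpr hne) (by rwa [add_sub_cancel])
  refine ⟨a - d, fun v y hv => ?_⟩
  have h1 := hd (y - v) v (by rw [mul_sub, sub_mul, hv])
  rw [sub_add_cancel, mul_sub] at h1
  rw [sub_mul, h1, sub_sub_cancel]

lemma LeftInvAdd.left_alt (h : LeftInvAdd R) (x y : R) : x * (x * y) = x * x * y := by
  obtain ⟨w, hw⟩ := h.hua x (one_ne_zero (α := R))
  have h1 := hw (x * 1) 1 (one_mul _)
  rw [mul_one, mul_one] at h1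
  rw [h1]
  exact hw (x * y) y (one_mul _)

lemma LeftInvAdd.moufang (h : LeftInvAdd R) (a b x : R) :
    a * (b * (a * x)) = a * (b * a) * x := by
  rcases eq_or_ne b 0 with rfl | hb
  · simp only [zero_mul, mul_zero]
  obtain ⟨k, hk⟩ := h.hua 1 hb
  have hkb : ∀ v, k * (b * v) = v := fun v => by
    have := hk v (b * v) (one_mul _).symm
    rwa [one_mul, eq_comm] at this
  have hk0 : k ≠ 0 := by
    rintro rfl
    have := hkb 1
    rw [zero_mul] at this
    exact zero_ne_one this
  obtain ⟨w, hw⟩ := h.hua a hk0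
  have h1 := hw (b * a) 1 (by rw [hkb, mul_one])
  rw [mul_one] at h1
  rw [h1]
  exact hw _ x (hkb _)

/-- Both inverse conditions give the alternative laws. -/
theorem altLaws_of_invAdd (hl : LeftInvAdd R) (hr : LeftInvAdd Rᵐᵒᵖ) : AltLaws R where
  left := hl.left_alt
  right x y := by
    have h := congrArg unop (hr.left_alt (op x) (op y))
    simpa using h
  moufang x y z := by
    have h := congrArg unop (hr.moufang (op x) (op y) (op z))
    simpa using h

end Cfsg.Agent.OW
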