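import Cfsg.Agent.Lib.OstromWagner.Coord
import Cfsg.Agent.Lib.OstromWagner.Semifield
import Cfsg.Agent.Lib.OstromWagner.Induct

/-!
# The coordinate map

A plane with all elations is the projective plane over a finite field; with the induction, this gives
the theorem of Ostrom and Wagner.
-/

set_option autoImplicit false
set_option linter.unusedSectionVars false

namespace Cfsg.Agent.OW

open Configuration

variable {G P L : Type*} [Group G] [MulAction G P] [MulAction G L] [Membership P L]
  [ProjectivePlane P L] [Finite P] [Finite L] [Coll G P L] [Finite G]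

/-- The conclusion: the plane is the plane over a finite field. -/
def IsDesarguesian (P L : Type*) [Membership P L] : Prop :=
  ∃ (F : Type) (_ : Field F) (_ : Fintype F) (φ : P ≃ Projectivization F (Fin 3 → F)),
    (∀ l : L, ∃ W : Submodule F (Fin 3 → F), Module.finrank F W = 2 ∧
        ∀ p : P, p ∈ l ↔ (φ p).submodule ≤ W) ∧
    (∀ W : Submodule F (Fin 3 → F), Module.finrank F W = 2 →
        ∃ l : L, ∀ p : P, p ∈ l ↔ (φ p).submodule ≤ W)

section Coordinates

/-- A nonassociative ring from a biadditive multiplication with a unit. -/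
@[reducible] def mkNonAssocRing {F : Type} [AddCommGroup F] (m : F → F → F) (u : F)
    (hl : ∀ a b c, m a (b + c) = m a b + m a c) (hr : ∀ a b c, m (a + b) c = m a c + m b c)
    (hzl : ∀ a, m 0 a = 0) (hzr : ∀ a, m a 0 = 0) (h1l : ∀ a, m u a = a)
    (h1r : ∀ a, m a u = a) : NonAssocRing F where
  toAddCommGroup := ‹AddCommGroup F›
  mul := m
  one := u
  left_distrib := hl
  right_distrib := hr
  zero_mul := hzl
  mul_zero := hzr
  one_mul := h1l
  mul_one := h1r

/-- A field from such a multiplication on a finite set. -/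
@[reducible] noncomputable def mkFiniteField {F : Type} [AddCommGroup F] [Finite F]
    (m : F → F → F) (u : F) (hu : u ≠ 0)
    (hl : ∀ a b c, m a (b + c) = m a b + m a c) (hr : ∀ a b c, m (a + b) c = m a c + m b c)
    (hzl : ∀ a, m 0 a = 0) (hzr : ∀ a, m a 0 = 0) (h1l : ∀ a, m u a = a)
    (h1r : ∀ a, m a u = a) (ha : ∀ a b c, m (m a b) c = m a (m b c))
    (hc : ∀ a b, m a b = m b a) (hz : ∀ a b, m a b = 0 → a = 0 ∨ b = 0) : Field F :=
  let cr : CommRing F :=
    { mkNonAssocRing m u hl hr hzl hzr h1l h1r with mul_assoc := ha, mul_comm := hc }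
  have : Nontrivial F := ⟨⟨u, 0, hu⟩⟩
  have : @NoZeroDivisors F cr.toMul cr.toZero :=
    { eq_zero_or_eq_zero_of_mul_eq_zero := fun {a b} h => hz a b h }
  have : IsDomain F := NoZeroDivisors.to_isDomain F
  IsField.toField (Finite.isDomain_to_isField F)

variable {F : Type} [AddCommGroup F] (c : Frame G P L F)

lemma Frame.mul_eq_zero' {a b : F} (h : c.mul a b = 0) : a = 0 ∨ b = 0 :=
  or_iff_not_imp_left.mpr fun ha => c.mul_left_inj ha (h.trans (c.mul_zero a).symm)

lemma Frame.laws [Finite F] :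
    (∀ a b d : F, c.mul (c.mul a b) d = c.mul a (c.mul b d)) ∧
      ∀ a b : F, c.mul a b = c.mul b a := by
  let := mkNonAssocRing c.mul c.u c.mul_add c.add_mul c.zero_mul c.mul_zero c.u_mul c.mul_u
  have : Nontrivial F := ⟨⟨c.u, 0, c.hu⟩⟩
  have hnzd : NoZeroDivisors F := by
    refine ⟨fun {a b} (h : c.mul a b = 0) => or_iff_not_imp_left.mpr fun ha => ?_⟩
    exact c.mul_left_inj ha (h.trans (c.mul_zero a).symm)
  have hl : LeftInvAdd F := fun a k ha hk hak => c.inv_left ha hk hak
  have hr : LeftInvAdd Fᵐᵒᵖ := by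
    intro a k ha hk hak
    obtain ⟨d, hd⟩ := c.inv_right (s := a.unop) (m := k.unop)
      (fun e => ha (MulOpposite.unop_injective e)) (fun e => hk (MulOpposite.unop_injective e))
      (fun e => hak (MulOpposite.unop_injective e))
    exact ⟨MulOpposite.op d, fun x v h =>
      MulOpposite.unop_injective (hd x.unop v.unop (congrArg MulOpposite.unop h))⟩
  exact (altLaws_of_invAdd hl hr).assoc_comm

/-- The field of a frame. -/
@[reducible] noncomputable def Frame.field [Finite F] : Field F :=
  mkFiniteField c.mul c.u c.hu c.mul_add c.add_mul c.zero_mul c.mul_zero c.u_mul c.mul_u c.laws.1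
    c.laws.2 fun _ _ => c.mul_eq_zero'

end Coordinates

section Field

variable {F : Type} [Field F]

/-- The kernel of a linear form. -/
def planeOf (a b d : F) : Submodule F (Fin 3 → F) where
  carrier := {r | a * r 0 + b * r 1 + d * r 2 = 0}
  zero_mem' := by simp
  add_mem' {r s} hr hs := by
    simp only [Set.mem_ofPred_eq, Pi.add_apply] at *
    linear_combination hr + hs
  smul_mem' t r hr := by
    simp only [Set.mem_ofPred_eq, Pi.smul_apply, smul_eq_mul] at *
    linear_combination t * hr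

lemma mem_planeOf {a b d : F} {r : Fin 3 → F} :
    r ∈ planeOf a b d ↔ a * r 0 + b * r 1 + d * r 2 = 0 := Iff.rfl

lemma finrank_planeOf {a b d : F} (h : a ≠ 0 ∨ b ≠ 0 ∨ d ≠ 0) :
    Module.finrank F (planeOf a b d) = 2 := by
  let f : (Fin 3 → F) →ₗ[F] F :=
    a • LinearMap.proj 0 + b • LinearMap.proj 1 + d • LinearMap.proj 2
  have hker : LinearMap.ker f = planeOf a b d := by
    ext r
    simp [f, mem_planeOf]
  have hsurj : Function.Surjective f := by
    refine LinearMap.surjective_of_ne_zero fun hf => ?_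
    have h0 := LinearMap.congr_fun hf (Pi.single 0 1)
    have h1 := LinearMap.congr_fun hf (Pi.single 1 1)
    have h2 := LinearMap.congr_fun hf (Pi.single 2 1)
    simp [f] at h0 h1 h2
    tauto
  have h3 := LinearMap.finrank_range_add_finrank_ker f
  rw [LinearMap.range_eq_top.mpr hsurj, finrank_top, Module.finrank_self,
    Module.finrank_fin_fun, hker] at h3
  omega

lemma exists_planeOf (W : Submodule F (Fin 3 → F)) (hW : Module.finrank F W = 2) :
    ∃ a b d : F, (a ≠ 0 ∨ b ≠ 0 ∨ d ≠ 0) ∧ W = planeOf a b d := by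
  have hlt : W < ⊤ := lt_top_iff_ne_top.mpr fun h => by
    rw [h, finrank_top, Module.finrank_fin_fun] at hW
    omega
  obtain ⟨f, hf, hle⟩ := Submodule.exists_le_ker_of_lt_top W hlt
  have hfr : ∀ r : Fin 3 → F,
      f r = f (Pi.single 0 1) * r 0 + f (Pi.single 1 1) * r 1 + f (Pi.single 2 1) * r 2 := by
    intro r
    have hr : r = r 0 • (Pi.single 0 1 : Fin 3 → F) + r 1 • Pi.single 1 1 + r 2 • Pi.single 2 1 := by
      ext i
      fin_cases i <;> simp
    conv_lhs => rw [hr]
    simp only [map_add, map_smul, smul_eq_mul]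
    ring
  have hnz : f (Pi.single 0 1) ≠ 0 ∨ f (Pi.single 1 1) ≠ 0 ∨ f (Pi.single 2 1) ≠ 0 := by
    by_contra hc
    push Not at hc
    exact hf (LinearMap.ext fun r => by
      rw [hfr r, hc.1, hc.2.1, hc.2.2, zero_mul, zero_mul, zero_mul, add_zero, add_zero,
        LinearMap.zero_apply])
  refine ⟨_, _, _, hnz, Submodule.eq_of_le_of_finrank_eq (fun r hr => ?_)
    (hW.trans (finrank_planeOf hnz).symm)⟩
  rw [mem_planeOf, ← hfr r]
  exact hle hr

lemma planeOf_smul {a b d t : F} (ht : t ≠ 0) : planeOf (t * a) (t * b) (t * d) = planeOf a b d := by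
  ext r
  simp only [mem_planeOf]
  rw [show t * a * r 0 + t * b * r 1 + t * d * r 2 = t * (a * r 0 + b * r 1 + d * r 2) by ring,
    mul_eq_zero, or_iff_right ht]

lemma mk_le_iff {r : Fin 3 → F} (hr : r ≠ 0) (W : Submodule F (Fin 3 → F)) :
    (Projectivization.mk F r hr).submodule ≤ W ↔ r ∈ W := by
  rw [Projectivization.submodule_mk, Submodule.span_singleton_le_iff_mem]

lemma mk_eq_of {r s : Fin 3 → F} (hr : r ≠ 0) (hs : s ≠ 0) (t : F) (h : t • s = r) :
    Projectivization.mk F r hr = Projectivization.mk F s hs :=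
  (Projectivization.mk_eq_mk_iff' F r s hr hs).mpr ⟨t, h⟩

end Field

/-- A plane with coordinates from a field is Desarguesian. -/
theorem desarguesian_of_coords {F : Type} [Field F] [Fintype F] (pt : F → F → P) (sl : F → P)
    (Di : P) (li : L) (ml : F → F → L) (vl : F → L)
    (pt_inj : ∀ {a b a' b'}, pt a b = pt a' b' → a = a' ∧ b = b') (sl_inj : Function.Injective sl)
    (pt_surj : ∀ {Q}, Q ∉ li → ∃ a b, pt a b = Q)
    (sl_surj : ∀ {D}, D ∈ li → D ≠ Di → ∃ m, sl m = D)
    (hliS : ∀ m, sl m ∈ li) (hsDi : ∀ m, sl m ≠ Di) (hDli : Di ∈ li) (hliP : ∀ a b, pt a b ∉ li)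
    (memm : ∀ {a y m b}, pt a y ∈ ml m b ↔ y = a * m + b)
    (hmS : ∀ s m b, sl s ∈ ml m b ↔ s = m) (hmD : ∀ m b, Di ∉ ml m b)
    (memv : ∀ {x y a}, pt x y ∈ vl a ↔ x = a) (hvS : ∀ s a, sl s ∉ vl a) (hvD : ∀ a, Di ∈ vl a)
    (hlines : ∀ l : L, l = li ∨ (∃ m b, l = ml m b) ∨ ∃ a, l = vl a) : IsDesarguesian P L := by
  classical
  let pi : P → Fin 3 → F := fun p =>
    if h : p ∈ li then
      (if hD : p = Di then ![0, 0, 1] else ![0, 1, (sl_surj h hD).choose])
    else ![1, (pt_surj h).choose, (pt_surj h).choose_spec.choose]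
  have hpt : ∀ a b, pi (pt a b) = ![1, a, b] := by
    intro a b
    have h := hliP a b
    obtain ⟨e1, e2⟩ := pt_inj (pt_surj h).choose_spec.choose_spec
    simp only [pi, dif_neg h]; rw [e2, e1]
  have hsl : ∀ m, pi (sl m) = ![0, 1, m] := by
    intro m
    have e := sl_inj (sl_surj (hliS m) (hsDi m)).choose_spec
    simp only [pi, dif_pos (hliS m), dif_neg (hsDi m), e]
  have hDi : pi Di = ![0, 0, 1] := by
    simp only [pi, dif_pos hDli, dif_pos]
  have hcases : ∀ p : P, (∃ a b, p = pt a b) ∨ (∃ m, p = sl m) ∨ p = Di := by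
    intro p
    by_cases h : p ∈ li
    · by_cases hD : p = Di
      · exact Or.inr (Or.inr hD)
      · exact Or.inr (Or.inl ⟨_, (sl_surj h hD).choose_spec.symm⟩)
    · exact Or.inl ⟨_, _, (pt_surj h).choose_spec.choose_spec.symm⟩
  have hne : ∀ p, pi p ≠ 0 := by
    intro p e
    rcases hcases p with ⟨a, b, rfl⟩ | ⟨m, rfl⟩ | rfl
    · rw [hpt] at e; exact one_ne_zero (congrFun e 0)
    · rw [hsl] at e; exact one_ne_zero (congrFun e 1)
    · rw [hDi] at e; exact one_ne_zero (congrFun e 2)
  let φf : P → Projectivization F (Fin 3 → F) := fun p => Projectivization.mk F (pi p) (hne p)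
  have hbij : Function.Bijective φf := by
    constructor
    · intro p q hpq
      obtain ⟨t, ht⟩ := (Projectivization.mk_eq_mk_iff' F _ _ (hne p) (hne q)).mp hpq
      rcases hcases p with ⟨a, b, rfl⟩ | ⟨m, rfl⟩ | rfl <;>
        rcases hcases q with ⟨a', b', rfl⟩ | ⟨m', rfl⟩ | rfl <;>
        simp only [hpt, hsl, hDi] at ht <;>
        have e0 := congrFun ht 0 <;> have e1 := congrFun ht 1 <;> have e2 := congrFun ht 2 <;>
        simp at e0 e1 e2 <;>
        simp_all
    · intro x
      induction x using Projectivization.ind with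
      | h r hr =>
        by_cases h0 : r 0 = 0
        · by_cases h1 : r 1 = 0
          · refine ⟨Di, mk_eq_of (hne _) hr (r 2)⁻¹ ?_⟩
            have h2 : r 2 ≠ 0 := fun h2 => hr (by ext i; fin_cases i <;> simp [h0, h1, h2])
            rw [hDi]
            ext i; fin_cases i <;> simp [h0, h1, inv_mul_cancel₀ h2]
          · refine ⟨sl ((r 1)⁻¹ * r 2), mk_eq_of (hne _) hr (r 1)⁻¹ ?_⟩
            rw [hsl]
            ext i; fin_cases i <;> simp [h0, inv_mul_cancel₀ h1]
        · refine ⟨pt ((r 0)⁻¹ * r 1) ((r 0)⁻¹ * r 2), mk_eq_of (hne _) hr (r 0)⁻¹ ?_⟩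
          rw [hpt]
          ext i; fin_cases i <;> simp [inv_mul_cancel₀ h0]
  refine ⟨F, inferInstance, inferInstance, Equiv.ofBijective φf hbij, ?_⟩
  have hle : ∀ (p : P) (W : Submodule F (Fin 3 → F)),
      ((Equiv.ofBijective φf hbij) p).submodule ≤ W ↔ pi p ∈ W := fun p W => mk_le_iff (hne p) W
  have hm : ∀ (m b : F) (p : P), p ∈ ml m b ↔ pi p ∈ planeOf b m (-1) := by
    intro m b p
    rcases hcases p with ⟨a, y, rfl⟩ | ⟨s, rfl⟩ | rfl
    · rw [memm, hpt, mem_planeOf]
      simp only [Matrix.cons_val_zero, Matrix.cons_val_one, Matrix.cons_val_two, Matrix.tail_cons,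
        Matrix.head_cons]
      constructor <;> intro h <;> linear_combination -h
    · rw [hmS, hsl, mem_planeOf]
      simp only [Matrix.cons_val_zero, Matrix.cons_val_one, Matrix.cons_val_two, Matrix.tail_cons,
        Matrix.head_cons]
      constructor <;> intro h <;> linear_combination -h
    · rw [iff_false_intro (hmD m b), hDi, mem_planeOf]
      simp
  have hv : ∀ (a : F) (p : P), p ∈ vl a ↔ pi p ∈ planeOf a (-1) 0 := by
    intro a p
    rcases hcases p with ⟨x, y, rfl⟩ | ⟨s, rfl⟩ | rfl
    · rw [memv, hpt, mem_planeOf]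
      simp only [Matrix.cons_val_zero, Matrix.cons_val_one, Matrix.cons_val_two, Matrix.tail_cons,
        Matrix.head_cons]
      constructor <;> intro h <;> linear_combination -h
    · rw [iff_false_intro (hvS s a), hsl, mem_planeOf]
      simp
    · rw [iff_true_intro (hvD a), hDi, mem_planeOf]
      simp
  have hi : ∀ p : P, p ∈ li ↔ pi p ∈ planeOf 1 0 0 := by
    intro p
    rcases hcases p with ⟨x, y, rfl⟩ | ⟨s, rfl⟩ | rfl
    · rw [iff_false_intro (hliP x y), hpt, mem_planeOf]
      simp
    · rw [iff_true_intro (hliS s), hsl, mem_planeOf]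
      simp
    · rw [iff_true_intro hDli, hDi, mem_planeOf]
      simp
  refine ⟨fun l => ?_, fun W hW => ?_⟩
  · rcases hlines l with rfl | ⟨m, b, rfl⟩ | ⟨a, rfl⟩
    · exact ⟨_, finrank_planeOf (Or.inl one_ne_zero), fun p => (hi p).trans (hle p _).symm⟩
    · exact ⟨_, finrank_planeOf (Or.inr (Or.inr (neg_ne_zero.mpr one_ne_zero))),
        fun p => (hm m b p).trans (hle p _).symm⟩
    · exact ⟨_, finrank_planeOf (Or.inr (Or.inl (neg_ne_zero.mpr one_ne_zero))),
        fun p => (hv a p).trans (hle p _).symm⟩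
  · obtain ⟨a, b, d, hnz, rfl⟩ := exists_planeOf W hW
    by_cases hd : d = 0
    · by_cases hb : b = 0
      · refine ⟨li, fun p => (hi p).trans ?_⟩
        have ha : a ≠ 0 := by tauto
        rw [hle, ← planeOf_smul (a := 1) (b := 0) (d := 0) ha, mul_one, mul_zero, hb, hd]
      · refine ⟨vl (-a * b⁻¹), fun p => (hv _ p).trans ?_⟩
        rw [hle, ← planeOf_smul (a := -a * b⁻¹) (b := -1) (d := 0) (neg_ne_zero.mpr hb), hd,
          mul_zero, show -b * (-a * b⁻¹) = a by field_simp, show -b * -1 = b by ring]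
    · refine ⟨ml (-b * d⁻¹) (-a * d⁻¹), fun p => (hm _ _ p).trans ?_⟩
      rw [hle, ← planeOf_smul (a := -a * d⁻¹) (b := -b * d⁻¹) (d := -1) (neg_ne_zero.mpr hd),
        show -d * (-a * d⁻¹) = a by field_simp, show -d * (-b * d⁻¹) = b by field_simp,
        show -d * -1 = d by ring]

/-- A plane with a frame is Desarguesian. -/
theorem Frame.desarguesian {F : Type} [AddCommGroup F] [Fintype F] (c : Frame G P L F) :
    IsDesarguesian P L :=
  @desarguesian_of_coords P L _ _ _ _ F c.field _ c.pt c.slope c.Di c.li c.mline c.vline c.pt_inj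
    c.slope_inj c.pt_surj c.slope_surj c.slope_mem c.slope_ne c.hDi c.pt_not_mem c.mem_mline_iff
    c.slope_mem_mline_iff c.Di_not_mem_mline c.mem_vline_iff c.slope_not_mem_vline c.Di_mem_vline
    c.line_cases

/-- A plane with all elations is Desarguesian. -/
theorem AllElations.desarguesian (hM : AllElations G P L) : IsDesarguesian P L := by
  classical
  obtain ⟨li⟩ := nonempty_line (L := L) P
  obtain ⟨O, hO⟩ := Nondegenerate.exists_point (P := P) li
  obtain ⟨D0, D1, hD0, hD1, h01⟩ := exists_two_mem (P := P) li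
  obtain ⟨Di, hDi, hi0, hi1⟩ := exists_mem_ne_ne li D0 D1
  let E := axGroup G D0 li
  let : CommGroup E :=
    { (inferInstance : Group E) with
      mul_comm := fun x y => Subtype.ext
        (hM.comm (axGroup_le_elGroup hD0 x.2) (axGroup_le_elGroup hD0 y.2)) }
  have := Fintype.ofFinite E
  let eqv : Fin (Fintype.card E) ≃ Additive E :=
    (Fintype.equivFin E).symm.trans Additive.ofMul
  let : AddCommGroup (Fin (Fintype.card E)) := eqv.addCommGroup
  obtain ⟨e, he, hne⟩ : ∃ e ∈ E, e ≠ 1 := by
    obtain ⟨a, hD0a, hal⟩ := exists_line_ne D0 li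
    obtain ⟨A, hA, hAC⟩ := exists_mem_ne a D0
    obtain ⟨B, hB, hBC, hBA⟩ := exists_mem_ne_ne a D0 A
    obtain ⟨e, he, heA⟩ := hM D0 a li A B hD0 hD0a hal hA hB hAC hBC
    exact ⟨e, he, fun e1 => hBA (by rw [← heA, e1, one_smul])⟩
  let c : Frame G P L (Fin (Fintype.card E)) :=
    { hM := hM, li := li, O := O, Di := Di, D0 := D0, D1 := D1
      hO := hO, hDi := hDi, hD0 := hD0, hD1 := hD1, hi0 := hi0, hi1 := hi1, h01 := h01
      v := fun a => ((eqv a).toMul : E)
      v_mem := fun a => ((eqv a).toMul : E).2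
      v_add := fun a b => by
        show (((eqv (eqv.symm (eqv a + eqv b))).toMul : E) : G) = _
        rw [Equiv.apply_symm_apply]
        rfl
      v_inj := fun a b h => eqv.injective (Additive.toMul.injective (Subtype.ext h))
      v_surj := fun x hx => ⟨eqv.symm (Additive.ofMul ⟨x, hx⟩), by simp⟩
      u := eqv.symm (Additive.ofMul ⟨e, he⟩)
      hu := fun h => by
        have h1 : eqv (eqv.symm (Additive.ofMul (⟨e, he⟩ : E))) = eqv (eqv.symm 0) := by
          rw [h]; rfl
        rw [Equiv.apply_symm_apply, Equiv.apply_symm_apply] at h1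
        exact hne (congrArg Subtype.val (congrArg Additive.toMul h1)) }
  exact c.desarguesian

/-- The theorem of Ostrom and Wagner. -/
theorem ostrom_wagner (P L : Type*) [Membership P L] [ProjectivePlane P L] [Finite P] [Finite L]
    (h2 : TwoTrans (Col P L) P) : IsDesarguesian P L :=
  (allElations_of_twoTrans h2 (hasElation_of_twoTrans _ P L rfl h2)).desarguesian

end Cfsg.Agent.OW
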