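import Mathlib

/-!
# Finite alternative division rings are fields

A finite unital nonassociative ring without zero divisors satisfying the alternative laws and the
right Moufang identity is associative and commutative (Artin-Zorn).
-/

set_option autoImplicit false
set_option linter.unusedSectionVars false

namespace Cfsg.Agent.OW

variable {R : Type*} [NonAssocRing R]

/-- The product of a word in two letters, bracketed to the right. -/
def wordVal (g : Bool → R) : List Bool → R
  | [] => 1
  | c :: t => g c * wordVal g t

/-- Alternative laws and right Moufang identity. -/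
structure AltLaws (R : Type*) [NonAssocRing R] : Prop where
  left : ∀ x y : R, x * (x * y) = x * x * y
  right : ∀ x y : R, y * x * x = y * (x * x)
  moufang : ∀ x y z : R, z * x * y * x = z * (x * y * x)

namespace AltLaws

variable (h : AltLaws R)
include h

lemma assoc_left (x y : R) : associator x x y = 0 := by
  rw [associator_apply, h.left, sub_self]

lemma assoc_right (x y : R) : associator y x x = 0 := by
  rw [associator_apply, h.right, sub_self]

lemma swap_left (x y z : R) : associator y x z = -associator x y z := by
  have h3 := h.assoc_left (x + y) z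
  have h1 := h.assoc_left x z
  have h2 := h.assoc_left y z
  simp only [associator_apply, add_mul, mul_add] at h1 h2 h3 ⊢
  rw [← sub_eq_zero]
  calc _ = (((x * x) * z + (y * x) * z + ((x * y) * z + (y * y) * z)) -
        (x * (x * z) + y * (x * z) + (x * (y * z) + y * (y * z)))) -
        ((x * x) * z - x * (x * z)) - ((y * y) * z - y * (y * z)) := by abel
    _ = 0 := by rw [h1, h2, sub_zero, sub_zero]; convert h3 using 1

lemma swap_right (x y z : R) : associator x z y = -associator x y z := by
  have h3 := h.assoc_right (y + z) x
  have h1 := h.assoc_right y x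
  have h2 := h.assoc_right z x
  simp only [associator_apply, add_mul, mul_add] at h1 h2 h3 ⊢
  rw [← sub_eq_zero]
  calc _ = (((x * y) * y + (x * z) * y + ((x * y) * z + (x * z) * z)) -
        (x * (y * y) + x * (z * y) + (x * (y * z) + x * (z * z)))) -
        ((x * y) * y - x * (y * y)) - ((x * z) * z - x * (z * z)) := by abel
    _ = 0 := by rw [h1, h2, sub_zero, sub_zero]; convert h3 using 1

lemma cyclic (x y z : R) : associator z x y = associator x y z := by
  rw [h.swap_left, h.swap_right, neg_neg]

lemma flexible (x y : R) : associator x y x = 0 := by
  rw [h.swap_left, h.assoc_right, neg_zero]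

/-- The associator and the product. -/
lemma assoc_mul (w x y : R) : associator w x (x * y) = associator w x y * x := by
  have hfl : x * y * x = x * (y * x) := sub_eq_zero.mp (h.flexible x y)
  have hm : associator (w * x) y x + associator w x (y * x) = 0 := by
    rw [associator_apply, associator_apply, h.moufang, hfl]
    abel
  have hc := associator_cocycle w x y x
  rw [h.flexible, mul_zero, zero_sub] at hc
  have h5 : associator w (x * y) x + associator w x y * x =
      associator (w * x) y x + associator w x (y * x) := by
    rw [← sub_eq_zero]
    calc _ = -associator (w * x) y x + associator w (x * y) x - associator w x (y * x) +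
          associator w x y * x := by abel
      _ = 0 := hc
  rw [hm, h.swap_right w x (x * y), neg_add_eq_zero] at h5
  exact h5

lemma assoc_mul_lin (w x y z : R) :
    associator w x (z * y) + associator w z (x * y) =
      associator w x y * z + associator w z y * x := by
  have h1 := h.assoc_mul w (x + z) y
  have ha := h.assoc_mul w x y
  have hb := h.assoc_mul w z y
  simp only [← AddMonoidHom.associator_apply] at h1 ha hb ⊢
  simp only [map_add, AddMonoidHom.add_apply, add_mul, mul_add] at h1
  rw [ha, hb] at h1
  rw [← sub_eq_zero] at h1 ⊢
  rw [← h1]
  abel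

/-- Artin: two elements associate. -/
lemma artin (g : Bool → R) : ∀ u v s : List Bool,
    associator (wordVal g u) (wordVal g v) (wordVal g s) = 0 := by
  suffices ∀ N, ∀ u v s : List Bool, u.length + v.length + s.length = N →
      associator (wordVal g u) (wordVal g v) (wordVal g s) = 0 from
    fun u v s => this _ u v s rfl
  intro N
  induction N using Nat.strong_induction_on with
  | _ N ih =>
  have happ : ∀ u v : List Bool, u.length + v.length < N →
      wordVal g u * wordVal g v = wordVal g (u ++ v) := by
    intro u
    induction u with
    | nil => intro v _; simp [wordVal]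
    | cons c t iht =>
      intro v hv
      simp only [List.length_cons] at hv
      have h1 := ih (1 + t.length + v.length) (by omega) [c] t v (by simp)
      rw [associator_apply, sub_eq_zero] at h1
      simp only [wordVal, mul_one] at h1
      rw [List.cons_append, wordVal, wordVal, h1, iht v (by omega)]
  have key : ∀ (c : Bool) (w u' v' : List Bool), w.length + (u'.length + 1) + (v'.length + 1) = N →
      associator (wordVal g w) (wordVal g (c :: u')) (wordVal g (c :: v')) = 0 := by
    intro c w u' v' hN
    have h1 := h.assoc_mul_lin (wordVal g w) (wordVal g (c :: u')) (wordVal g v') (g c)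
    have hz : g c = wordVal g [c] := by simp [wordVal]
    have e1 : associator (wordVal g w) (wordVal g (c :: u')) (wordVal g v') = 0 :=
      ih (N - 1) (by omega) _ _ _ (by simp only [List.length_cons]; omega)
    have e2 : associator (wordVal g w) (g c) (wordVal g v') = 0 := by
      rw [hz]
      exact ih (w.length + 1 + v'.length) (by omega) _ _ _ (by simp)
    have e3 : associator (wordVal g w) (g c) (wordVal g (c :: u') * wordVal g v') = 0 := by
      rw [happ _ _ (by simp only [List.length_cons]; omega), List.cons_append, wordVal, h.assoc_mul]
      rw [show associator (wordVal g w) (g c) (wordVal g (u' ++ v')) = 0 by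
        rw [hz]
        exact ih (w.length + 1 + (u' ++ v').length) (by simp only [List.length_append]; omega)
          _ _ _ (by simp)]
      exact zero_mul _
    rw [e1, e2, e3, zero_mul, zero_mul, add_zero, add_zero] at h1
    exact h1
  intro u v s hN
  match u, v, s with
  | [], v, s => simp [wordVal, associator_apply]
  | a :: u', [], s => simp [wordVal, associator_apply]
  | a :: u', b :: v', [] => simp [wordVal, associator_apply]
  | a :: u', b :: v', c :: s' =>
    simp only [List.length_cons] at hN
    by_cases hbc : b = c
    · subst hbc
      exact key b (a :: u') v' s' (by simp only [List.length_cons]; omega)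
    by_cases hab : a = b
    · subst hab
      rw [← h.cyclic]
      exact key a (c :: s') u' v' (by simp only [List.length_cons]; omega)
    obtain rfl : a = c := by cases a <;> cases b <;> cases c <;> simp_all
    rw [h.swap_left, key a (b :: v') u' s' (by simp only [List.length_cons]; omega), neg_zero]

omit h in
lemma wordVal_one_cons (g : Bool → R) (c : Bool) : wordVal g [c] = g c := mul_one _

lemma wordVal_append (g : Bool → R) (u v : List Bool) :
    wordVal g u * wordVal g v = wordVal g (u ++ v) := by
  induction u with
  | nil => simp [wordVal]
  | cons c t iht =>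
    have h1 := h.artin g [c] t v
    rw [associator_apply, sub_eq_zero, wordVal_one_cons] at h1
    rw [List.cons_append, wordVal, wordVal, h1, iht]

omit h in
/-- The subgroup spanned by words. -/
def span (g : Bool → R) : AddSubgroup R := AddSubgroup.closure (Set.range (wordVal g))

omit h in
lemma mem_span_self (g : Bool → R) (c : Bool) : g c ∈ span g :=
  AddSubgroup.subset_closure ⟨[c], wordVal_one_cons g c⟩

omit h in
lemma one_mem_span (g : Bool → R) : (1 : R) ∈ span g := AddSubgroup.subset_closure ⟨[], rfl⟩

lemma mul_mem_span {g : Bool → R} {x y : R} (hx : x ∈ span g) (hy : y ∈ span g) :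
    x * y ∈ span g := by
  induction hx using AddSubgroup.closure_induction with
  | mem a ha =>
    induction hy using AddSubgroup.closure_induction with
    | mem b hb =>
      obtain ⟨u, rfl⟩ := ha
      obtain ⟨v, rfl⟩ := hb
      exact AddSubgroup.subset_closure ⟨u ++ v, (h.wordVal_append g u v).symm⟩
    | zero => rw [mul_zero]; exact zero_mem _
    | add a' b' _ _ ia ib => rw [mul_add]; exact add_mem ia ib
    | neg a' _ ia => rw [mul_neg]; exact neg_mem ia
  | zero => rw [zero_mul]; exact zero_mem _
  | add a b _ _ ia ib => rw [add_mul]; exact add_mem ia ib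
  | neg a _ ia => rw [neg_mul]; exact neg_mem ia

lemma assoc_span {g : Bool → R} {x y z : R} (hx : x ∈ span g) (hy : y ∈ span g)
    (hz : z ∈ span g) : associator x y z = 0 := by
  rw [← AddMonoidHom.associator_apply]
  induction hx using AddSubgroup.closure_induction with
  | mem a ha =>
    induction hy using AddSubgroup.closure_induction with
    | mem b hb =>
      induction hz using AddSubgroup.closure_induction with
      | mem c hc =>
        obtain ⟨u, rfl⟩ := ha
        obtain ⟨v, rfl⟩ := hb
        obtain ⟨s, rfl⟩ := hc
        exact h.artin g u v s
      | zero => exact map_zero _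
      | add a' b' _ _ ia ib => rw [map_add, ia, ib, add_zero]
      | neg a' _ ia => rw [map_neg, ia, neg_zero]
    | zero => rw [map_zero, AddMonoidHom.zero_apply]
    | add a' b' _ _ ia ib => rw [map_add, AddMonoidHom.add_apply, ia, ib, add_zero]
    | neg a' _ ia => rw [map_neg, AddMonoidHom.neg_apply, ia, neg_zero]
  | zero => rw [map_zero, AddMonoidHom.zero_apply, AddMonoidHom.zero_apply]
  | add a b _ _ ia ib =>
    rw [map_add, AddMonoidHom.add_apply, AddMonoidHom.add_apply, ia, ib, add_zero]
  | neg a _ ia => rw [map_neg, AddMonoidHom.neg_apply, AddMonoidHom.neg_apply, ia, neg_zero]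

/-- The span of the words in two elements is a ring. -/
@[reducible] def spanRing (g : Bool → R) : Ring (span g) :=
  let inst : Mul (span g) := ⟨fun x y => ⟨x.1 * y.1, h.mul_mem_span x.2 y.2⟩⟩
  let one : One (span g) := ⟨⟨1, one_mem_span g⟩⟩
  { (inferInstance : AddCommGroup (span g)), inst, one with
    left_distrib := fun a b c => Subtype.ext (left_distrib a.1 b.1 c.1)
    right_distrib := fun a b c => Subtype.ext (right_distrib a.1 b.1 c.1)
    zero_mul := fun a => Subtype.ext (zero_mul a.1)
    mul_zero := fun a => Subtype.ext (mul_zero a.1)
    mul_assoc := fun a b c => Subtype.ext (sub_eq_zero.mp (h.assoc_span a.2 b.2 c.2))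
    one_mul := fun a => Subtype.ext (one_mul a.1)
    mul_one := fun a => Subtype.ext (mul_one a.1) }

variable [Finite R] [Nontrivial R] [NoZeroDivisors R]

/-- The span of the words in two elements is a finite field. -/
lemma span_field (g : Bool → R) :
    (∀ x y : R, x ∈ span g → y ∈ span g → x * y = y * x) ∧
      ∃ c ∈ span g, ∀ x ∈ span g, x ∈ span (fun _ : Bool => c) := by
  classical
  let := h.spanRing g
  have : Nontrivial (span g) := ⟨⟨0, 1, fun e => zero_ne_one (congrArg Subtype.val e)⟩⟩
  have : NoZeroDivisors (span g) := ⟨fun {a b} hab => by
    have h1 : a.1 * b.1 = 0 := congrArg Subtype.val hab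
    exact (mul_eq_zero.mp h1).imp (fun e => Subtype.ext e) (fun e => Subtype.ext e)⟩
  have : IsDomain (span g) := NoZeroDivisors.to_isDomain _
  have hfield : IsField (span g) := Finite.isDomain_to_isField _
  refine ⟨fun x y hx hy => congrArg Subtype.val (hfield.mul_comm ⟨x, hx⟩ ⟨y, hy⟩), ?_⟩
  let : CommRing (span g) := { h.spanRing g with mul_comm := hfield.mul_comm }
  have : IsDomain (span g) := NoZeroDivisors.to_isDomain _
  obtain ⟨u, hu⟩ := IsCyclic.exists_generator (α := (span g)ˣ)
  refine ⟨((u : span g) : R), (u : span g).2, fun x hx => ?_⟩
  rcases eq_or_ne x 0 with rfl | hx0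
  · exact zero_mem _
  obtain ⟨k, hk⟩ := hfield.mul_inv_cancel (a := ⟨x, hx⟩) fun e => hx0 (congrArg Subtype.val e)
  obtain ⟨i, hi⟩ := mem_powers_iff_mem_zpowers.mpr (hu ⟨⟨x, hx⟩, k, hk, by rw [mul_comm]; exact hk⟩)
  have key : ∀ i : ℕ, (((u : span g) ^ i : span g) : R) ∈
      span (fun _ : Bool => ((u : span g) : R)) := by
    intro i
    induction i with
    | zero => rw [pow_zero]; exact one_mem_span _
    | succ i ihi =>
      rw [pow_succ]
      exact h.mul_mem_span ihi (mem_span_self (fun _ : Bool => ((u : span g) : R)) true)
  have h2 : (u : span g) ^ i = ⟨x, hx⟩ := by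
    simp only at hi
    rw [← Units.val_pow_eq_pow_val, hi]
  have := key i
  rwa [h2] at this

/-- A finite alternative division ring is associative and commutative. -/
theorem assoc_comm : (∀ a b c : R, a * b * c = a * (b * c)) ∧ ∀ a b : R, a * b = b * a := by
  classical
  obtain ⟨c, hc⟩ := Finite.exists_max fun c : R => Nat.card (span fun _ : Bool => c)
  have hall : ∀ b : R, b ∈ span (fun _ : Bool => c) := by
    intro b
    let g : Bool → R := fun t => if t then c else b
    obtain ⟨-, d, -, hd⟩ := h.span_field g
    have hc' : c ∈ span fun _ : Bool => d := hd c (mem_span_self g true)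
    have hle : span (fun _ : Bool => c) ≤ span fun _ : Bool => d := by
      refine (AddSubgroup.closure_le _).mpr ?_
      rintro _ ⟨w, rfl⟩
      induction w with
      | nil => exact one_mem_span _
      | cons a t iht => exact h.mul_mem_span hc' iht
    have hcard : Nat.card (span fun _ : Bool => d) ≤ Nat.card (span fun _ : Bool => c) := hc d
    rw [AddSubgroup.eq_of_le_of_card_ge hle hcard]
    exact hd b (mem_span_self g false)
  refine ⟨fun a b d => ?_, fun a b => ?_⟩
  · exact sub_eq_zero.mp (h.assoc_span (hall a) (hall b) (hall d))
  · exact (h.span_field _).1 a b (hall a) (hall b)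

end AltLaws

end Cfsg.Agent.OW
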