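import Mathlib

/-!
# Finite projective planes with groups of collineations (for the Ostrom-Wagner theorem)

Basic vocabulary: the joining line and the meeting point as total functions, counts, groups acting by
collineations, the equality of the numbers of fixed points and fixed lines, and the consequences for
the orbits of a collineation group which is 2-transitive on points.
-/

set_option autoImplicit false
set_option linter.unusedSectionVars false

namespace Cfsg.Agent.OW

open Configuration

/-- `G` acts on points and lines preserving incidence. -/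
class IsColl (G P L : Type*) [Group G] [MulAction G P] [MulAction G L] [Membership P L] : Prop where
  mem_iff : ∀ (g : G) (p : P) (l : L), g • p ∈ g • l ↔ p ∈ l

/-- `G` acts by collineations, faithfully on points. -/
class Coll (G P L : Type*) [Group G] [MulAction G P] [MulAction G L] [Membership P L]
    [ProjectivePlane P L] : Prop extends IsColl G P L where
  faithful : ∀ g : G, (∀ p : P, g • p = p) → g = 1

instance instMulActionDual {G X : Type*} [Monoid G] [h : MulAction G X] : MulAction G (Dual X) := h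

section Plane

variable {P L : Type*} [Membership P L] [ProjectivePlane P L]

lemma exists_line_mem (p : P) : ∃ l : L, p ∈ l := by
  obtain ⟨p₁, p₂, p₃, l₁, l₂, l₃, h₁₂, h₁₃, h₂₁, h₂₂, h₂₃, h₃₁, h₃₂, h₃₃⟩ :=
    @ProjectivePlane.exists_config P L _ _
  rcases eq_or_ne p p₂ with rfl | h
  · exact ⟨l₂, h₂₂⟩
  · exact ⟨HasLines.mkLine h, (HasLines.mkLine_ax h).1⟩

lemma exists_mem_mem (p q : P) : ∃ l : L, p ∈ l ∧ q ∈ l := by
  rcases eq_or_ne p q with rfl | h
  · obtain ⟨l, hl⟩ := exists_line_mem (L := L) p
    exact ⟨l, hl, hl⟩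
  · exact ⟨_, HasLines.mkLine_ax h⟩

lemma exists_pt_mem_mem (l m : L) : ∃ p : P, p ∈ l ∧ p ∈ m :=
  exists_mem_mem (P := Dual L) (L := Dual P) l m

/-- A line through two points (total). -/
noncomputable def lineThru (L : Type*) {P : Type*} [Membership P L] [ProjectivePlane P L] (p q : P) :
    L :=
  (exists_mem_mem (L := L) p q).choose

/-- A point on two lines (total). -/
noncomputable def meet (P : Type*) {L : Type*} [Membership P L] [ProjectivePlane P L] (l m : L) :
    P :=
  (exists_pt_mem_mem (P := P) l m).choose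

lemma left_mem_lineThru (p q : P) : p ∈ lineThru L p q :=
  (exists_mem_mem (L := L) p q).choose_spec.1

lemma right_mem_lineThru (p q : P) : q ∈ lineThru L p q :=
  (exists_mem_mem (L := L) p q).choose_spec.2

lemma meet_mem_left (l m : L) : meet P l m ∈ l :=
  (exists_pt_mem_mem (P := P) l m).choose_spec.1

lemma meet_mem_right (l m : L) : meet P l m ∈ m :=
  (exists_pt_mem_mem (P := P) l m).choose_spec.2

lemma line_eq {p q : P} (hne : p ≠ q) {l m : L} (hpl : p ∈ l) (hql : q ∈ l) (hpm : p ∈ m)
    (hqm : q ∈ m) : l = m :=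
  (Nondegenerate.eq_or_eq hpl hql hpm hqm).resolve_left hne

lemma point_eq {l m : L} (hne : l ≠ m) {p q : P} (hpl : p ∈ l) (hpm : p ∈ m) (hql : q ∈ l)
    (hqm : q ∈ m) : p = q :=
  (Nondegenerate.eq_or_eq hpl hql hpm hqm).resolve_right hne

lemma lineThru_eq {p q : P} (hne : p ≠ q) {l : L} (hpl : p ∈ l) (hql : q ∈ l) :
    lineThru L p q = l :=
  line_eq hne (left_mem_lineThru p q) (right_mem_lineThru p q) hpl hql

lemma meet_eq {l m : L} (hne : l ≠ m) {p : P} (hpl : p ∈ l) (hpm : p ∈ m) : meet P l m = p :=
  point_eq hne (meet_mem_left l m) (meet_mem_right l m) hpl hpm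

lemma lineThru_comm {p q : P} (hne : p ≠ q) : lineThru L p q = lineThru L q p :=
  lineThru_eq hne (right_mem_lineThru q p) (left_mem_lineThru q p)

lemma ne_line_of_mem_of_not_mem {p : P} {l m : L} (hl : p ∈ l) (hm : p ∉ m) : l ≠ m := by
  rintro rfl
  exact hm hl

lemma nonempty_point (L : Type*) {P : Type*} [Membership P L] [ProjectivePlane P L] : Nonempty P :=
  let ⟨p, _⟩ := @ProjectivePlane.exists_config P L _ _
  ⟨p⟩

lemma nonempty_line (P : Type*) {L : Type*} [Membership P L] [ProjectivePlane P L] : Nonempty L :=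
  let ⟨_, _, _, l, _⟩ := @ProjectivePlane.exists_config P L _ _
  ⟨l⟩

variable [Finite P] [Finite L]

lemma natCard_points_on (l : L) :
    Nat.card {p : P // p ∈ l} = ProjectivePlane.order P L + 1 :=
  ProjectivePlane.pointCount_eq P l

lemma natCard_lines_through (p : P) :
    Nat.card {l : L // p ∈ l} = ProjectivePlane.order P L + 1 :=
  ProjectivePlane.lineCount_eq L p

lemma two_le_order : 2 ≤ ProjectivePlane.order P L :=
  ProjectivePlane.one_lt_order P L

omit [ProjectivePlane P L] [Finite L] in
lemma exists_mem_not_mem_of_card {l : L} (s : Finset P)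
    (h : s.card < Nat.card {p : P // p ∈ l}) : ∃ p : P, p ∈ l ∧ p ∉ s := by
  classical
  have := Fintype.ofFinite P
  by_contra hc
  push Not at hc
  rw [Nat.card_eq_fintype_card, Fintype.card_subtype] at h
  have hsub : (Finset.univ.filter fun p : P => p ∈ l) ⊆ s := fun p hp => hc p (by simpa using hp)
  have := Finset.card_le_card hsub
  omega

/-- A line contains a point different from two given ones. -/
lemma exists_mem_ne_ne (l : L) (a b : P) : ∃ p : P, p ∈ l ∧ p ≠ a ∧ p ≠ b := by
  classical
  have h : ({a, b} : Finset P).card < Nat.card {p : P // p ∈ l} := by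
    have := Finset.card_le_two (a := a) (b := b)
    have h2 := two_le_order (P := P) (L := L)
    rw [natCard_points_on]
    omega
  obtain ⟨p, hp, hps⟩ := exists_mem_not_mem_of_card _ h
  exact ⟨p, hp, fun e => hps (by simp [e]), fun e => hps (by simp [e])⟩

lemma exists_mem_ne (l : L) (a : P) : ∃ p : P, p ∈ l ∧ p ≠ a :=
  let ⟨p, hp, ha, _⟩ := exists_mem_ne_ne l a a
  ⟨p, hp, ha⟩

lemma exists_two_mem (l : L) : ∃ a b : P, a ∈ l ∧ b ∈ l ∧ a ≠ b := by
  have := nonempty_point (P := P) L
  obtain ⟨a, ha, -⟩ := exists_mem_ne l (Classical.arbitrary P)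
  obtain ⟨b, hb, hne⟩ := exists_mem_ne l a
  exact ⟨a, b, ha, hb, hne.symm⟩

/-- A point is on a line different from two given ones. -/
lemma exists_line_ne_ne (p : P) (a b : L) : ∃ l : L, p ∈ l ∧ l ≠ a ∧ l ≠ b :=
  exists_mem_ne_ne (P := Dual L) (L := Dual P) p a b

lemma exists_line_ne (p : P) (a : L) : ∃ l : L, p ∈ l ∧ l ≠ a :=
  let ⟨l, hl, ha, _⟩ := exists_line_ne_ne p a a
  ⟨l, hl, ha⟩

/-- Two lines do not cover the plane. -/
lemma exists_not_mem_not_mem (l m : L) : ∃ p : P, p ∉ l ∧ p ∉ m := by
  rcases eq_or_ne l m with rfl | hne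
  · obtain ⟨p, hp⟩ := Nondegenerate.exists_point (P := P) l
    exact ⟨p, hp, hp⟩
  · obtain ⟨a, hal, ha⟩ := exists_mem_ne l (meet P l m)
    obtain ⟨b, hbm, hb⟩ := exists_mem_ne m (meet P l m)
    have ham : a ∉ m := fun h => ha (meet_eq hne hal h).symm
    have hbl : b ∉ l := fun h => hb (meet_eq hne h hbm).symm
    have hab : a ≠ b := fun e => ham (e ▸ hbm)
    obtain ⟨p, hp, hpa, hpb⟩ := exists_mem_ne_ne (lineThru L a b) a b
    refine ⟨p, fun h => ?_, fun h => ?_⟩
    · exact hbl (line_eq hpa hp (left_mem_lineThru a b) h hal ▸ right_mem_lineThru a b)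
    · exact ham (line_eq hpb hp (right_mem_lineThru a b) h hbm ▸ left_mem_lineThru a b)

/-- Two points do not meet all lines. -/
lemma exists_line_not_mem_not_mem (p q : P) : ∃ l : L, p ∉ l ∧ q ∉ l :=
  exists_not_mem_not_mem (P := Dual L) (L := Dual P) p q

lemma card_points_nat : Nat.card P =
    ProjectivePlane.order P L ^ 2 + ProjectivePlane.order P L + 1 := by
  have := Fintype.ofFinite P
  rw [Nat.card_eq_fintype_card, ProjectivePlane.card_points P L]

lemma card_lines_nat : Nat.card L =
    ProjectivePlane.order P L ^ 2 + ProjectivePlane.order P L + 1 := by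
  have := Fintype.ofFinite L
  rw [Nat.card_eq_fintype_card, ProjectivePlane.card_lines P L]

end Plane

section Action

variable {G P L : Type*} [Group G] [MulAction G P] [MulAction G L] [Membership P L]

instance instIsCollDual [IsColl G P L] : IsColl G (Dual L) (Dual P) :=
  ⟨fun g l p => IsColl.mem_iff (G := G) (P := P) (L := L) g p l⟩

instance instIsCollSubgroup [IsColl G P L] (H : Subgroup G) : IsColl H P L :=
  ⟨fun g p l => IsColl.mem_iff (g : G) p l⟩

lemma smul_mem [IsColl G P L] (g : G) {p : P} {l : L} (h : p ∈ l) : g • p ∈ g • l :=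
  (IsColl.mem_iff g p l).mpr h

lemma smul_not_mem [IsColl G P L] (g : G) {p : P} {l : L} (h : p ∉ l) : g • p ∉ g • l :=
  fun h' => h ((IsColl.mem_iff g p l).mp h')

lemma inv_smul_mem [IsColl G P L] (g : G) {p : P} {l : L} (h : g • p ∈ l) : p ∈ g⁻¹ • l :=
  (IsColl.mem_iff g p _).mp (by rwa [smul_inv_smul])

lemma smul_mem_iff_of_fix [IsColl G P L] {g : G} {l : L} (hl : g • l = l) (p : P) :
    g • p ∈ l ↔ p ∈ l := by
  conv_lhs => rw [← hl]
  exact IsColl.mem_iff g p l

lemma mem_smul_iff_of_fix [IsColl G P L] {g : G} {p : P} (hp : g • p = p) (l : L) :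
    p ∈ g • l ↔ p ∈ l := by
  conv_lhs => rw [← hp]
  exact IsColl.mem_iff g p l

variable [ProjectivePlane P L]

lemma smul_lineThru [IsColl G P L] (g : G) {p q : P} (h : p ≠ q) :
    g • lineThru L p q = lineThru L (g • p) (g • q) :=
  (lineThru_eq ((MulAction.injective g).ne h) (smul_mem g (left_mem_lineThru p q))
    (smul_mem g (right_mem_lineThru p q))).symm

lemma smul_meet [IsColl G P L] (g : G) {l m : L} (h : l ≠ m) :
    g • meet P l m = meet P (g • l) (g • m) :=
  (meet_eq ((MulAction.injective g).ne h) (smul_mem g (meet_mem_left l m))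
    (smul_mem g (meet_mem_right l m))).symm

lemma smul_eq_of_two_pts [IsColl G P L] {g : G} {p q : P} (hne : p ≠ q) (hp : g • p = p)
    (hq : g • q = q) {l : L} (hpl : p ∈ l) (hql : q ∈ l) : g • l = l :=
  line_eq hne ((mem_smul_iff_of_fix hp l).mpr hpl) ((mem_smul_iff_of_fix hq l).mpr hql) hpl hql

lemma smul_eq_of_two_lns [IsColl G P L] {g : G} {l m : L} (hne : l ≠ m) (hl : g • l = l)
    (hm : g • m = m) {p : P} (hpl : p ∈ l) (hpm : p ∈ m) : g • p = p :=
  smul_eq_of_two_pts (P := Dual L) (L := Dual P) hne hl hm hpl hpm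

lemma lineThru_fixed [IsColl G P L] {g : G} {p q : P} (hne : p ≠ q) (hp : g • p = p)
    (hq : g • q = q) : g • lineThru L p q = lineThru L p q :=
  smul_eq_of_two_pts hne hp hq (left_mem_lineThru p q) (right_mem_lineThru p q)

lemma meet_fixed [IsColl G P L] {g : G} {l m : L} (hne : l ≠ m) (hl : g • l = l)
    (hm : g • m = m) : g • meet P l m = meet P l m :=
  smul_eq_of_two_lns hne hl hm (meet_mem_left l m) (meet_mem_right l m)

variable [Finite P] [Finite L]

/-- If all points off a line are fixed, then all points are fixed. -/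
lemma fix_all_of_fix_off [IsColl G P L] {g : G} (m : L) (h : ∀ p : P, p ∉ m → g • p = p)
    (p : P) : g • p = p := by
  by_cases hp : p ∈ m
  · obtain ⟨a, hpa, ham⟩ := exists_line_ne p m
    obtain ⟨b, hpb, hbm, hba⟩ := exists_line_ne_ne p m a
    have hfix : ∀ c : L, p ∈ c → c ≠ m → g • c = c := by
      intro c hpc hcm
      obtain ⟨x, hx, hxp⟩ := exists_mem_ne c p
      obtain ⟨y, hy, hyp, hyx⟩ := exists_mem_ne_ne c p x
      have off : ∀ z : P, z ∈ c → z ≠ p → z ∉ m := fun z hz hzp hzm =>
        hzp (point_eq hcm hz hzm hpc hp)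
      exact smul_eq_of_two_pts hyx.symm (h x (off x hx hxp)) (h y (off y hy hyp)) hx hy
    exact smul_eq_of_two_lns hba (hfix b hpb hbm) (hfix a hpa ham) hpb hpa
  · exact h p hp

omit [Finite P] [Finite L] in
lemma eq_one_of_fix_lines [Coll G P L] {g : G} (h : ∀ l : L, g • l = l)
    (hl : ∀ p : P, ∃ a b : L, p ∈ a ∧ p ∈ b ∧ a ≠ b) : g = 1 :=
  Coll.faithful (P := P) (L := L) g fun p =>
    let ⟨a, b, ha, hb, hne⟩ := hl p
    smul_eq_of_two_lns hne (h a) (h b) ha hb

lemma eq_one_of_fix_off [Coll G P L] {g : G} (m : L) (h : ∀ p : P, p ∉ m → g • p = p) : g = 1 :=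
  Coll.faithful (P := P) (L := L) g (fix_all_of_fix_off m h)

lemma exists_two_lines (p : P) : ∃ a b : L, p ∈ a ∧ p ∈ b ∧ a ≠ b :=
  exists_two_mem (P := Dual L) (L := Dual P) p

instance instCollDual [Coll G P L] : Coll G (Dual L) (Dual P) where
  faithful _ h := eq_one_of_fix_lines (P := P) (L := L) h exists_two_lines

instance instCollSubgroup [Coll G P L] (H : Subgroup G) : Coll H P L where
  faithful g h := Subtype.ext (Coll.faithful (P := P) (L := L) (g : G) h)

/-- A collineation fixes as many points as lines. -/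
theorem natCard_fixed_eq [IsColl G P L] (g : G) :
    Nat.card {p : P // g • p = p} = Nat.card {l : L // g • l = l} := by
  classical
  have := Fintype.ofFinite P
  have := Fintype.ofFinite L
  set n := ProjectivePlane.order P L with hn
  have hP : ∀ p : P, (∑ l : L, if p ∈ l ∧ g • p ∈ l then 1 else 0) =
      1 + if g • p = p then n else 0 := by
    intro p
    rw [Finset.sum_boole, Nat.cast_id]
    rcases eq_or_ne (g • p) p with h | h
    · have hf : (Finset.univ.filter fun l : L => p ∈ l ∧ g • p ∈ l) =
          Finset.univ.filter fun l : L => p ∈ l := by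
        ext l; simp [h]
      rw [hf, if_pos h, ← Fintype.card_subtype, ← Nat.card_eq_fintype_card,
        natCard_lines_through, add_comm]
    · have hf : (Finset.univ.filter fun l : L => p ∈ l ∧ g • p ∈ l) =
          {lineThru L p (g • p)} := by
        ext l
        simp only [Finset.mem_filter, Finset.mem_univ, true_and, Finset.mem_singleton]
        constructor
        · rintro ⟨h1, h2⟩
          exact (lineThru_eq h.symm h1 h2).symm
        · rintro rfl
          exact ⟨left_mem_lineThru _ _, right_mem_lineThru _ _⟩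
      rw [hf, if_neg h, Finset.card_singleton]
  have hL : ∀ l : L, (∑ p : P, if p ∈ l ∧ g • p ∈ l then 1 else 0) =
      1 + if g • l = l then n else 0 := by
    intro l
    rw [Finset.sum_boole, Nat.cast_id]
    rcases eq_or_ne (g • l) l with h | h
    · have hf : (Finset.univ.filter fun p : P => p ∈ l ∧ g • p ∈ l) =
          Finset.univ.filter fun p : P => p ∈ l := by
        ext p; simp [smul_mem_iff_of_fix h]
      rw [hf, if_pos h, ← Fintype.card_subtype, ← Nat.card_eq_fintype_card,
        natCard_points_on, add_comm]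
    · have h' : l ≠ g⁻¹ • l := fun e => h (by conv_lhs => rw [e, smul_inv_smul])
      have hf : (Finset.univ.filter fun p : P => p ∈ l ∧ g • p ∈ l) =
          {meet P l (g⁻¹ • l)} := by
        ext p
        simp only [Finset.mem_filter, Finset.mem_univ, true_and, Finset.mem_singleton]
        constructor
        · rintro ⟨h1, h2⟩
          exact (meet_eq h' h1 (inv_smul_mem g h2)).symm
        · rintro rfl
          refine ⟨meet_mem_left _ _, ?_⟩
          have h3 := smul_mem g (meet_mem_right (P := P) l (g⁻¹ • l))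
          rwa [smul_inv_smul] at h3
      rw [hf, if_neg h, Finset.card_singleton]
  have key := Finset.sum_comm (s := (Finset.univ : Finset P)) (t := (Finset.univ : Finset L))
    (f := fun p l => if p ∈ l ∧ g • p ∈ l then 1 else 0)
  simp only [hP, hL, Finset.sum_add_distrib, ← Finset.sum_filter, Finset.sum_const, smul_eq_mul,
    mul_one, Finset.card_univ, ProjectivePlane.card_points_eq_card_lines P L,
    add_right_inj] at key
  have hn0 : 0 < n := by have := two_le_order (P := P) (L := L); omega
  have := Nat.eq_of_mul_eq_mul_right hn0 key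
  rw [Nat.card_eq_fintype_card, Nat.card_eq_fintype_card, Fintype.card_subtype,
    Fintype.card_subtype, this]

/-- A group of collineations has as many orbits on points as on lines. -/
theorem natCard_orbits_eq (G P L : Type*) [Group G] [MulAction G P] [MulAction G L] [Membership P L]
    [ProjectivePlane P L] [IsColl G P L] [Finite G] [Finite P] [Finite L] :
    Nat.card (MulAction.orbitRel.Quotient G P) = Nat.card (MulAction.orbitRel.Quotient G L) := by
  classical
  have := Fintype.ofFinite G
  have := Fintype.ofFinite P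
  have := Fintype.ofFinite L
  have hP := MulAction.sum_card_fixedBy_eq_card_orbits_mul_card_group G P
  have hL := MulAction.sum_card_fixedBy_eq_card_orbits_mul_card_group G L
  have h : ∀ g : G, Fintype.card (MulAction.fixedBy P g) = Fintype.card (MulAction.fixedBy L g) := by
    intro g
    rw [← Nat.card_eq_fintype_card, ← Nat.card_eq_fintype_card]
    exact natCard_fixed_eq g
  simp only [h] at hP
  rw [hP] at hL
  have := Nat.eq_of_mul_eq_mul_right Fintype.card_pos hL
  rw [Nat.card_eq_fintype_card, Nat.card_eq_fintype_card]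
  exact this

end Action

section Orbits

variable {H X : Type*} [Group H] [MulAction H X]

lemma natCard_orbits_le_two (S : X → Prop)
    (h1 : ∀ x y, S x → S y → ∃ h : H, h • x = y)
    (h2 : ∀ x y, ¬ S x → ¬ S y → ∃ h : H, h • x = y) :
    Nat.card (MulAction.orbitRel.Quotient H X) ≤ 2 := by
  classical
  have : Function.Injective (fun q : MulAction.orbitRel.Quotient H X => decide (S q.out)) := by
    intro a b hab
    simp only [decide_eq_decide] at hab
    rw [← Quotient.out_equiv_out]
    refine (MulAction.orbitRel_apply).mpr ?_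
    by_cases ha : S a.out
    · obtain ⟨h, hh⟩ := h1 b.out a.out (hab.mp ha) ha
      exact ⟨h, hh⟩
    · obtain ⟨h, hh⟩ := h2 b.out a.out (fun hb => ha (hab.mpr hb)) ha
      exact ⟨h, hh⟩
  simpa using Nat.card_le_card_of_injective _ this

lemma exists_smul_eq_of_two_orbits [Finite X]
    (hc : Nat.card (MulAction.orbitRel.Quotient H X) ≤ 2) (S : X → Prop)
    (hS : ∀ (h : H) x, S x → S (h • x)) {z : X} (hz : ¬ S z) {x y : X} (hx : S x) (hy : S y) :
    ∃ h : H, h • x = y := by
  classical
  by_contra hne
  have := Fintype.ofFinite (MulAction.orbitRel.Quotient H X)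
  rw [Nat.card_eq_fintype_card] at hc
  have hcl : ∀ a b : X, Quotient.mk (MulAction.orbitRel H X) a =
      Quotient.mk (MulAction.orbitRel H X) b → ∃ h : H, h • b = a :=
    fun a b hab => (MulAction.orbitRel_apply).mp (Quotient.eq.mp hab)
  have h3 : ({Quotient.mk _ x, Quotient.mk _ y, Quotient.mk _ z} :
      Finset (MulAction.orbitRel.Quotient H X)).card = 3 := by
    refine Finset.card_eq_three.mpr ⟨_, _, _, ?_, ?_, ?_, rfl⟩
    · intro e; exact hne (hcl _ _ e.symm)
    · intro e
      obtain ⟨h, hh⟩ := hcl _ _ e.symm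
      exact hz (hh ▸ hS h x hx)
    · intro e
      obtain ⟨h, hh⟩ := hcl _ _ e.symm
      exact hz (hh ▸ hS h y hy)
  have := Finset.card_le_univ ({Quotient.mk _ x, Quotient.mk _ y, Quotient.mk _ z} :
      Finset (MulAction.orbitRel.Quotient H X))
  omega

end Orbits

/-- Two-transitivity on a type. -/
def TwoTrans (G P : Type*) [Group G] [MulAction G P] : Prop :=
  ∀ a b c d : P, a ≠ b → c ≠ d → ∃ g : G, g • a = c ∧ g • b = d

section TwoTrans

variable {G P L : Type*} [Group G] [MulAction G P] [MulAction G L] [Membership P L]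
  [ProjectivePlane P L] [IsColl G P L] [Finite P] [Finite L]

namespace TwoTrans

variable (h : TwoTrans G P)
include h

/-- Transitive on flags. -/
lemma flag {C C' : P} {l m : L} (hl : C ∈ l) (hm : C' ∈ m) :
    ∃ g : G, g • C = C' ∧ g • l = m := by
  obtain ⟨a, ha, hac⟩ := exists_mem_ne l C
  obtain ⟨b, hb, hbc⟩ := exists_mem_ne m C'
  obtain ⟨g, hgC, hga⟩ := h C a C' b hac.symm hbc.symm
  exact ⟨g, hgC, line_eq hbc.symm (hgC ▸ smul_mem g hl) (hga ▸ smul_mem g ha) hm hb⟩

lemma line (l m : L) : ∃ g : G, g • l = m := by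
  obtain ⟨a, _, ha, -⟩ := exists_two_mem (P := P) l
  obtain ⟨b, _, hb, -⟩ := exists_two_mem (P := P) m
  obtain ⟨g, -, hg⟩ := h.flag ha hb
  exact ⟨g, hg⟩

omit [ProjectivePlane P L] [IsColl G P L] [Finite P] [Finite L] in
lemma point [Nontrivial P] (a b : P) : ∃ g : G, g • a = b := by
  obtain ⟨a', ha⟩ := exists_ne a
  obtain ⟨b', hb⟩ := exists_ne b
  obtain ⟨g, hg, -⟩ := h a a' b b' ha.symm hb.symm
  exact ⟨g, hg⟩

omit [Finite L] [IsColl G P L] in
lemma pointTrans [Finite L] (L' : L) (a b : P) : ∃ g : G, g • a = b := by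
  obtain ⟨x, y, -, -, hne⟩ := exists_two_mem (P := P) L'
  have : Nontrivial P := ⟨⟨x, y, hne⟩⟩
  exact h.point a b

variable [Finite G]

lemma stab_point_orbits (C : P) :
    Nat.card (MulAction.orbitRel.Quotient (MulAction.stabilizer G C) L) ≤ 2 := by
  rw [← natCard_orbits_eq (MulAction.stabilizer G C) P L]
  refine natCard_orbits_le_two (fun x => x = C) ?_ ?_
  · rintro x y rfl rfl; exact ⟨1, one_smul _ _⟩
  · intro x y hx hy
    obtain ⟨g, hg1, hg2⟩ := h C x C y (Ne.symm hx) (Ne.symm hy)
    exact ⟨⟨g, hg1⟩, hg2⟩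

/-- The stabiliser of a point is transitive on the lines not through it. -/
lemma antiflag {C C' : P} {l m : L} (hl : C ∉ l) (hm : C' ∉ m) :
    ∃ g : G, g • C = C' ∧ g • l = m := by
  obtain ⟨g, hg⟩ := h.pointTrans l C C'
  obtain ⟨z, hz⟩ := exists_line_mem (L := L) C'
  obtain ⟨k, hk⟩ := exists_smul_eq_of_two_orbits (h.stab_point_orbits C') (fun x : L => C' ∉ x)
    (fun k x hx => by
      have hk : (k : G) • C' = C' := k.2
      have := smul_not_mem (k : G) hx
      rwa [hk] at this)
    (z := z) (not_not.mpr hz) (x := g • l) (y := m) (hg ▸ smul_not_mem g hl) hm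
  refine ⟨(k : G) * g, ?_, ?_⟩
  · rw [mul_smul, hg]; exact k.2
  · rw [mul_smul]; exact hk

lemma stab_line_orbits (l : L) :
    Nat.card (MulAction.orbitRel.Quotient (MulAction.stabilizer G l) L) ≤ 2 := by
  rw [← natCard_orbits_eq (MulAction.stabilizer G l) P L]
  refine natCard_orbits_le_two (fun x => x ∈ l) ?_ ?_
  · intro x y hx hy
    obtain ⟨g, hg, hgl⟩ := h.flag hx hy
    exact ⟨⟨g, hgl⟩, hg⟩
  · intro x y hx hy
    obtain ⟨g, hg, hgl⟩ := h.antiflag hx hy
    exact ⟨⟨g, hgl⟩, hg⟩

/-- Two-transitive on lines. -/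
lemma lines : TwoTrans G L := by
  intro a b c d hab hcd
  obtain ⟨g, hg⟩ := h.line a c
  have hgb : g • b ≠ c := hg ▸ (MulAction.injective g).ne hab.symm
  obtain ⟨k, hk⟩ := exists_smul_eq_of_two_orbits (h.stab_line_orbits c) (fun x : L => x ≠ c)
    (fun k x hx e => hx (MulAction.injective (k : G)
      (show (k : G) • x = (k : G) • c from e.trans k.2.symm)))
    (z := c) (not_not.mpr rfl) (x := g • b) (y := d) hgb hcd.symm
  refine ⟨(k : G) * g, ?_, ?_⟩
  · rw [mul_smul, hg]; exact k.2
  · rw [mul_smul]; exact hk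

omit [Finite G] in
lemma dual [Finite G] : TwoTrans G (Dual L) := TwoTrans.lines (P := P) (L := L) h

end TwoTrans

end TwoTrans

/-- The full group of collineations. -/
def Col (P L : Type*) [Membership P L] : Subgroup (Equiv.Perm P × Equiv.Perm L) where
  carrier := {st | ∀ (p : P) (l : L), st.1 p ∈ st.2 l ↔ p ∈ l}
  one_mem' p l := by simp
  mul_mem' {a b} ha hb p l := by
    simp only [Set.mem_ofPred_eq, Prod.fst_mul, Prod.snd_mul, Equiv.Perm.mul_apply] at *
    rw [ha, hb]
  inv_mem' {a} ha p l := by
    have := ha (a.1.symm p) (a.2.symm l)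
    simp only [Equiv.apply_symm_apply] at this
    exact this.symm

section Col

variable {P L : Type*} [Membership P L]

instance instColActPt : MulAction (Col P L) P :=
  MulAction.compHom P ((MonoidHom.fst (Equiv.Perm P) (Equiv.Perm L)).comp (Col P L).subtype)

instance instColActLn : MulAction (Col P L) L :=
  MulAction.compHom L ((MonoidHom.snd (Equiv.Perm P) (Equiv.Perm L)).comp (Col P L).subtype)

@[simp] lemma col_smul_pt (g : Col P L) (p : P) : g • p = g.1.1 p := rfl

@[simp] lemma col_smul_ln (g : Col P L) (l : L) : g • l = g.1.2 l := rfl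

instance instIsCollCol : IsColl (Col P L) P L := ⟨fun g p l => g.2 p l⟩

instance instCollCol [ProjectivePlane P L] [Finite P] [Finite L] : Coll (Col P L) P L where
  faithful g h := by
    refine Subtype.ext (Prod.ext (Equiv.ext h) (Equiv.ext fun l => ?_))
    obtain ⟨a, b, ha, hb, hne⟩ := exists_two_mem (P := P) l
    exact smul_eq_of_two_pts (G := Col P L) hne (h a) (h b) ha hb

/-- The action of a group by collineations, as a homomorphism into the collineation group. -/
def toCol (G P L : Type*) [Group G] [MulAction G P] [MulAction G L] [Membership P L]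
    [IsColl G P L] : G →* Col P L where
  toFun g := ⟨(MulAction.toPerm g, MulAction.toPerm g), fun p l => IsColl.mem_iff g p l⟩
  map_one' := by ext x <;> simp
  map_mul' a b := by ext x <;> simp [mul_smul]

@[simp] lemma toCol_smul_pt {G : Type*} [Group G] [MulAction G P] [MulAction G L] [IsColl G P L]
    (g : G) (p : P) : toCol G P L g • p = g • p := rfl

@[simp] lemma toCol_smul_ln {G : Type*} [Group G] [MulAction G P] [MulAction G L] [IsColl G P L]
    (g : G) (l : L) : toCol G P L g • l = g • l := rfl

end Col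

end Cfsg.Agent.OW
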