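import Cfsg.Agent.Lib.OstromWagner.Basic

/-!
# Central collineations

Axes, centres, elations and homologies of finite projective planes; involutions.
-/

set_option autoImplicit false
set_option linter.unusedSectionVars false

namespace Cfsg.Agent.OW

open Configuration

/-- All points of `l` are fixed. -/
def IsAxis {G L : Type*} {P : Type*} [Group G] [MulAction G P] [Membership P L] (g : G) (l : L) :
    Prop :=
  ∀ p : P, p ∈ l → g • p = p

/-- All lines through `C` are fixed. -/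
def IsCentre {G P : Type*} (L : Type*) [Group G] [MulAction G L] [Membership P L] (g : G) (C : P) :
    Prop :=
  ∀ l : L, C ∈ l → g • l = l

/-- `g` has centre `C` and axis `l`. -/
def Axial {G P L : Type*} [Group G] [MulAction G P] [MulAction G L] [Membership P L] (g : G) (C : P)
    (l : L) : Prop :=
  IsAxis g l ∧ IsCentre L g C

/-- There is a nontrivial elation. -/
def HasElation (G P L : Type*) [Group G] [MulAction G P] [MulAction G L] [Membership P L] : Prop :=
  ∃ (g : G) (C : P) (l : L), C ∈ l ∧ g ≠ 1 ∧ Axial g C l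

/-- There is a nontrivial central collineation. -/
def HasCentral (G P L : Type*) [Group G] [MulAction G P] [MulAction G L] [Membership P L] : Prop :=
  ∃ (g : G) (C : P) (l : L), g ≠ 1 ∧ Axial g C l

/-- No line contains the three points. -/
def NonCol {P : Type*} (L : Type*) [Membership P L] (a b c : P) : Prop :=
  ∀ l : L, a ∈ l → b ∈ l → c ∈ l → False

/-- A set of points contains four points, no three on a line. -/
def HasQuad {P : Type*} (L : Type*) [Membership P L] (F : P → Prop) : Prop :=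
  ∃ a b c d : P, F a ∧ F b ∧ F c ∧ F d ∧
    NonCol L a b c ∧ NonCol L a b d ∧ NonCol L a c d ∧ NonCol L b c d

variable {G P L : Type*} [Group G] [MulAction G P] [MulAction G L] [Membership P L]
  [ProjectivePlane P L]

lemma Axial.axis {g : G} {C : P} {l : L} (h : Axial g C l) : IsAxis g l := h.1

lemma Axial.centre {g : G} {C : P} {l : L} (h : Axial g C l) : IsCentre L g C := h.2

lemma Axial.dual {g : G} {C : P} {l : L} (h : Axial g C l) :
    Axial (P := Dual L) (L := Dual P) g l C :=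
  ⟨h.2, h.1⟩

lemma Axial.of_dual {g : G} {C : P} {l : L} (h : Axial (P := Dual L) (L := Dual P) g l C) :
    Axial g C l :=
  ⟨h.2, h.1⟩

lemma HasElation.of_dual (h : HasElation G (Dual L) (Dual P)) : HasElation G P L := by
  obtain ⟨g, C, l, hC, hg, ha⟩ := h
  exact ⟨g, l, C, hC, hg, Axial.of_dual (P := P) (L := L) ha⟩

variable [Finite P] [Finite L]

section IsColl

variable [IsColl G P L]

lemma IsAxis.fix_line {g : G} {l : L} (h : IsAxis g l) : g • l = l := by
  obtain ⟨a, b, ha, hb, hne⟩ := exists_two_mem (P := P) l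
  exact smul_eq_of_two_pts hne (h a ha) (h b hb) ha hb

lemma IsCentre.fix_point {g : G} {C : P} (h : IsCentre L g C) : g • C = C :=
  IsAxis.fix_line (P := Dual L) (L := Dual P) h

lemma IsAxis.one (l : L) : IsAxis (1 : G) l := fun _ _ => one_smul _ _

lemma IsCentre.one (C : P) : IsCentre L (1 : G) C := fun _ _ => one_smul _ _

lemma Axial.one (C : P) (l : L) : Axial (1 : G) C l := ⟨IsAxis.one l, IsCentre.one C⟩

lemma IsAxis.mul {g h : G} {l : L} (hg : IsAxis g l) (hh : IsAxis h l) : IsAxis (g * h) l :=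
  fun p hp => by rw [mul_smul, hh p hp, hg p hp]

lemma IsAxis.inv {g : G} {l : L} (hg : IsAxis g l) : IsAxis g⁻¹ l :=
  fun p hp => inv_smul_eq_iff.mpr (hg p hp).symm

lemma IsCentre.mul {g h : G} {C : P} (hg : IsCentre L g C) (hh : IsCentre L h C) :
    IsCentre L (g * h) C :=
  IsAxis.mul (P := Dual L) (L := Dual P) hg hh

lemma IsCentre.inv {g : G} {C : P} (hg : IsCentre L g C) : IsCentre L g⁻¹ C :=
  IsAxis.inv (P := Dual L) (L := Dual P) hg

lemma Axial.mul {g h : G} {C : P} {l : L} (hg : Axial g C l) (hh : Axial h C l) :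
    Axial (g * h) C l :=
  ⟨hg.1.mul hh.1, hg.2.mul hh.2⟩

lemma Axial.inv {g : G} {C : P} {l : L} (hg : Axial g C l) : Axial g⁻¹ C l :=
  ⟨hg.1.inv, hg.2.inv⟩

lemma Axial.pow {g : G} {C : P} {l : L} (hg : Axial g C l) (k : ℕ) : Axial (g ^ k) C l := by
  induction k with
  | zero => simpa using Axial.one C l
  | succ k ih => rw [pow_succ]; exact ih.mul hg

lemma IsAxis.conj {g : G} {l : L} (a : G) (hg : IsAxis g l) : IsAxis (a * g * a⁻¹) (a • l) := by
  intro p hp
  have : a⁻¹ • p ∈ l := by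
    have := smul_mem a⁻¹ hp
    rwa [inv_smul_smul] at this
  rw [mul_smul, mul_smul, hg _ this, smul_inv_smul]

lemma IsCentre.conj {g : G} {C : P} (a : G) (hg : IsCentre L g C) :
    IsCentre L (a * g * a⁻¹) (a • C) :=
  IsAxis.conj (P := Dual L) (L := Dual P) a hg

lemma Axial.conj {g : G} {C : P} {l : L} (a : G) (hg : Axial g C l) :
    Axial (a * g * a⁻¹) (a • C) (a • l) :=
  ⟨hg.1.conj a, hg.2.conj a⟩

/-- An axial collineation has a centre. -/
theorem IsAxis.exists_centre {g : G} {l : L} (h : IsAxis g l) : ∃ C : P, IsCentre L g C := by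
  classical
  by_cases hfix : ∃ C : P, C ∉ l ∧ g • C = C
  · obtain ⟨C, hCl, hC⟩ := hfix
    refine ⟨C, fun m hm => ?_⟩
    exact smul_eq_of_two_pts (ne_of_mem_of_not_mem (meet_mem_right m l) hCl).symm hC
      (h _ (meet_mem_right m l)) hm (meet_mem_left m l)
  push Not at hfix
  obtain ⟨p, hp⟩ := Nondegenerate.exists_point (P := P) l
  have hgl := h.fix_line
  have line_fixed : ∀ q : P, q ∉ l → g • lineThru L q (g • q) = lineThru L q (g • q) := by
    intro q hq
    have hgq : g • q ≠ q := hfix q hq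
    set m := lineThru L q (g • q)
    have hml : m ≠ l := ne_line_of_mem_of_not_mem (left_mem_lineThru q (g • q)) hq
    have hgqC : meet P m l ≠ g • q := fun e =>
      hq ((smul_mem_iff_of_fix hgl q).mp (e ▸ meet_mem_right m l))
    refine line_eq hgqC ?_ (smul_mem g (left_mem_lineThru q (g • q))) (meet_mem_left m l)
      (right_mem_lineThru q (g • q))
    rw [← h _ (meet_mem_right m l)]
    exact smul_mem g (meet_mem_left m l)
  set m := lineThru L p (g • p) with hm
  have hml : m ≠ l := ne_line_of_mem_of_not_mem (left_mem_lineThru p (g • p)) hp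
  refine ⟨meet P m l, fun k hk => ?_⟩
  rcases eq_or_ne k l with rfl | hkl
  · exact hgl
  rcases eq_or_ne k m with rfl | hkm
  · exact line_fixed p hp
  obtain ⟨q, hqk, hqC⟩ := exists_mem_ne k (meet P m l)
  have hql : q ∉ l := fun e => hqC (point_eq hkl hqk e hk (meet_mem_right m l))
  set mq := lineThru L q (g • q) with hmq
  have hmqm : mq ≠ m := fun e =>
    hqC (point_eq hkm hqk (e ▸ left_mem_lineThru q (g • q)) hk (meet_mem_left m l))
  have hY : meet P mq m ∈ l := by
    by_contra hY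
    exact hfix _ hY (meet_fixed hmqm (line_fixed q hql) (line_fixed p hp))
  have hYC : meet P mq m = meet P m l :=
    (meet_eq hml (meet_mem_right mq m) hY).symm
  have : mq = k := line_eq hqC (left_mem_lineThru q (g • q))
    (hYC ▸ meet_mem_left mq m) hqk hk
  rw [← this]
  exact line_fixed q hql

theorem IsCentre.exists_axis {g : G} {C : P} (h : IsCentre L g C) : ∃ l : L, IsAxis g l :=
  IsAxis.exists_centre (P := Dual L) (L := Dual P) h

end IsColl

section Coll

variable [Coll G P L]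

lemma Axial.fixed_pt {g : G} {C : P} {l : L} (h : Axial g C l) (hg : g ≠ 1) {p : P}
    (hp : g • p = p) : p = C ∨ p ∈ l := by
  by_contra hc
  push Not at hc
  obtain ⟨hpC, hpl⟩ := hc
  apply hg
  refine eq_one_of_fix_off (lineThru L C p) fun q hq => ?_
  by_cases hql : q ∈ l
  · exact h.1 q hql
  have hCq : C ≠ q := fun e => hq (e ▸ left_mem_lineThru C p)
  have hpq : p ≠ q := fun e => hq (e ▸ right_mem_lineThru C p)
  set a := lineThru L C q with ha
  set b := lineThru L p q with hb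
  have hab : a ≠ b := by
    intro e
    exact hq ((lineThru_eq hpC.symm (left_mem_lineThru C q)
      (show p ∈ a by rw [e]; exact left_mem_lineThru p q)).symm ▸ right_mem_lineThru C q)
  have hbfix : g • b = b :=
    smul_eq_of_two_pts (ne_of_mem_of_not_mem (meet_mem_right b l) hpl) (h.1 _ (meet_mem_right b l))
      hp (meet_mem_left b l) (left_mem_lineThru p q)
  exact smul_eq_of_two_lns hab (h.2 a (left_mem_lineThru C q)) hbfix (right_mem_lineThru C q)
    (right_mem_lineThru p q)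

lemma Axial.fixed_ln {g : G} {C : P} {l : L} (h : Axial g C l) (hg : g ≠ 1) {m : L}
    (hm : g • m = m) : m = l ∨ C ∈ m :=
  Axial.fixed_pt (P := Dual L) (L := Dual P) h.dual hg hm

lemma Axial.axis_unique {g : G} {C : P} {l l' : L} (h : Axial g C l) (hg : g ≠ 1)
    (h' : IsAxis g l') : l' = l := by
  by_contra hne
  obtain ⟨p, hp, hp1, hp2⟩ := exists_mem_ne_ne l' (meet P l' l) C
  rcases h.fixed_pt hg (h' p hp) with e | e
  · exact hp2 e
  · exact hp1 (meet_eq hne hp e).symm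

lemma Axial.centre_unique {g : G} {C C' : P} {l : L} (h : Axial g C l) (hg : g ≠ 1)
    (h' : IsCentre L g C') : C' = C :=
  Axial.axis_unique (P := Dual L) (L := Dual P) h.dual hg h'

lemma Axial.eq_of {g : G} {C C' : P} {l l' : L} (h : Axial g C l) (hg : g ≠ 1)
    (h' : Axial g C' l') : C' = C ∧ l' = l :=
  ⟨h.centre_unique hg h'.2, h.axis_unique hg h'.1⟩

lemma Axial.eq_one_of {g : G} {C : P} {l : L} (h : Axial g C l) {p : P} (hp : g • p = p)
    (hpC : p ≠ C) (hpl : p ∉ l) : g = 1 := by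
  by_contra hg
  rcases h.fixed_pt hg hp with e | e
  exacts [hpC e, hpl e]

/-- The centre and the axis of an axial collineation are fixed by its centraliser. -/
lemma Axial.fix_of_commute {g x : G} {C : P} {l : L} (h : Axial g C l) (hg : g ≠ 1)
    (hx : x * g = g * x) : x • C = C ∧ x • l = l := by
  have := h.conj x
  rw [mul_inv_eq_iff_eq_mul.mpr hx] at this
  exact h.eq_of hg this

/-- `C` is the centre and `l` the axis of the conjugate by `x` of `g` if `x` inverts `g`. -/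
lemma Axial.fix_of_invert {g x : G} {C : P} {l : L} (h : Axial g C l) (hg : g ≠ 1)
    (hx : x * g * x⁻¹ = g⁻¹) : x • C = C ∧ x • l = l := by
  have := h.conj x
  rw [hx] at this
  exact h.inv.eq_of (inv_ne_one.mpr hg) this

/-- The product of two elations with the same axis is an elation. -/
lemma Axial.mul_elation {e₁ e₂ : G} {C₁ C₂ : P} {l : L} (h₁ : Axial e₁ C₁ l) (h₂ : Axial e₂ C₂ l)
    (hC₁ : C₁ ∈ l) (hC₂ : C₂ ∈ l) : ∃ C : P, C ∈ l ∧ Axial (e₁ * e₂) C l := by
  rcases eq_or_ne C₁ C₂ with rfl | hne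
  · exact ⟨C₁, hC₁, h₁.mul h₂⟩
  rcases eq_or_ne (e₁ * e₂) 1 with e | hprod
  · exact ⟨C₁, hC₁, e ▸ Axial.one C₁ l⟩
  rcases eq_or_ne e₂ 1 with rfl | he₂
  · exact ⟨C₁, hC₁, by rw [mul_one]; exact h₁⟩
  obtain ⟨Z, hZ⟩ := (h₁.1.mul h₂.1).exists_centre
  have hax : Axial (e₁ * e₂) Z l := ⟨h₁.1.mul h₂.1, hZ⟩
  refine ⟨Z, ?_, hax⟩
  by_contra hZl
  have hfix : e₂ • Z = e₁⁻¹ • Z := by
    rw [eq_inv_smul_iff, ← mul_smul]
    exact hZ.fix_point
  have hZ1 : C₁ ≠ Z := ne_of_mem_of_not_mem hC₁ hZl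
  have hZ2 : C₂ ≠ Z := ne_of_mem_of_not_mem hC₂ hZl
  have hm1 : e₂ • Z ∈ lineThru L C₁ Z := by
    rw [hfix, ← h₁.inv.2 _ (left_mem_lineThru C₁ Z)]
    exact smul_mem _ (right_mem_lineThru C₁ Z)
  have hm2 : e₂ • Z ∈ lineThru L C₂ Z := by
    rw [← h₂.2 _ (left_mem_lineThru C₂ Z)]
    exact smul_mem _ (right_mem_lineThru C₂ Z)
  have hlines : lineThru L C₁ Z ≠ lineThru L C₂ Z := fun e =>
    hZl (line_eq hne (left_mem_lineThru C₁ Z) (e ▸ left_mem_lineThru C₂ Z) hC₁ hC₂ ▸
      right_mem_lineThru C₁ Z)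
  have : e₂ • Z = Z := point_eq hlines hm1 hm2 (right_mem_lineThru C₁ Z) (right_mem_lineThru C₂ Z)
  exact he₂ (h₂.eq_one_of this hZ2.symm hZl)

lemma Axial.commute_of_ne {e₁ e₂ : G} {C₁ C₂ : P} {l : L} (h₁ : Axial e₁ C₁ l)
    (h₂ : Axial e₂ C₂ l) (hC₁ : C₁ ∈ l) (hC₂ : C₂ ∈ l) (hne : C₁ ≠ C₂) : e₁ * e₂ = e₂ * e₁ := by
  have hA : Axial (e₁ * e₂ * e₁⁻¹ * e₂⁻¹) C₂ l := by
    have := h₂.conj e₁
    rw [h₁.1 C₂ hC₂, h₁.1.fix_line] at this
    exact this.mul h₂.inv
  have hB : Axial (e₁ * (e₂ * e₁⁻¹ * e₂⁻¹)) C₁ l := by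
    have := h₁.inv.conj e₂
    rw [h₂.1 C₁ hC₁, h₂.1.fix_line] at this
    exact h₁.mul this
  by_contra hcomm
  have hc : e₁ * e₂ * e₁⁻¹ * e₂⁻¹ ≠ 1 := by
    intro e
    exact hcomm (by rwa [mul_inv_eq_one, mul_inv_eq_iff_eq_mul] at e)
  simp only [← mul_assoc] at hB
  exact hne (hA.centre_unique hc hB.2)

/-- Elations with a common axis commute, if two centres occur. -/
lemma Axial.commute_of_two {e₁ e₂ e₃ : G} {C₁ C₂ C₃ : P} {l : L} (h₁ : Axial e₁ C₁ l)
    (h₂ : Axial e₂ C₂ l) (h₃ : Axial e₃ C₃ l) (hC₁ : C₁ ∈ l) (hC₂ : C₂ ∈ l) (hC₃ : C₃ ∈ l)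
    (he₃ : e₃ ≠ 1) (hne : C₁ ≠ C₃) : e₁ * e₂ = e₂ * e₁ := by
  rcases eq_or_ne C₁ C₂ with rfl | hne12
  swap
  · exact h₁.commute_of_ne h₂ hC₁ hC₂ hne12
  obtain ⟨C', hC', h'⟩ := h₂.mul_elation h₃ hC₂ hC₃
  rcases eq_or_ne C₁ C' with rfl | hne'
  · have : Axial e₃ C₁ l := by simpa using h₂.inv.mul h'
    exact absurd (h₃.centre_unique he₃ this.2) hne
  · have hc3 := h₁.commute_of_ne h₃ hC₁ hC₃ hne
    have hc' := h₁.commute_of_ne h' hC₁ hC' hne'
    have h5 : e₁ * (e₂ * e₃) * e₃⁻¹ = (e₂ * e₃) * e₁ * e₃⁻¹ := by rw [hc']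
    have h6 : e₁ * e₃⁻¹ = e₃⁻¹ * e₁ := by
      rw [eq_inv_mul_iff_mul_eq, ← mul_assoc, ← hc3, mul_inv_cancel_right]
    calc e₁ * e₂ = e₁ * (e₂ * e₃) * e₃⁻¹ := by group
      _ = e₂ * e₃ * (e₁ * e₃⁻¹) := by rw [h5]; group
      _ = e₂ * e₁ := by rw [h6]; group

/-- With two centres, elations with a common axis have exponent a prime. -/
lemma Axial.pow_eq_one_of_two {e₁ e₂ : G} {C₁ C₂ : P} {l : L} {k : ℕ} (h₁ : Axial e₁ C₁ l)
    (h₂ : Axial e₂ C₂ l) (hC₁ : C₁ ∈ l) (hC₂ : C₂ ∈ l) (he₁ : e₁ ≠ 1) (hne : C₁ ≠ C₂)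
    (hk : e₁ ^ k = 1) : e₂ ^ k = 1 := by
  obtain ⟨C', hC', h'⟩ := h₁.mul_elation h₂ hC₁ hC₂
  by_contra hne1
  have hcomm : Commute e₁ e₂ := h₁.commute_of_ne h₂ hC₁ hC₂ hne
  have hp : Axial (e₂ ^ k) C' l := by
    have := h'.pow k
    rwa [hcomm.mul_pow, hk, one_mul] at this
  obtain rfl : C' = C₂ := (h₂.pow k).centre_unique hne1 hp.2
  have h : Axial e₁ C' l := by simpa using h'.mul h₂.inv
  exact hne (h₁.centre_unique he₁ h.2).symm

variable [Finite G]

/-- All elations with axis `l` have the same prime order if two centres occur. -/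
lemma exists_prime_of_two {e₁ e₂ : G} {C₁ C₂ : P} {l : L} (h₁ : Axial e₁ C₁ l)
    (h₂ : Axial e₂ C₂ l) (hC₁ : C₁ ∈ l) (hC₂ : C₂ ∈ l) (he₁ : e₁ ≠ 1) (he₂ : e₂ ≠ 1)
    (hne : C₁ ≠ C₂) :
    ∃ p : ℕ, p.Prime ∧ ∀ (e : G) (C : P), C ∈ l → Axial e C l → e ^ p = 1 := by
  have ho : orderOf e₁ ≠ 1 := fun e => he₁ (orderOf_eq_one_iff.mp e)
  obtain ⟨p, hp, hdvd⟩ := Nat.exists_prime_and_dvd ho
  refine ⟨p, hp, ?_⟩
  have hx1 : orderOf (e₁ ^ (orderOf e₁ / p)) = p := orderOf_pow_orderOf_div (orderOf_pos e₁).ne' hdvd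
  have hx := h₁.pow (orderOf e₁ / p)
  have hxne : e₁ ^ (orderOf e₁ / p) ≠ 1 := fun e => hp.ne_one (by rw [← hx1, e, orderOf_one])
  have hxp : (e₁ ^ (orderOf e₁ / p)) ^ p = 1 := by
    have := pow_orderOf_eq_one (e₁ ^ (orderOf e₁ / p))
    rwa [hx1] at this
  have h2p : e₂ ^ p = 1 := hx.pow_eq_one_of_two h₂ hC₁ hC₂ hxne hne hxp
  intro e C hC he
  rcases eq_or_ne C C₁ with rfl | hC'
  · exact h₂.pow_eq_one_of_two he hC₂ hC he₂ hne.symm h2p
  · exact hx.pow_eq_one_of_two he hC₁ hC hxne hC'.symm hxp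

end Coll

section Invol

variable [Coll G P L]

/-- An involution. -/
def IsInv (g : G) : Prop := g ≠ 1 ∧ g * g = 1

lemma IsInv.inv_eq {g : G} (h : IsInv g) : g⁻¹ = g := inv_eq_of_mul_eq_one_right h.2

lemma IsInv.conj {g : G} (h : IsInv g) (a : G) : IsInv (a * g * a⁻¹) := by
  refine ⟨fun e => h.1 ?_, ?_⟩
  · rwa [mul_inv_eq_one, mul_eq_left] at e
  · rw [show a * g * a⁻¹ * (a * g * a⁻¹) = a * (g * g) * a⁻¹ by group, h.2]; group

lemma IsInv.smul_smul_pt {g : G} (h : IsInv g) {X : Type*} [MulAction G X] (p : X) :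
    g • g • p = p := by
  rw [← mul_smul, h.2, one_smul]

/-- Every line contains a fixed point of an involution. -/
lemma IsInv.exists_fixed_pt_on {g : G} (h : IsInv g) (l : L) : ∃ p : P, p ∈ l ∧ g • p = p := by
  by_cases hl : g • l = l
  · by_contra hc
    push Not at hc
    apply h.1
    refine eq_one_of_fix_off l fun q hq => ?_
    by_contra hgq
    set m := lineThru L q (g • q)
    have hm : g • m = m := by
      refine line_eq (Ne.symm hgq) ?_ (smul_mem g (left_mem_lineThru q (g • q)))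
        (left_mem_lineThru q (g • q)) (right_mem_lineThru q (g • q))
      have h2 := smul_mem g (right_mem_lineThru (L := L) q (g • q))
      rwa [h.smul_smul_pt] at h2
    exact hc _ (meet_mem_right m l)
      (meet_fixed (ne_line_of_mem_of_not_mem (left_mem_lineThru q (g • q)) hq) hm hl)
  · refine ⟨meet P l (g • l), meet_mem_left _ _, ?_⟩
    rw [smul_meet g (Ne.symm hl), h.smul_smul_pt l]
    exact meet_eq hl (meet_mem_right l (g • l)) (meet_mem_left l (g • l))

/-- Every point is on a fixed line of an involution. -/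
lemma IsInv.exists_fixed_ln_through {g : G} (h : IsInv g) (p : P) :
    ∃ l : L, p ∈ l ∧ g • l = l :=
  IsInv.exists_fixed_pt_on (P := Dual L) (L := Dual P) h p

/-- An involution without fixed quadrangle is central. -/
theorem IsInv.central_of_not_quad {g : G} (h : IsInv g)
    (hq : ¬ HasQuad L (fun p : P => g • p = p)) : ∃ (C : P) (l : L), Axial g C l := by
  classical
  have h1 : ∀ p : P, ∃ q : P, q ≠ p ∧ g • q = q := by
    intro p
    obtain ⟨m, hm⟩ := Nondegenerate.exists_line (L := L) p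
    obtain ⟨q, hq, hgq⟩ := h.exists_fixed_pt_on m
    exact ⟨q, ne_of_mem_of_not_mem hq hm, hgq⟩
  suffices hs : ∃ (l : L) (O : P), (∀ p : P, g • p = p → p ∈ l ∨ p = O) ∧
      ∃ a b : P, a ≠ b ∧ a ∈ l ∧ b ∈ l ∧ g • a = a ∧ g • b = b by
    obtain ⟨l, O, hO, a, b, hab, hal, hbl, hga, hgb⟩ := hs
    have hgl : g • l = l := smul_eq_of_two_pts hab hga hgb hal hbl
    have hax : IsAxis g l := by
      intro Y hY
      by_contra hgY
      obtain ⟨m₁, hm₁Y, hm₁⟩ := exists_line_ne Y l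
      obtain ⟨m₂, hm₂Y, hm₂, hm₂₁⟩ := exists_line_ne_ne Y l m₁
      have key : ∀ m : L, Y ∈ m → m ≠ l → O ∈ m := by
        intro m hm hml
        obtain ⟨q, hqm, hgq⟩ := h.exists_fixed_pt_on m
        rcases hO q hgq with hql | rfl
        · exact absurd (point_eq hml hm hY hqm hql ▸ hgq) hgY
        · exact hqm
      have hOY : O ≠ Y := by
        obtain ⟨q, hqm, hgq⟩ := h.exists_fixed_pt_on m₁
        rcases hO q hgq with hql | rfl
        · exact absurd (point_eq hm₁ hm₁Y hY hqm hql ▸ hgq) hgY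
        · exact fun e => hgY (e ▸ hgq)
      exact hm₂₁ (line_eq hOY (key m₂ hm₂Y hm₂) hm₂Y (key m₁ hm₁Y hm₁) hm₁Y)
    obtain ⟨C, hC⟩ := hax.exists_centre
    exact ⟨C, l, hax, hC⟩
  by_cases htri : ∃ a b c : P, g • a = a ∧ g • b = b ∧ g • c = c ∧ NonCol L a b c
  swap
  · obtain ⟨a, -, ha⟩ := h1 (nonempty_point (P := P) L).some
    obtain ⟨b, hba, hb⟩ := h1 a
    refine ⟨lineThru L a b, a, fun p hp => Or.inl ?_, a, b, hba.symm, left_mem_lineThru a b,
      right_mem_lineThru a b, ha, hb⟩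
    by_contra hpl
    exact htri ⟨a, b, p, ha, hb, hp, fun l h1 h2 h3 =>
      hpl (lineThru_eq hba.symm h1 h2 ▸ h3)⟩
  obtain ⟨a, b, c, ha, hb, hc, habc⟩ := htri
  have hab : a ≠ b := fun e => habc (lineThru L a c) (left_mem_lineThru a c)
    (e ▸ left_mem_lineThru a c) (right_mem_lineThru a c)
  have hac : a ≠ c := fun e => habc (lineThru L a b) (left_mem_lineThru a b)
    (right_mem_lineThru a b) (e ▸ left_mem_lineThru a b)
  have hbc : b ≠ c := fun e => habc (lineThru L a b) (left_mem_lineThru a b)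
    (right_mem_lineThru a b) (e ▸ right_mem_lineThru a b)
  have hside : ∀ p : P, g • p = p →
      p ∈ lineThru L a b ∨ p ∈ lineThru L a c ∨ p ∈ lineThru L b c := by
    intro p hp
    by_contra hn
    push Not at hn
    refine hq ⟨a, b, c, p, ha, hb, hc, hp, habc, ?_, ?_, ?_⟩
    · exact fun l h1 h2 h3 => hn.1 (lineThru_eq hab h1 h2 ▸ h3)
    · exact fun l h1 h2 h3 => hn.2.1 (lineThru_eq hac h1 h2 ▸ h3)
    · exact fun l h1 h2 h3 => hn.2.2 (lineThru_eq hbc h1 h2 ▸ h3)
  -- fixed points on two different sides, away from the vertices, give a quadrangle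
  have two : ∀ x y z d e : P, g • x = x → g • y = y → g • z = z → g • d = d → g • e = e →
      NonCol L x y z → d ∈ lineThru L x y → d ≠ x → d ≠ y → e ∈ lineThru L x z → e ≠ x → e ≠ z →
      False := by
    intro x y z d e hx hy hz hd he hxyz hd1 hdx hdy he1 hex hez
    have hxy : x ≠ y := fun e => hxyz (lineThru L x z) (left_mem_lineThru x z)
      (e ▸ left_mem_lineThru x z) (right_mem_lineThru x z)
    have hxz : x ≠ z := fun e => hxyz (lineThru L x y) (left_mem_lineThru x y)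
      (right_mem_lineThru x y) (e ▸ left_mem_lineThru x y)
    refine hq ⟨y, z, d, e, hy, hz, hd, he, ?_, ?_, ?_, ?_⟩
    · intro l h1 h2 h3
      have e1 : l = lineThru L x y := line_eq hdy h3 h1 hd1 (right_mem_lineThru x y)
      exact hxyz l (e1 ▸ left_mem_lineThru x y) h1 h2
    · intro l h1 h2 h3
      have e1 : l = lineThru L x z := line_eq hez h3 h2 he1 (right_mem_lineThru x z)
      exact hxyz l (e1 ▸ left_mem_lineThru x z) h1 h2
    · intro l h1 h2 h3
      have e1 : l = lineThru L x y := line_eq hdy h2 h1 hd1 (right_mem_lineThru x y)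
      have e2 : l = lineThru L x z :=
        line_eq hex h3 (e1 ▸ left_mem_lineThru x y) he1 (left_mem_lineThru x z)
      exact hxyz l (e1 ▸ left_mem_lineThru x y) h1 (e2 ▸ right_mem_lineThru x z)
    · intro l h1 h2 h3
      have e1 : l = lineThru L x z := line_eq hez h3 h1 he1 (right_mem_lineThru x z)
      have e2 : l = lineThru L x y :=
        line_eq hdx h2 (e1 ▸ left_mem_lineThru x z) hd1 (left_mem_lineThru x y)
      exact hxyz l (e1 ▸ left_mem_lineThru x z) (e2 ▸ right_mem_lineThru x y) h1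
  have nc1 : NonCol L b a c := fun l h1 h2 h3 => habc l h2 h1 h3
  have nc2 : NonCol L c a b := fun l h1 h2 h3 => habc l h2 h3 h1
  by_cases hA : ∃ d : P, g • d = d ∧ d ∈ lineThru L a b ∧ d ≠ a ∧ d ≠ b
  · obtain ⟨d, hd, hd1, hda, hdb⟩ := hA
    refine ⟨lineThru L a b, c, fun p hp => ?_, a, b, hab, left_mem_lineThru a b,
      right_mem_lineThru a b, ha, hb⟩
    by_cases hpc : p = c
    · exact Or.inr hpc
    left
    rcases hside p hp with h2 | h2 | h2
    · exact h2
    · by_contra hne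
      exact two a b c d p ha hb hc hd hp habc hd1 hda hdb h2
        (fun e => hne (by rw [e]; exact left_mem_lineThru a b)) hpc
    · by_contra hne
      exact two b a c d p hb ha hc hd hp nc1 (by rwa [lineThru_comm hab.symm]) hdb hda h2
        (fun e => hne (by rw [e]; exact right_mem_lineThru a b)) hpc
  by_cases hB : ∃ d : P, g • d = d ∧ d ∈ lineThru L a c ∧ d ≠ a ∧ d ≠ c
  · obtain ⟨d, hd, hd1, hda, hdc⟩ := hB
    refine ⟨lineThru L a c, b, fun p hp => ?_, a, c, hac, left_mem_lineThru a c,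
      right_mem_lineThru a c, ha, hc⟩
    by_cases hpb : p = b
    · exact Or.inr hpb
    left
    rcases hside p hp with h2 | h2 | h2
    · by_contra hne
      exact hA ⟨p, hp, h2, fun e => hne (by rw [e]; exact left_mem_lineThru a c), hpb⟩
    · exact h2
    · by_contra hne
      exact two c a b d p hc ha hb hd hp nc2 (by rwa [lineThru_comm hac.symm]) hdc hda
        (by rwa [lineThru_comm hbc.symm]) (fun e => hne (by rw [e]; exact right_mem_lineThru a c)) hpb
  refine ⟨lineThru L b c, a, fun p hp => ?_, b, c, hbc, left_mem_lineThru b c,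
    right_mem_lineThru b c, hb, hc⟩
  by_cases hpa : p = a
  · exact Or.inr hpa
  left
  rcases hside p hp with h2 | h2 | h2
  · by_contra hne
    exact hA ⟨p, hp, h2, hpa, fun e => hne (by rw [e]; exact left_mem_lineThru b c)⟩
  · by_contra hne
    exact hB ⟨p, hp, h2, hpa, fun e => hne (by rw [e]; exact right_mem_lineThru b c)⟩
  · exact h2

end Invol

end Cfsg.Agent.OW
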