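import Cfsg.Agent.Lib.OstromWagner.Translation

/-!
# Coordinates for planes in which every line is a translation line

A plane with all elations gives a frame of translations; slopes of lines define a multiplication,
which is distributive on both sides, and satisfies the two inverse conditions behind the alternative
laws.
-/

set_option autoImplicit false
set_option linter.unusedSectionVars false

namespace Cfsg.Agent.OW

open Configuration

variable {G P L : Type*} [Group G] [MulAction G P] [MulAction G L] [Membership P L]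
  [ProjectivePlane P L] [Finite P] [Finite L] [Coll G P L] [Finite G]

/-- All possible elations exist. -/
def AllElations (G P L : Type*) [Group G] [MulAction G P] [MulAction G L] [Membership P L]
    [ProjectivePlane P L] [Finite P] [Finite L] [Coll G P L] : Prop :=
  ∀ (C : P) (a l : L) (A B : P), C ∈ l → C ∈ a → a ≠ l → A ∈ a → B ∈ a → A ≠ C → B ≠ C →
    ∃ e ∈ axGroup G C l, e • A = B

/-- In a 2-transitive group with an elation all elations exist. -/
theorem allElations_of_twoTrans (h2 : TwoTrans G P) (he : HasElation G P L) :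
    AllElations G P L := by
  classical
  intro C a l A B hCl hCa hal hA hB hAC hBC
  obtain ⟨hcard, -, -⟩ := translation h2 he
  have := Fintype.ofFinite P
  let f : axGroup G C l → {x : P // x ∈ a ∧ x ≠ C} := fun e =>
    ⟨(e : G) • A, Axial.mem_of_mem e.2 hCa hA,
      fun hh => hAC (MulAction.injective (e : G) (hh.trans (Axial.centre e.2).fix_point.symm))⟩
  have hinj : Function.Injective f := by
    intro x y hxy
    have h1 : ((y⁻¹ * x : axGroup G C l) : G) • A = A := by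
      rw [Subgroup.coe_mul, Subgroup.coe_inv, mul_smul, inv_smul_eq_iff]
      exact congrArg Subtype.val hxy
    exact (inv_mul_eq_one.mp (Subtype.ext (Axial.eq_one_of (y⁻¹ * x).2 h1 hAC
      fun hAl => hAC (point_eq hal hA hAl hCa hCl)))).symm
  have hbij : Function.Bijective f := (Nat.bijective_iff_injective_and_card f).mpr ⟨hinj, by
    have h1 := natCard_points_on (P := P) a
    rw [hcard C l hCl, Nat.card_eq_fintype_card, Fintype.card_subtype]
    rw [Nat.card_eq_fintype_card, Fintype.card_subtype] at h1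
    rw [show (Finset.univ.filter fun p : P => p ∈ a ∧ p ≠ C) =
      (Finset.univ.filter fun p : P => p ∈ a).erase C by ext; simp [and_comm],
      Finset.card_erase_of_mem (by simpa using hCa), h1, Nat.add_sub_cancel]⟩
  obtain ⟨e, he⟩ := hbij.2 ⟨B, hB, hBC⟩
  exact ⟨e, e.2, congrArg Subtype.val he⟩

/-- A coordinate frame. -/
structure Frame (G P L : Type*) [Group G] [MulAction G P] [MulAction G L] [Membership P L]
    [ProjectivePlane P L] [Finite P] [Finite L] [Coll G P L] (F : Type) [AddCommGroup F] where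
  hM : AllElations G P L
  li : L
  O : P
  Di : P
  D0 : P
  D1 : P
  hO : O ∉ li
  hDi : Di ∈ li
  hD0 : D0 ∈ li
  hD1 : D1 ∈ li
  hi0 : Di ≠ D0
  hi1 : Di ≠ D1
  h01 : D0 ≠ D1
  v : F → G
  v_mem : ∀ a, v a ∈ axGroup G D0 li
  v_add : ∀ a b, v (a + b) = v a * v b
  v_inj : Function.Injective v
  v_surj : ∀ x ∈ axGroup G D0 li, ∃ a, v a = x
  u : F
  hu : u ≠ 0

section Trans

variable (hM : AllElations G P L)
include hM

lemma AllElations.comm {l : L} {x y : G} (hx : x ∈ elGroup G P l) (hy : y ∈ elGroup G P l) :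
    x * y = y * x := by
  obtain ⟨C, hC, hax⟩ := hx
  obtain ⟨D, hD, hay⟩ := hy
  obtain ⟨C', hC'l, hC'C⟩ := exists_mem_ne l C
  obtain ⟨a, hC'a, hal⟩ := exists_line_ne C' l
  obtain ⟨A, hA, hAC⟩ := exists_mem_ne a C'
  obtain ⟨B, hB, hBC, hBA⟩ := exists_mem_ne_ne a C' A
  obtain ⟨e, he, heA⟩ := hM C' a l A B hC'l hC'a hal hA hB hAC hBC
  refine hax.commute_of_two hay he hC hD hC'l (fun e1 => hBA ?_) hC'C.symm
  rw [← heA, e1, one_smul]

/-- Elations with axis `l` are transitive off `l`, with prescribed centre. -/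
lemma AllElations.exists_translation {l : L} {A B : P} (hA : A ∉ l) (hB : B ∉ l) :
    ∃ D : P, D ∈ l ∧ ∃ e ∈ axGroup G D l, e • A = B ∧ B ∈ lineThru L A D := by
  rcases eq_or_ne A B with rfl | hne
  · obtain ⟨D, _, hD, -⟩ := exists_two_mem (P := P) l
    exact ⟨D, hD, 1, one_mem _, one_smul _ _, left_mem_lineThru A D⟩
  set a := lineThru L A B
  have hal : a ≠ l := ne_line_of_mem_of_not_mem (left_mem_lineThru A B) hA
  set D := meet P a l
  have hAD : A ≠ D := fun e => hA (e ▸ meet_mem_right a l)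
  have hBD : B ≠ D := fun e => hB (e ▸ meet_mem_right a l)
  refine ⟨D, meet_mem_right a l, ?_⟩
  obtain ⟨e, he, heA⟩ := hM D a l A B (meet_mem_right a l) (meet_mem_left a l) hal
    (left_mem_lineThru A B) (right_mem_lineThru A B) hAD hBD
  exact ⟨e, he, heA, lineThru_eq hAD (left_mem_lineThru A B) (meet_mem_left a l) ▸
    right_mem_lineThru A B⟩

/-- Translations split along two directions. -/
lemma AllElations.decomp {l : L} {A B : P} (hA : A ∈ l) (hB : B ∈ l) (hAB : A ≠ B) {O : P}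
    (hO : O ∉ l) {Q : P} (hQ : Q ∉ l) :
    ∃ x ∈ axGroup G A l, ∃ y ∈ axGroup G B l, (x * y) • O = Q := by
  have hOA : A ≠ O := ne_of_mem_of_not_mem hA hO
  have hQB : B ≠ Q := ne_of_mem_of_not_mem hB hQ
  set a := lineThru L A O
  set b := lineThru L B Q
  have hal : a ≠ l := ne_line_of_mem_of_not_mem (right_mem_lineThru A O) hO
  have hbl : b ≠ l := ne_line_of_mem_of_not_mem (right_mem_lineThru B Q) hQ
  have hab : a ≠ b := fun e =>
    hal (line_eq hAB (left_mem_lineThru A O) (e ▸ left_mem_lineThru B Q) hA hB)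
  set R := meet P a b
  have hRA : R ≠ A := fun e =>
    hbl (line_eq hAB (e ▸ meet_mem_right a b) (left_mem_lineThru B Q) hA hB)
  have hRB : R ≠ B := fun e =>
    hal (line_eq hAB (left_mem_lineThru A O) (e ▸ meet_mem_left a b) hA hB)
  obtain ⟨x, hx, hxO⟩ := hM A a l O R hA (left_mem_lineThru A O) hal (right_mem_lineThru A O)
    (meet_mem_left a b) hOA.symm hRA
  obtain ⟨y, hy, hyR⟩ := hM B b l R Q hB (left_mem_lineThru B Q) hbl (meet_mem_right a b)
    (right_mem_lineThru B Q) hRB hQB.symm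
  refine ⟨x, hx, y, hy, ?_⟩
  rw [hM.comm (axGroup_le_elGroup hA hx) (axGroup_le_elGroup hB hy), mul_smul, hxO, hyR]

end Trans

lemma eq_one_of_two_centres {l : L} {A B : P} (hAB : A ≠ B) {x : G} (hA : x ∈ axGroup G A l)
    (hB : x ∈ axGroup G B l) : x = 1 :=
  by_contra fun h => hAB (Axial.centre_unique hA h (Axial.centre hB)).symm

namespace Frame

variable {F : Type} [AddCommGroup F] (c : Frame G P L F)

lemma v_zero : c.v 0 = 1 := by
  have h := c.v_add 0 0
  rw [add_zero] at h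
  exact right_eq_mul.mp h

lemma v_el (a : F) : c.v a ∈ elGroup G P c.li := axGroup_le_elGroup c.hD0 (c.v_mem a)

lemma comm {x y : G} (hx : x ∈ elGroup G P c.li) (hy : y ∈ elGroup G P c.li) : x * y = y * x :=
  c.hM.comm hx hy

lemma eq_of_smul_O {x y : G} (hx : x ∈ elGroup G P c.li) (hy : y ∈ elGroup G P c.li)
    (h : x • c.O = y • c.O) : x = y := by
  have h1 := eq_one_of_elGroup_fix (mul_mem (inv_mem hy) hx) c.hO
    (by rw [mul_smul, inv_smul_eq_iff]; exact h)
  exact (inv_mul_eq_one.mp h1).symm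

lemma exists_w (a : F) : ∃ y ∈ axGroup G c.Di c.li, c.v a * y ∈ axGroup G c.D1 c.li := by
  obtain ⟨d, hd, y, hy, h⟩ := c.hM.decomp c.hD1 c.hDi c.hi1.symm c.hO
    (smul_not_mem_of_elGroup (c.v_el a) c.hO)
  refine ⟨y⁻¹, inv_mem hy, ?_⟩
  rw [← c.eq_of_smul_O (mul_mem (axGroup_le_elGroup c.hD1 hd) (axGroup_le_elGroup c.hDi hy))
    (c.v_el a) h, mul_inv_cancel_right]
  exact hd

/-- The vertical translation belonging to a coordinate. -/
noncomputable def w (a : F) : G := (c.exists_w a).choose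

lemma w_mem (a : F) : c.w a ∈ axGroup G c.Di c.li := (c.exists_w a).choose_spec.1

lemma vw_mem (a : F) : c.v a * c.w a ∈ axGroup G c.D1 c.li := (c.exists_w a).choose_spec.2

lemma w_el (a : F) : c.w a ∈ elGroup G P c.li := axGroup_le_elGroup c.hDi (c.w_mem a)

lemma slope_unique {D : P} (hDi : D ≠ c.Di) {x y y' : G} (hy : y ∈ axGroup G c.Di c.li)
    (hy' : y' ∈ axGroup G c.Di c.li) (h : x * y ∈ axGroup G D c.li)
    (h' : x * y' ∈ axGroup G D c.li) : y = y' := by
  have h1 : y⁻¹ * y' ∈ axGroup G D c.li := by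
    have h2 := mul_mem (inv_mem h) h'
    rwa [mul_inv_rev, mul_assoc, inv_mul_cancel_left] at h2
  exact inv_mul_eq_one.mp (eq_one_of_two_centres hDi h1 (mul_mem (inv_mem hy) hy'))

lemma w_add (a b : F) : c.w (a + b) = c.w a * c.w b := by
  refine c.slope_unique c.hi1.symm (c.w_mem _) (mul_mem (c.w_mem a) (c.w_mem b)) (c.vw_mem _) ?_
  have h := mul_mem (c.vw_mem a) (c.vw_mem b)
  rwa [mul_assoc, ← mul_assoc (c.w a), c.comm (c.w_el a) (c.v_el b), mul_assoc (c.v b),
    ← mul_assoc (c.v a), ← c.v_add] at h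

lemma w_zero : c.w 0 = 1 := by
  have h := c.w_add 0 0
  rw [add_zero] at h
  exact right_eq_mul.mp h

lemma w_inj : Function.Injective c.w := by
  intro a b h
  apply c.v_inj
  have h1 := mul_mem (inv_mem (c.vw_mem a)) (c.vw_mem b)
  rw [mul_inv_rev, mul_assoc, ← h, ← mul_assoc (c.v a)⁻¹,
    c.comm (mul_mem (inv_mem (c.v_el a)) (c.v_el b)) (c.w_el a), inv_mul_cancel_left] at h1
  exact inv_mul_eq_one.mp
    (eq_one_of_two_centres c.h01 (mul_mem (inv_mem (c.v_mem a)) (c.v_mem b)) h1)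

lemma w_surj {y : G} (hy : y ∈ axGroup G c.Di c.li) : ∃ a, c.w a = y := by
  obtain ⟨x, hx, d, hd, h⟩ := c.hM.decomp c.hD0 c.hD1 c.h01 c.hO
    (smul_not_mem_of_elGroup (axGroup_le_elGroup c.hDi hy) c.hO)
  have hyel := axGroup_le_elGroup c.hDi hy
  have heq := c.eq_of_smul_O (mul_mem (axGroup_le_elGroup c.hD0 hx) (axGroup_le_elGroup c.hD1 hd))
    hyel h
  obtain ⟨a, ha⟩ := c.v_surj _ (inv_mem hx)
  refine ⟨a, c.slope_unique c.hi1.symm (c.w_mem a) hy (c.vw_mem a) ?_⟩
  rw [ha, ← heq, inv_mul_cancel_left]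
  exact hd

lemma vw_inj {a b a' b' : F} (h : c.v a * c.w b = c.v a' * c.w b') : a = a' ∧ b = b' := by
  have h1 : (c.v a')⁻¹ * c.v a = c.w b' * (c.w b)⁻¹ := by
    rw [inv_mul_eq_iff_eq_mul, ← mul_assoc, ← h, mul_inv_cancel_right]
  have h2 := eq_one_of_two_centres c.hi0.symm (mul_mem (inv_mem (c.v_mem a')) (c.v_mem a))
    (h1 ▸ mul_mem (c.w_mem b') (inv_mem (c.w_mem b)))
  obtain rfl := c.v_inj (inv_mul_eq_one.mp h2).symm
  exact ⟨rfl, c.w_inj (mul_left_cancel h)⟩

/-- The point with coordinates `(a, b)`. -/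
noncomputable def pt (a b : F) : P := (c.v a * c.w b) • c.O

lemma vw_el (a b : F) : c.v a * c.w b ∈ elGroup G P c.li := mul_mem (c.v_el a) (c.w_el b)

lemma pt_not_mem (a b : F) : c.pt a b ∉ c.li := smul_not_mem_of_elGroup (c.vw_el a b) c.hO

lemma pt_zero : c.pt 0 0 = c.O := by rw [pt, v_zero, w_zero, mul_one, one_smul]

lemma vw_smul_pt (a b a' b' : F) : (c.v a * c.w b) • c.pt a' b' = c.pt (a + a') (b + b') := by
  rw [pt, pt, ← mul_smul, c.v_add, c.w_add]
  congr 1
  rw [mul_assoc, ← mul_assoc (c.w b), c.comm (c.w_el b) (c.v_el a'), mul_assoc (c.v a'),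
    ← mul_assoc (c.v a)]

lemma pt_inj {a b a' b' : F} (h : c.pt a b = c.pt a' b') : a = a' ∧ b = b' :=
  c.vw_inj (c.eq_of_smul_O (c.vw_el a b) (c.vw_el a' b') h)

lemma pt_surj {Q : P} (hQ : Q ∉ c.li) : ∃ a b, c.pt a b = Q := by
  obtain ⟨x, hx, y, hy, h⟩ := c.hM.decomp c.hD0 c.hDi c.hi0.symm c.hO hQ
  obtain ⟨a, rfl⟩ := c.v_surj x hx
  obtain ⟨b, rfl⟩ := c.w_surj hy
  exact ⟨a, b, h⟩

lemma exists_sl {D : P} (hD : D ∈ c.li) (hDi : D ≠ c.Di) (a : F) :
    ∃ b, c.v a * c.w b ∈ axGroup G D c.li := by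
  obtain ⟨d, hd, y, hy, h⟩ := c.hM.decomp hD c.hDi hDi c.hO
    (smul_not_mem_of_elGroup (c.v_el a) c.hO)
  obtain ⟨b, hb⟩ := c.w_surj (inv_mem hy)
  refine ⟨b, ?_⟩
  rw [hb, ← c.eq_of_smul_O (mul_mem (axGroup_le_elGroup hD hd) (axGroup_le_elGroup c.hDi hy))
    (c.v_el a) h, mul_inv_cancel_right]
  exact hd

lemma exists_slope (m : F) :
    ∃ D : P, D ∈ c.li ∧ D ≠ c.Di ∧ c.v c.u * c.w m ∈ axGroup G D c.li := by
  obtain ⟨D, hD, e, he, heO, -⟩ := c.hM.exists_translation (l := c.li) c.hO (c.pt_not_mem c.u m)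
  have heq : e = c.v c.u * c.w m := c.eq_of_smul_O (axGroup_le_elGroup hD he) (c.vw_el _ _) heO
  subst heq
  refine ⟨D, hD, fun e => ?_, he⟩
  subst e
  have h1 : c.v c.u ∈ axGroup G c.Di c.li := by
    have := mul_mem he (inv_mem (c.w_mem m))
    rwa [mul_inv_cancel_right] at this
  exact c.hu (c.v_inj ((eq_one_of_two_centres c.hi0.symm (c.v_mem c.u) h1).trans c.v_zero.symm))

/-- The point at infinity of the lines of slope `m`. -/
noncomputable def slope (m : F) : P := (c.exists_slope m).choose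

lemma slope_mem (m : F) : c.slope m ∈ c.li := (c.exists_slope m).choose_spec.1

lemma slope_ne (m : F) : c.slope m ≠ c.Di := (c.exists_slope m).choose_spec.2.1

lemma slope_spec (m : F) : c.v c.u * c.w m ∈ axGroup G (c.slope m) c.li :=
  (c.exists_slope m).choose_spec.2.2

lemma slope_inj : Function.Injective c.slope := fun m m' h =>
  c.w_inj (c.slope_unique (c.slope_ne m) (c.w_mem m) (c.w_mem m') (c.slope_spec m)
    (h ▸ c.slope_spec m'))

lemma slope_surj {D : P} (hD : D ∈ c.li) (hDi : D ≠ c.Di) : ∃ m, c.slope m = D := by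
  obtain ⟨m, hm⟩ := c.exists_sl hD hDi c.u
  refine ⟨m, by_contra fun hne => c.hu ?_⟩
  have h := eq_one_of_two_centres hne (c.slope_spec m) hm
  exact (c.vw_inj (h.trans (by rw [v_zero, w_zero, mul_one]) :
    c.v c.u * c.w m = c.v 0 * c.w 0)).1

/-- The multiplication given by the slopes. -/
noncomputable def mul (a m : F) : F := (c.exists_sl (c.slope_mem m) (c.slope_ne m) a).choose

lemma mul_spec (a m : F) : c.v a * c.w (c.mul a m) ∈ axGroup G (c.slope m) c.li :=
  (c.exists_sl (c.slope_mem m) (c.slope_ne m) a).choose_spec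

lemma mul_eq {a b m : F} (h : c.v a * c.w b ∈ axGroup G (c.slope m) c.li) : c.mul a m = b :=
  c.w_inj (c.slope_unique (c.slope_ne m) (c.w_mem _) (c.w_mem b) (c.mul_spec a m) h)

lemma u_mul (m : F) : c.mul c.u m = m := c.mul_eq (c.slope_spec m)

lemma add_mul (a b m : F) : c.mul (a + b) m = c.mul a m + c.mul b m := by
  refine c.mul_eq ?_
  have h := mul_mem (c.mul_spec a m) (c.mul_spec b m)
  rw [mul_assoc, ← mul_assoc (c.w (c.mul a m)), c.comm (c.w_el _) (c.v_el b), mul_assoc (c.v b),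
    ← mul_assoc (c.v a)] at h
  rwa [c.v_add, c.w_add]

lemma zero_mul (m : F) : c.mul 0 m = 0 := c.mul_eq (by rw [v_zero, w_zero, mul_one]; exact one_mem _)

lemma sub_mul (a b m : F) : c.mul (a - b) m = c.mul a m - c.mul b m := by
  rw [eq_sub_iff_add_eq, ← c.add_mul, sub_add_cancel]

lemma slope_zero : c.slope 0 = c.D0 := by
  obtain ⟨m, hm⟩ := c.slope_surj c.hD0 c.hi0.symm
  have : m = 0 := by
    refine (c.u_mul m).symm.trans (c.mul_eq ?_)
    rw [hm, w_zero, mul_one]
    exact c.v_mem _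
  rwa [this] at hm

lemma slope_u : c.slope c.u = c.D1 := by
  obtain ⟨m, hm⟩ := c.slope_surj c.hD1 c.hi1.symm
  have : m = c.u := (c.u_mul m).symm.trans (c.mul_eq (by rw [hm]; exact c.vw_mem _))
  rwa [this] at hm

lemma mul_zero (a : F) : c.mul a 0 = 0 :=
  c.mul_eq (by rw [slope_zero, w_zero, mul_one]; exact c.v_mem a)

lemma mul_u (a : F) : c.mul a c.u = a := c.mul_eq (by rw [slope_u]; exact c.vw_mem a)

lemma mul_left_inj {a m m' : F} (ha : a ≠ 0) (h : c.mul a m = c.mul a m') : m = m' := by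
  refine c.slope_inj (by_contra fun hne => ha ?_)
  have h1 := eq_one_of_two_centres hne (h ▸ c.mul_spec a m : c.v a * c.w (c.mul a m') ∈ _)
    (c.mul_spec a m')
  exact (c.vw_inj (h1.trans (by rw [v_zero, w_zero, mul_one]) :
    c.v a * c.w (c.mul a m') = c.v 0 * c.w 0)).1

lemma mul_right_cancel {a b m : F} (hm : m ≠ 0) (h : c.mul a m = c.mul b m) : a = b := by
  have h1 : c.mul (a - b) m = c.mul (a - b) 0 := by
    rw [c.sub_mul, h, sub_self, c.mul_zero]
  by_contra hne
  exact hm (c.mul_left_inj (sub_ne_zero.mpr hne) h1)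

/-- The line `y = x m + b`. -/
noncomputable def mline (m b : F) : L := lineThru L (c.slope m) (c.pt 0 b)

/-- The line `x = a`. -/
noncomputable def vline (a : F) : L := lineThru L c.Di (c.pt a 0)

lemma slope_mem_mline (m b : F) : c.slope m ∈ c.mline m b := left_mem_lineThru _ _

lemma Di_mem_vline (a : F) : c.Di ∈ c.vline a := left_mem_lineThru _ _

lemma mline_ne (m b : F) : c.mline m b ≠ c.li :=
  ne_line_of_mem_of_not_mem (right_mem_lineThru _ _) (c.pt_not_mem 0 b)

lemma vline_ne (a : F) : c.vline a ≠ c.li :=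
  ne_line_of_mem_of_not_mem (right_mem_lineThru _ _) (c.pt_not_mem a 0)

lemma Di_not_mem_mline (m b : F) : c.Di ∉ c.mline m b := fun h =>
  c.slope_ne m (point_eq (c.mline_ne m b) (c.slope_mem_mline m b) (c.slope_mem m) h c.hDi)

lemma slope_mem_mline_iff (s m b : F) : c.slope s ∈ c.mline m b ↔ s = m :=
  ⟨fun h => c.slope_inj
      (point_eq (c.mline_ne m b) h (c.slope_mem s) (c.slope_mem_mline m b) (c.slope_mem m)),
    fun h => h ▸ c.slope_mem_mline m b⟩

lemma slope_not_mem_vline (s a : F) : c.slope s ∉ c.vline a := fun h =>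
  c.slope_ne s (point_eq (c.vline_ne a) h (c.slope_mem s) (c.Di_mem_vline a) c.hDi)

lemma pt_mem_vline (a b : F) : c.pt a b ∈ c.vline a := by
  have h1 : c.w b • c.pt a 0 = c.pt a b := by
    have := c.vw_smul_pt 0 b a 0
    rwa [v_zero, one_mul, zero_add, add_zero] at this
  rw [← h1]
  exact Axial.mem_of_mem (c.w_mem b) (c.Di_mem_vline a) (right_mem_lineThru _ _)

lemma pt_mem_mline (a m b : F) : c.pt a (c.mul a m + b) ∈ c.mline m b := by
  have h1 := c.vw_smul_pt a (c.mul a m) 0 b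
  rw [add_zero] at h1
  rw [← h1]
  exact Axial.mem_of_mem (c.mul_spec a m) (c.slope_mem_mline m b) (right_mem_lineThru _ _)

lemma mem_mline_iff {a y m b : F} : c.pt a y ∈ c.mline m b ↔ y = c.mul a m + b := by
  refine ⟨fun h => by_contra fun hne => c.Di_not_mem_mline m b ?_, fun h => h ▸ c.pt_mem_mline a m b⟩
  have hpp : c.pt a y ≠ c.pt a (c.mul a m + b) := fun e => hne (c.pt_inj e).2
  rw [line_eq hpp h (c.pt_mem_mline a m b) (c.pt_mem_vline a y) (c.pt_mem_vline a _)]
  exact c.Di_mem_vline a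

lemma mem_vline_iff {x y a : F} : c.pt x y ∈ c.vline a ↔ x = a := by
  refine ⟨fun h => ?_, fun h => h ▸ c.pt_mem_vline x y⟩
  have hl : c.vline x = c.vline a :=
    line_eq (ne_of_mem_of_not_mem c.hDi (c.pt_not_mem x y)) (c.Di_mem_vline x) (c.pt_mem_vline x y)
      (c.Di_mem_vline a) h
  by_contra hne
  have h1 : ∀ z, c.pt z 0 ∈ c.mline 0 0 := fun z =>
    c.mem_mline_iff.mpr (by rw [mul_zero, add_zero])
  have hpp : c.pt x 0 ≠ c.pt a 0 := fun e => hne (c.pt_inj e).1
  exact c.Di_not_mem_mline 0 0 (line_eq hpp (h1 x) (h1 a) (c.pt_mem_vline x 0)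
    (hl ▸ c.pt_mem_vline a 0) ▸ c.Di_mem_vline x)

lemma line_cases (l : L) :
    l = c.li ∨ (∃ m b, l = c.mline m b) ∨ ∃ a, l = c.vline a := by
  rcases eq_or_ne l c.li with h | hl
  · exact Or.inl h
  right
  set D := meet P l c.li
  obtain ⟨Q, hQl, hQD⟩ := exists_mem_ne l D
  have hQ : Q ∉ c.li := fun e => hQD (meet_eq hl hQl e).symm
  obtain ⟨a, b, rfl⟩ := c.pt_surj hQ
  rcases eq_or_ne D c.Di with hD | hD
  · exact Or.inr ⟨a, line_eq hQD hQl (meet_mem_left l c.li) (c.pt_mem_vline a b)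
      (hD ▸ c.Di_mem_vline a)⟩
  · obtain ⟨m, hm⟩ := c.slope_surj (meet_mem_right l c.li) hD
    exact Or.inl ⟨m, b - c.mul a m, line_eq hQD hQl (meet_mem_left l c.li)
      (c.mem_mline_iff.mpr (by abel)) ((congrArg (· ∈ c.mline m _) hm).mp (c.slope_mem_mline m _))⟩

lemma mem_mline_of_two {m b : F} {l : L} (h1 : c.slope m ∈ l) (h2 : c.pt 0 b ∈ l) :
    l = c.mline m b :=
  (lineThru_eq (ne_of_mem_of_not_mem (c.slope_mem m) (c.pt_not_mem 0 b)) h1 h2).symm

/-- The shears give left distributivity. -/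
lemma mul_add (x a s : F) : c.mul x (a + s) = c.mul x a + c.mul x s := by
  obtain ⟨e, he, he0⟩ := c.hM c.Di c.li (c.vline 0) (c.slope 0) (c.slope a) (c.Di_mem_vline 0)
    c.hDi (c.vline_ne 0).symm (c.slope_mem 0) (c.slope_mem a) (c.slope_ne 0) (c.slope_ne a)
  have hax : Axial e c.Di (c.vline 0) := he
  have hfix : ∀ y, e • c.pt 0 y = c.pt 0 y := fun y => hax.1 _ (c.pt_mem_vline 0 y)
  have hinf : ∀ t, ∃ t', e • c.slope t = c.slope t' := fun t =>
    (c.slope_surj (Axial.mem_of_mem hax c.hDi (c.slope_mem t)) fun h => c.slope_ne t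
      (MulAction.injective e (h.trans hax.2.fix_point.symm))).imp fun _ h => h.symm
  -- images of points along each slope
  have himg : ∀ t t', e • c.slope t = c.slope t' → ∀ x b,
      e • c.pt x (c.mul x t + b) = c.pt x (c.mul x t' + b) := by
    intro t t' ht x b
    have hline : e • c.mline t b = c.mline t' b :=
      c.mem_mline_of_two (ht ▸ smul_mem e (c.slope_mem_mline t b))
        (hfix b ▸ smul_mem e (right_mem_lineThru _ _))
    have h1 : e • c.pt x (c.mul x t + b) ∈ c.mline t' b :=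
      hline ▸ smul_mem e (c.pt_mem_mline x t b)
    have h2 : e • c.pt x (c.mul x t + b) ∈ c.vline x :=
      Axial.mem_of_mem hax (c.Di_mem_vline x) (c.pt_mem_vline x _)
    refine point_eq ?_ h1 h2 (c.pt_mem_mline x t' b) (c.pt_mem_vline x _)
    exact fun h => c.Di_not_mem_mline t' b (h ▸ c.Di_mem_vline x)
  obtain ⟨s', hs'⟩ := hinf s
  have key : ∀ x, c.mul x s' = c.mul x a + c.mul x s := by
    intro x
    have h1 := himg 0 a he0 x (c.mul x s)
    have h2 := himg s s' hs' x 0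
    rw [c.mul_zero, zero_add] at h1
    rw [add_zero, h1, add_zero] at h2
    exact (c.pt_inj h2).2.symm
  have : s' = a + s := by have := key c.u; rwa [u_mul, u_mul, u_mul] at this
  rw [← this, key]

/-- Elations with centre `D0`. -/
lemma inv_right {s m : F} (_hs : s ≠ 0) (hm : m ≠ 0) (hsm : s + m ≠ 0) :
    ∃ d, ∀ x v, c.mul x s = c.mul v m → c.mul (x + v) d = c.mul x s := by
  have hD0 : c.D0 ∈ c.mline 0 0 := c.slope_zero ▸ c.slope_mem_mline 0 0
  have hm0 : c.slope m ≠ c.D0 := fun h => hm (c.slope_inj (h.trans c.slope_zero.symm))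
  obtain ⟨e, he, hei⟩ := c.hM c.D0 c.li (c.mline 0 0) c.Di (c.slope m) hD0 c.hD0
    (c.mline_ne 0 0).symm c.hDi (c.slope_mem m) c.hi0 hm0
  have hax : Axial e c.D0 (c.mline 0 0) := he
  have hfix : ∀ a, e • c.pt a 0 = c.pt a 0 := fun a =>
    hax.1 _ (c.mem_mline_iff.mpr (by rw [mul_zero, add_zero]))
  have hO : e • c.pt 0 0 = c.pt 0 0 := hfix 0
  -- images of affine points
  have himg : ∀ a y, ∃ a', e • c.pt a y = c.pt a' y ∧ y = c.mul a' m - c.mul a m := by
    intro a y
    have hnot : e • c.pt a y ∉ c.li := fun h =>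
      c.pt_not_mem a y ((smul_mem_iff_of_fix (hax.2 c.li c.hD0) _).mp h)
    obtain ⟨a', y', ha'⟩ := c.pt_surj hnot
    have h1 : e • c.pt a y ∈ c.mline 0 y :=
      Axial.mem_of_mem hax (c.slope_zero ▸ c.slope_mem_mline 0 y)
        (c.mem_mline_iff.mpr (by rw [mul_zero, zero_add]))
    rw [← ha', c.mem_mline_iff, mul_zero, zero_add] at h1
    subst h1
    refine ⟨a', ha'.symm, ?_⟩
    have hl : e • c.vline a = c.mline m (-c.mul a m) := by
      refine line_eq (ne_of_mem_of_not_mem (c.slope_mem m) (c.pt_not_mem a 0))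
        (hei ▸ smul_mem e (c.Di_mem_vline a)) (hfix a ▸ smul_mem e (c.pt_mem_vline a 0))
        (c.slope_mem_mline _ _) (c.mem_mline_iff.mpr (by abel))
    have h2 := smul_mem e (c.pt_mem_vline a y')
    rw [hl, ← ha', c.mem_mline_iff] at h2
    rw [h2]; abel
  have hOl : e • c.mline s 0 = lineThru L (e • c.slope s) (c.pt 0 0) := by
    rw [mline, smul_lineThru e (ne_of_mem_of_not_mem (c.slope_mem s) (c.pt_not_mem 0 0)), hO]
  have hs' : e • c.slope s ≠ c.Di := by
    intro h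
    apply hsm
    obtain ⟨a', ha', hy⟩ := himg c.u s
    have h1 := smul_mem e (c.mem_mline_iff.mpr (show s = c.mul c.u s + 0 by rw [u_mul, add_zero]) :
      c.pt c.u s ∈ c.mline s 0)
    rw [hOl, h, ha', show lineThru L c.Di (c.pt 0 0) = c.vline 0 from rfl, c.mem_vline_iff] at h1
    rw [h1, zero_mul, u_mul, zero_sub] at hy
    rw [hy, neg_add_cancel]
  obtain ⟨d, hd⟩ := c.slope_surj
    (Axial.mem_of_mem hax c.hD0 (c.slope_mem s)) hs'
  refine ⟨d, fun x v hxv => ?_⟩
  obtain ⟨a', ha', hy⟩ := himg x (c.mul x s)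
  have h1 := smul_mem e (c.mem_mline_iff.mpr (show c.mul x s = c.mul x s + 0 by rw [add_zero]) :
    c.pt x (c.mul x s) ∈ c.mline s 0)
  rw [hOl, ← hd, show lineThru L (c.slope d) (c.pt 0 0) = c.mline d 0 from rfl, ha',
    c.mem_mline_iff, add_zero] at h1
  have hav : a' = x + v := by
    refine c.mul_right_cancel hm ?_
    rw [c.add_mul, ← hxv, hy]; abel
  rw [← hav]
  exact h1.symm

/-- Elations with centre `O`. -/
lemma inv_left {a k : F} (ha : a ≠ 0) (hk : k ≠ 0) (hak : a + k ≠ 0) :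
    ∃ d, ∀ x v, c.mul a x = c.mul k v → c.mul d (x + v) = c.mul a x := by
  have hline : ∀ z, c.pt z 0 ∈ c.mline 0 0 := fun z =>
    c.mem_mline_iff.mpr (by rw [mul_zero, add_zero])
  have hne : c.mline 0 0 ≠ c.vline 0 := fun h => c.Di_not_mem_mline 0 0 (h ▸ c.Di_mem_vline 0)
  obtain ⟨e, he, he0⟩ := c.hM (c.pt 0 0) (c.mline 0 0) (c.vline 0) (c.slope 0) (c.pt k 0)
    (c.pt_mem_vline 0 0) (hline 0) hne (c.slope_mem_mline 0 0) (hline k)
    (fun h => c.pt_not_mem 0 0 (h ▸ c.slope_mem 0)) (fun h => hk (c.pt_inj h).1)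
  have hax : Axial e (c.pt 0 0) (c.vline 0) := he
  have hfix : ∀ y, e • c.pt 0 y = c.pt 0 y := fun y => hax.1 _ (c.pt_mem_vline 0 y)
  have hDi : e • c.Di = c.Di := hax.1 _ (c.Di_mem_vline 0)
  have hli : e • c.li = c.vline k := by
    refine line_eq (ne_of_mem_of_not_mem c.hDi (c.pt_not_mem k 0)) (hDi ▸ smul_mem e c.hDi)
      (he0 ▸ smul_mem e (c.slope_mem 0)) (c.Di_mem_vline k) (c.pt_mem_vline k 0)
  -- image of the point `(a, a x)` and of the line `y = b`
  have hpt : ∀ x, e • c.pt a (c.mul a x) ∈ c.mline x 0 := fun x =>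
    Axial.mem_of_mem hax (c.mem_mline_iff.mpr (by rw [c.zero_mul, add_zero]))
      (c.mem_mline_iff.mpr (by rw [add_zero]))
  have hbl : ∀ b, c.pt k 0 ∈ e • c.mline 0 b ∧ c.pt 0 b ∈ e • c.mline 0 b := fun b =>
    ⟨he0 ▸ smul_mem e (c.slope_mem_mline 0 b), hfix b ▸ smul_mem e (right_mem_lineThru _ _)⟩
  have hnot : e • c.vline a ≠ c.li := by
    intro h
    apply hak
    have h1 : e • c.pt a (c.mul a c.u) = c.slope c.u :=
      point_eq (c.mline_ne c.u 0) (hpt c.u) (h ▸ smul_mem e (c.pt_mem_vline a _))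
        (c.slope_mem_mline c.u 0) (c.slope_mem c.u)
    have h2 : e • c.mline 0 (c.mul a c.u) = c.mline c.u (c.mul a c.u) :=
      c.mem_mline_of_two (h1 ▸ smul_mem e (c.mem_mline_iff.mpr (by rw [mul_zero, zero_add])))
        (hbl _).2
    have h3 := (hbl (c.mul a c.u)).1
    rw [h2, c.mem_mline_iff, mul_u, mul_u] at h3
    rw [add_comm]; exact h3.symm
  obtain ⟨d, hd⟩ : ∃ d, e • c.vline a = c.vline d := by
    rcases c.line_cases (e • c.vline a) with h | ⟨m, b, h⟩ | h
    · exact absurd h hnot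
    · exact absurd (h ▸ hDi ▸ smul_mem e (c.Di_mem_vline a)) (c.Di_not_mem_mline m b)
    · exact h
  refine ⟨d, fun x v hxv => ?_⟩
  set b := c.mul a x with hb
  have h1 : e • c.pt a b = c.pt d (c.mul d x) := by
    refine point_eq (l := c.mline x 0) (m := c.vline d)
      (fun h => c.Di_not_mem_mline x 0 (h ▸ c.Di_mem_vline d)) (hpt x)
      (hd ▸ smul_mem e (c.pt_mem_vline a b)) (c.mem_mline_iff.mpr (by rw [add_zero]))
      (c.pt_mem_vline d _)
  have hkb : c.pt k 0 ∈ c.mline (-v) b := by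
    rw [c.mem_mline_iff, hxv]
    have hh : c.mul k (-v) + c.mul k v = 0 := by rw [← c.mul_add, neg_add_cancel, mul_zero]
    exact hh.symm
  have h2 : e • c.mline 0 b = c.mline (-v) b :=
    line_eq (fun h => hk (c.pt_inj h).1) (hbl b).1 (hbl b).2 hkb (right_mem_lineThru _ _)
  have h3 : c.pt d (c.mul d x) ∈ c.mline (-v) b := by
    rw [← h1, ← h2]
    exact smul_mem e (c.mem_mline_iff.mpr (by rw [mul_zero, zero_add]))
  rw [c.mem_mline_iff] at h3
  have h4 : c.mul d (-v) + c.mul d v = 0 := by rw [← c.mul_add, neg_add_cancel, mul_zero]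
  rw [c.mul_add, h3, add_right_comm, h4, zero_add]

end Frame

end Cfsg.Agent.OW
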