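import Cfsg.Agent.Lib.OstromWagner.Central

/-!
# Groups of axial collineations

Semiregularity, parity of the order, elation groups, and the two criteria producing an elation from
homologies.
-/

set_option autoImplicit false
set_option linter.unusedSectionVars false

namespace Cfsg.Agent.OW

open Configuration

/-- A free action makes the order of the group divide the number of points. -/
lemma natCard_dvd_of_free {K X : Type*} [Group K] [MulAction K X] [Finite X]
    (h : ∀ (k : K) (x : X), k • x = x → k = 1) : Nat.card K ∣ Nat.card X := by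
  classical
  have hst : ∀ x : X, MulAction.stabilizer K x = ⊥ := fun x =>
    (Subgroup.eq_bot_iff_forall _).mpr fun k hk => h k x hk
  have e : X ≃ MulAction.orbitRel.Quotient K X × K :=
    (MulAction.selfEquivSigmaOrbitsQuotientStabilizer K X).trans
      ((Equiv.sigmaCongrRight fun ω => (Subgroup.quotientEquivOfEq (hst _)).trans
        QuotientGroup.quotientBot.toEquiv).trans (Equiv.sigmaEquivProd _ _))
  rw [Nat.card_congr e, Nat.card_prod]
  exact dvd_mul_left _ _

/-- A free action on an invariant subset makes the order of the subgroup divide its size. -/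
lemma natCard_dvd_of_free_on {G X : Type*} [Group G] [MulAction G X] [Finite X] (K : Subgroup G)
    (S : X → Prop) (hS : ∀ g ∈ K, ∀ x, S x → S (g • x))
    (h : ∀ g ∈ K, ∀ x, S x → g • x = x → g = 1) : Nat.card K ∣ Nat.card {x : X // S x} := by
  let : MulAction K {x : X // S x} :=
    { smul := fun g x => ⟨(g : G) • x.1, hS g g.2 x.1 x.2⟩
      one_smul := fun x => Subtype.ext (one_smul G x.1)
      mul_smul := fun g k x => Subtype.ext (mul_smul (g : G) (k : G) x.1) }
  exact natCard_dvd_of_free fun k x hk =>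
    Subtype.ext (h k k.2 x.1 x.2 (congrArg Subtype.val hk))

variable {G P L : Type*} [Group G] [MulAction G P] [MulAction G L] [Membership P L]
  [ProjectivePlane P L] [Finite P] [Finite L] [Coll G P L]

/-- The collineations with centre `C` and axis `l`. -/
def axGroup (G : Type*) {P L : Type*} [Group G] [MulAction G P] [MulAction G L] [Membership P L]
    [ProjectivePlane P L] [Finite P] [Finite L] [IsColl G P L] (C : P) (l : L) : Subgroup G where
  carrier := {g | Axial g C l}
  one_mem' := Axial.one C l
  mul_mem' := Axial.mul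
  inv_mem' := Axial.inv

lemma mem_axGroup {g : G} {C : P} {l : L} : g ∈ axGroup G C l ↔ Axial g C l := Iff.rfl

lemma axGroup_ne_bot {g : G} {C : P} {l : L} (hg : g ≠ 1) (h : Axial g C l) :
    axGroup G C l ≠ ⊥ :=
  fun e => hg ((Subgroup.eq_bot_iff_forall _).mp e g h)

lemma exists_of_axGroup_ne_bot {C : P} {l : L} (h : axGroup G C l ≠ ⊥) :
    ∃ g : G, g ≠ 1 ∧ Axial g C l := by
  by_contra hc
  push Not at hc
  exact h ((Subgroup.eq_bot_iff_forall _).mpr fun g hg => by_contra fun hne => hc g hne hg)

/-- The collineations with axis `l`. -/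
def axisGroup (G : Type*) (P : Type*) {L : Type*} [Group G] [MulAction G P] [MulAction G L]
    [Membership P L] [ProjectivePlane P L] [Finite P] [Finite L] [IsColl G P L] (l : L) :
    Subgroup G where
  carrier := {g | IsAxis (P := P) g l}
  one_mem' := IsAxis.one l
  mul_mem' := IsAxis.mul
  inv_mem' := IsAxis.inv

lemma mem_axisGroup {g : G} {l : L} : g ∈ axisGroup G P l ↔ IsAxis (P := P) g l := Iff.rfl

/-- The elations with axis `l`. -/
def elGroup (G : Type*) (P : Type*) {L : Type*} [Group G] [MulAction G P] [MulAction G L]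
    [Membership P L] [ProjectivePlane P L] [Finite P] [Finite L] [Coll G P L] (l : L) :
    Subgroup G where
  carrier := {g | ∃ C : P, C ∈ l ∧ Axial g C l}
  one_mem' := by
    obtain ⟨a, _, ha, -⟩ := exists_two_mem (P := P) l
    exact ⟨a, ha, Axial.one a l⟩
  mul_mem' := by
    rintro a b ⟨C, hC, ha⟩ ⟨D, hD, hb⟩
    exact ha.mul_elation hb hC hD
  inv_mem' := by
    rintro a ⟨C, hC, ha⟩
    exact ⟨C, hC, ha.inv⟩

lemma mem_elGroup {g : G} {l : L} : g ∈ elGroup G P l ↔ ∃ C : P, C ∈ l ∧ Axial g C l := Iff.rfl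

lemma mem_elGroup_of_axial {g : G} {C : P} {l : L} (hC : C ∈ l) (h : Axial g C l) :
    g ∈ elGroup G P l :=
  ⟨C, hC, h⟩

lemma axGroup_le_elGroup {C : P} {l : L} (hC : C ∈ l) : axGroup G C l ≤ elGroup G P l :=
  fun _ h => ⟨C, hC, h⟩

lemma Axial.mem_of_mem {g : G} {C : P} {l m : L} (h : Axial g C l) (hm : C ∈ m) {p : P}
    (hp : p ∈ m) : g • p ∈ m :=
  (smul_mem_iff_of_fix (h.2 m hm) p).mpr hp

/-- The order of the group of elations with given centre and axis divides the order of the plane. -/
lemma natCard_axGroup_dvd_order {C : P} {l : L} (hC : C ∈ l) :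
    Nat.card (axGroup G C l) ∣ ProjectivePlane.order P L := by
  classical
  have := Fintype.ofFinite P
  obtain ⟨m, hCm, hml⟩ := exists_line_ne C l
  have hcard : Nat.card {p : P // p ∈ m ∧ p ≠ C} = ProjectivePlane.order P L := by
    have h1 := natCard_points_on (P := P) m
    rw [Nat.card_eq_fintype_card, Fintype.card_subtype] at h1 ⊢
    rw [show (Finset.univ.filter fun p : P => p ∈ m ∧ p ≠ C) =
      (Finset.univ.filter fun p : P => p ∈ m).erase C by ext; simp [and_comm],
      Finset.card_erase_of_mem (by simpa using hCm), h1, Nat.add_sub_cancel]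
  rw [← hcard]
  refine natCard_dvd_of_free_on _ _ (fun g hg p hp => ⟨Axial.mem_of_mem hg hCm hp.1, fun e =>
    hp.2 (MulAction.injective g (e.trans (IsCentre.fix_point (L := L) hg.2).symm))⟩) ?_
  intro g hg p hp hfix
  exact Axial.eq_one_of hg hfix hp.2 fun hpl => hp.2 (point_eq hml hp.1 hpl hCm hC)

/-- The order of a group of homologies divides the order of the plane minus one. -/
lemma natCard_axGroup_dvd_order_sub_one {C : P} {l : L} (hC : C ∉ l) :
    Nat.card (axGroup G C l) ∣ ProjectivePlane.order P L - 1 := by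
  classical
  have := Fintype.ofFinite P
  obtain ⟨m, hCm⟩ := exists_line_mem (L := L) C
  have hml : m ≠ l := ne_line_of_mem_of_not_mem hCm hC
  have hcard : Nat.card {p : P // p ∈ m ∧ p ≠ C ∧ p ∉ l} = ProjectivePlane.order P L - 1 := by
    have h1 := natCard_points_on (P := P) m
    rw [Nat.card_eq_fintype_card, Fintype.card_subtype] at h1 ⊢
    have he : (Finset.univ.filter fun p : P => p ∈ m ∧ p ≠ C ∧ p ∉ l) =
        ((Finset.univ.filter fun p : P => p ∈ m).erase C).erase (meet P m l) := by
      ext p
      simp only [Finset.mem_erase, Finset.mem_filter, Finset.mem_univ, true_and]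
      constructor
      · rintro ⟨h1, h2, h3⟩
        exact ⟨fun e => h3 (e ▸ meet_mem_right m l), h2, h1⟩
      · rintro ⟨h1, h2, h3⟩
        exact ⟨h3, h2, fun e => h1 (meet_eq hml h3 e).symm⟩
    rw [he, Finset.card_erase_of_mem, Finset.card_erase_of_mem (by simpa using hCm), h1]
    · omega
    · simp only [Finset.mem_erase, Finset.mem_filter, Finset.mem_univ, true_and]
      exact ⟨ne_of_mem_of_not_mem (meet_mem_right m l) hC, meet_mem_left m l⟩
  rw [← hcard]
  refine natCard_dvd_of_free_on _ _ (fun g hg p hp => ⟨Axial.mem_of_mem hg hCm hp.1, fun e =>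
    hp.2.1 (MulAction.injective g (e.trans (IsCentre.fix_point (L := L) hg.2).symm)),
    fun e => hp.2.2 ((smul_mem_iff_of_fix (IsAxis.fix_line (P := P) hg.1) p).mp e)⟩) ?_
  intro g hg p hp hfix
  exact Axial.eq_one_of hg hfix hp.2.1 hp.2.2

lemma IsInv.orderOf {g : G} (h : IsInv g) : orderOf g = 2 :=
  orderOf_eq_prime (by rw [pow_two]; exact h.2) h.1

lemma IsInv.two_dvd_card_of_mem [Finite G] {g : G} (h : IsInv g) {H : Subgroup G} (hg : g ∈ H) :
    2 ∣ Nat.card H :=
  h.orderOf ▸ Subgroup.orderOf_dvd_natCard H hg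

lemma IsInv.even_of_elation [Finite G] {g : G} {C : P} {l : L} (h : IsInv g) (ha : Axial g C l)
    (hC : C ∈ l) : 2 ∣ ProjectivePlane.order P L :=
  (h.two_dvd_card_of_mem (mem_axGroup.mpr ha)).trans (natCard_axGroup_dvd_order hC)

lemma IsInv.odd_of_homology [Finite G] {g : G} {C : P} {l : L} (h : IsInv g) (ha : Axial g C l)
    (hC : C ∉ l) : ¬ 2 ∣ ProjectivePlane.order P L := by
  have h1 := (h.two_dvd_card_of_mem (mem_axGroup.mpr ha)).trans (natCard_axGroup_dvd_order_sub_one hC)
  have := two_le_order (P := P) (L := L)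
  omega

/-- The product of two involutory homologies with common centre is an elation. -/
theorem IsInv.mul_homology {h h' : G} {C : P} {l l' : L} (hh : IsInv h) (hh' : IsInv h')
    (ha : Axial h C l) (ha' : Axial h' C l') (hne : l ≠ l') :
    h * h' ≠ 1 ∧ ∃ a : L, C ∈ a ∧ Axial (h * h') C a := by
  have hprod : h * h' ≠ 1 := by
    intro e
    have e2 : h' = h := by rw [← hh.inv_eq]; exact (inv_eq_of_mul_eq_one_right e).symm
    subst e2
    exact hne (ha'.axis_unique hh.1 ha.1)
  refine ⟨hprod, ?_⟩
  obtain ⟨a, haa⟩ := (ha.2.mul ha'.2).exists_axis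
  have hax : Axial (h * h') C a := ⟨haa, ha.2.mul ha'.2⟩
  refine ⟨a, ?_, hax⟩
  have hinv : h * (h * h') * h⁻¹ = (h * h')⁻¹ := by
    rw [mul_inv_rev, hh.inv_eq, hh'.inv_eq, ← mul_assoc, hh.2, one_mul]
  rcases ha.fixed_ln hh.1 (hax.fix_of_invert hprod hinv).2 with e | e
  · exfalso
    subst e
    have h4 : IsAxis h' a := by
      have := ha.1.mul haa
      rwa [← mul_assoc, hh.2, one_mul] at this
    exact hne (ha'.axis_unique hh'.1 h4)
  · exact e

variable [Finite G]

/-- Two homologies with the same axis and different centres give an elation with that axis. -/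
theorem exists_elation_of_two_centres {g₁ g₂ : G} {C₁ C₂ : P} {l : L} (h₁ : Axial g₁ C₁ l)
    (h₂ : Axial g₂ C₂ l) (hg₁ : g₁ ≠ 1) (hg₂ : g₂ ≠ 1) (hne : C₁ ≠ C₂) :
    ∃ (e : G) (C : P), C ∈ l ∧ e ≠ 1 ∧ Axial e C l := by
  classical
  by_contra hno
  push Not at hno
  have := Fintype.ofFinite P
  set K := axisGroup G P l with hK
  have := Fintype.ofFinite K
  -- every nontrivial element of `K` has a centre off `l`, its only fixed point off `l`
  have hcentre : ∀ k : K, k ≠ 1 → ∃ Z : P, Z ∉ l ∧ Axial (k : G) Z l := by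
    intro k hk
    obtain ⟨Z, hZ⟩ := IsAxis.exists_centre (g := (k : G)) k.2
    exact ⟨Z, fun hZl => hno k Z hZl (fun e => hk (Subtype.ext e)) ⟨k.2, hZ⟩, k.2, hZ⟩
  have huniq : ∀ k : K, k ≠ 1 → ∀ p q : P, p ∉ l → q ∉ l → k • p = p → k • q = q → p = q := by
    intro k hk p q hp hq hkp hkq
    obtain ⟨Z, -, hax⟩ := hcentre k hk
    have hk' : (k : G) ≠ 1 := fun e => hk (Subtype.ext e)
    rw [(hax.fixed_pt hk' hkp).resolve_right hp, (hax.fixed_pt hk' hkq).resolve_right hq]
  have hC₁ : C₁ ∉ l := fun e => hno g₁ C₁ e hg₁ h₁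
  have hC₂ : C₂ ∉ l := fun e => hno g₂ C₂ e hg₂ h₂
  -- the nontrivial elements fixing a point of the orbit of `x`
  let T : P → Finset K := fun x =>
    Finset.univ.filter fun k => k ≠ 1 ∧ k • x = x
  let O : P → Finset P := fun x => (MulAction.orbit K x).toFinset
  have hOff : ∀ x y : P, x ∉ l → y ∈ O x → y ∉ l := by
    intro x y hx hy
    rw [Set.mem_toFinset] at hy
    obtain ⟨k, rfl⟩ := hy
    exact fun e => hx ((smul_mem_iff_of_fix (IsAxis.fix_line (P := P) (g := (k : G)) k.2) x).mp e)
  have hT : ∀ x y : P, y ∈ O x →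
      (T y).card + 1 = Nat.card (MulAction.stabilizer K x) := by
    intro x y hy
    rw [Set.mem_toFinset] at hy
    have h1 : Nat.card (MulAction.stabilizer K y) = Nat.card (MulAction.stabilizer K x) := by
      obtain ⟨k, rfl⟩ := hy
      exact (Nat.card_congr (MulAction.stabilizerEquivStabilizer (g := k) rfl).toEquiv).symm
    rw [← h1, Nat.card_eq_fintype_card, Fintype.card_subtype]
    have : (Finset.univ.filter fun k : K => k ∈ MulAction.stabilizer K y) = insert 1 (T y) := by
      ext k
      simp only [T, Finset.mem_filter, Finset.mem_univ, true_and, Finset.mem_insert,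
        MulAction.mem_stabilizer_iff]
      constructor
      · intro h
        rcases eq_or_ne k 1 with e | e
        · exact Or.inl e
        · exact Or.inr ⟨e, h⟩
      · rintro (rfl | ⟨-, h⟩)
        · exact one_smul _ _
        · exact h
    rw [this, Finset.card_insert_of_notMem (by simp [T])]
  have hsum : ∀ x : P, x ∉ l →
      ((O x).biUnion T).card + (O x).card = Nat.card K := by
    intro x hx
    rw [Finset.card_biUnion]
    · have h3 : ∀ y ∈ O x, (T y).card + 1 = Nat.card (MulAction.stabilizer K x) := hT x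
      have h4 : (∑ y ∈ O x, ((T y).card + 1)) =
          (O x).card * Nat.card (MulAction.stabilizer K x) := by
        rw [Finset.sum_congr rfl h3, Finset.sum_const, smul_eq_mul]
      rw [Finset.sum_add_distrib, ← Finset.card_eq_sum_ones] at h4
      rw [h4, Set.toFinset_card]
      rw [Nat.card_eq_fintype_card, Nat.card_eq_fintype_card,
        MulAction.card_orbit_mul_card_stabilizer_eq_card_group]
    · intro a ha b hb hab
      rw [Function.onFun, Finset.disjoint_left]
      intro k hka hkb
      simp only [T, Finset.mem_filter, Finset.mem_univ, true_and] at hka hkb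
      exact hab (huniq k hka.1 a b (hOff x a hx ha) (hOff x b hx hb) hka.2 hkb.2)
  have hhalf : ∀ (g : G) (x : P), Axial g x l → g ≠ 1 → 2 * (O x).card ≤ Nat.card K := by
    intro g x hg hg1
    have h5 := MulAction.card_orbit_mul_card_stabilizer_eq_card_group K x
    rw [← Nat.card_eq_fintype_card, ← Nat.card_eq_fintype_card, ← Nat.card_eq_fintype_card] at h5
    have h6 : 2 ≤ Nat.card (MulAction.stabilizer K x) := by
      rw [← hT x x (by simp [O, MulAction.mem_orbit_self])]
      have : 0 < (T x).card := Finset.card_pos.mpr ⟨⟨g, hg.1⟩, by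
        simp only [T, Finset.mem_filter, Finset.mem_univ, true_and]
        exact ⟨fun e => hg1 (congrArg Subtype.val e), hg.2.fix_point⟩⟩
      omega
    have h7 : Nat.card (MulAction.orbit K x) = (O x).card := by
      rw [Nat.card_eq_fintype_card, Set.toFinset_card]
    rw [h7] at h5
    calc 2 * (O x).card ≤ Nat.card (MulAction.stabilizer K x) * (O x).card :=
          Nat.mul_le_mul_right _ h6
      _ = Nat.card K := by rw [mul_comm, h5]
  have hle : ∀ x y : P, ((O x).biUnion T ∪ (O y).biUnion T).card + 1 ≤ Nat.card K := by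
    intro x y
    rw [Nat.card_eq_fintype_card]
    have : (O x).biUnion T ∪ (O y).biUnion T ⊆ Finset.univ.erase (1 : K) := by
      intro k hk
      simp only [Finset.mem_union, Finset.mem_biUnion, T, Finset.mem_filter] at hk
      rcases hk with ⟨_, -, -, h, -⟩ | ⟨_, -, -, h, -⟩ <;> simp [h]
    have h8 := Finset.card_le_card this
    rw [Finset.card_erase_of_mem (Finset.mem_univ _), Finset.card_univ] at h8
    have : 0 < Fintype.card K := Fintype.card_pos
    omega
  by_cases hsame : C₂ ∈ O C₁
  · -- one orbit contains all centres, so it has one point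
    have hall : Finset.univ.erase (1 : K) ⊆ (O C₁).biUnion T := by
      intro k hk
      obtain ⟨Z, hZl, hZ⟩ := hcentre k (Finset.mem_erase.mp hk).1
      have hk' : (k : G) ≠ 1 := fun e => (Finset.mem_erase.mp hk).1 (Subtype.ext e)
      rw [Finset.mem_biUnion]
      by_cases hZO : Z ∈ O C₁
      · exact ⟨Z, hZO, Finset.mem_filter.mpr
          ⟨Finset.mem_univ _, (Finset.mem_erase.mp hk).1, hZ.2.fix_point⟩⟩
      exfalso
      have hd : Disjoint ((O C₁).biUnion T) ((O Z).biUnion T) := by
        rw [Finset.disjoint_left]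
        intro j hj hj'
        simp only [Finset.mem_biUnion, T, Finset.mem_filter, Finset.mem_univ, true_and] at hj hj'
        obtain ⟨a, ha, hj1, hja⟩ := hj
        obtain ⟨b, hb, -, hjb⟩ := hj'
        have hab := huniq j hj1 a b (hOff _ a hC₁ ha) (hOff _ b hZl hb) hja hjb
        subst hab
        rw [Set.mem_toFinset] at ha hb
        exact hZO (Set.mem_toFinset.mpr
          (by rw [← MulAction.orbit_eq_iff.mpr ha, MulAction.orbit_eq_iff.mpr hb]
              exact MulAction.mem_orbit_self Z))
      have := hle C₁ Z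
      rw [Finset.card_union_of_disjoint hd] at this
      have := hsum C₁ hC₁
      have := hsum Z hZl
      have := hhalf g₁ C₁ h₁ hg₁
      have := hhalf k Z hZ hk'
      omega
    have h9 := Finset.card_le_card hall
    rw [Finset.card_erase_of_mem (Finset.mem_univ _), Finset.card_univ] at h9
    have h10 := hsum C₁ hC₁
    rw [Nat.card_eq_fintype_card] at h10
    have h11 : 0 < Fintype.card K := Fintype.card_pos
    have : (O C₁).card ≤ 1 := by omega
    exact hne (Finset.card_le_one.mp this _ (by simp [O, MulAction.mem_orbit_self]) _ hsame)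
  · have hd : Disjoint ((O C₁).biUnion T) ((O C₂).biUnion T) := by
      rw [Finset.disjoint_left]
      intro j hj hj'
      simp only [Finset.mem_biUnion, T, Finset.mem_filter, Finset.mem_univ, true_and] at hj hj'
      obtain ⟨a, ha, hj1, hja⟩ := hj
      obtain ⟨b, hb, -, hjb⟩ := hj'
      have hab := huniq j hj1 a b (hOff _ a hC₁ ha) (hOff _ b hC₂ hb) hja hjb
      subst hab
      rw [Set.mem_toFinset] at ha hb
      exact hsame (Set.mem_toFinset.mpr
        (by rw [← MulAction.orbit_eq_iff.mpr ha, MulAction.orbit_eq_iff.mpr hb]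
            exact MulAction.mem_orbit_self C₂))
    have := hle C₁ C₂
    rw [Finset.card_union_of_disjoint hd] at this
    have := hsum C₁ hC₁
    have := hsum C₂ hC₂
    have := hhalf g₁ C₁ h₁ hg₁
    have := hhalf g₂ C₂ h₂ hg₂
    omega

/-- Two homologies with the same centre and different axes give an elation with that centre. -/
theorem exists_elation_of_two_axes {g₁ g₂ : G} {C : P} {l₁ l₂ : L} (h₁ : Axial g₁ C l₁)
    (h₂ : Axial g₂ C l₂) (hg₁ : g₁ ≠ 1) (hg₂ : g₂ ≠ 1) (hne : l₁ ≠ l₂) :
    ∃ (e : G) (l : L), C ∈ l ∧ e ≠ 1 ∧ Axial e C l := by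
  obtain ⟨e, l, hl, he, ha⟩ :=
    exists_elation_of_two_centres (P := Dual L) (L := Dual P) h₁.dual h₂.dual hg₁ hg₂ hne
  exact ⟨e, l, hl, he, Axial.of_dual (P := P) (L := L) ha⟩

/-- A 2-transitive collineation group with a nontrivial central collineation has an elation. -/
theorem TwoTrans.hasElation_of_central (h2 : TwoTrans G P) (hc : HasCentral G P L) :
    HasElation G P L := by
  obtain ⟨g, C, l, hg, ha⟩ := hc
  by_cases hC : C ∈ l
  · exact ⟨g, C, l, hC, hg, ha⟩
  obtain ⟨m, hCm, hml⟩ : ∃ m : L, C ∉ m ∧ m ≠ l := by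
    obtain ⟨x, hx, hxC⟩ := exists_mem_ne l C
    obtain ⟨m, hxm, hm1, hm2⟩ := exists_line_ne_ne x l (lineThru L x C)
    exact ⟨m, fun h => hm2 (lineThru_eq hxC hxm h).symm, hm1⟩
  obtain ⟨a, haC, hal⟩ := h2.antiflag hC hCm
  have h' : Axial (a * g * a⁻¹) C m := by
    have := ha.conj a
    rwa [haC, hal] at this
  have hg' : a * g * a⁻¹ ≠ 1 := fun e => hg (by rwa [mul_inv_eq_one, mul_eq_left] at e)
  obtain ⟨e, k, hk, he, hax⟩ := exists_elation_of_two_axes ha h' hg hg' hml.symm
  exact ⟨e, C, k, hk, he, hax⟩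

end Cfsg.Agent.OW
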