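import Cfsg.Agent.Lib.OstromWagner.Translation

/-!
# Planes in which every involution is an elation

A plane with a group in which all involutions are central and fixing every pair of points and every
pair of lines by involutions: the case of even order.
-/

set_option autoImplicit false
set_option linter.unusedSectionVars false

namespace Cfsg.Agent.OW

open Configuration

/-- All involutions are central, and every pair of points and every pair of lines is fixed by one. -/
structure InvHyp (G P L : Type*) [Group G] [MulAction G P] [MulAction G L] [Membership P L] : Prop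
    where
  central : ∀ g : G, IsInv g → ∃ (C : P) (l : L), Axial g C l
  pts : ∀ A B : P, A ≠ B → ∃ g : G, IsInv g ∧ g • A = A ∧ g • B = B
  lns : ∀ a b : L, a ≠ b → ∃ g : G, IsInv g ∧ g • a = a ∧ g • b = b

variable {G P L : Type*} [Group G] [MulAction G P] [MulAction G L] [Membership P L]
  [ProjectivePlane P L] [Finite P] [Finite L] [Coll G P L] [Finite G]

lemma InvHyp.dual (h : InvHyp G P L) : InvHyp G (Dual L) (Dual P) where
  central g hg := by
    obtain ⟨C, l, hax⟩ := h.central g hg
    exact ⟨l, C, hax.dual⟩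
  pts := h.lns
  lns := h.pts

/-- There is an involution with centre `C` and axis `l`. -/
def InvAxial (G : Type*) {P L : Type*} [Group G] [MulAction G P] [MulAction G L] [Membership P L]
    (C : P) (l : L) : Prop :=
  ∃ g : G, IsInv g ∧ Axial g C l

lemma InvAxial.smul {C : P} {l : L} (h : InvAxial G C l) (a : G) :
    InvAxial G (a • C) (a • l) :=
  let ⟨g, hg, hax⟩ := h
  ⟨a * g * a⁻¹, hg.conj a, hax.conj a⟩

/-- A plane of even order in this situation has prime power order. -/
theorem InvHyp.prime_pow_of_even (h : InvHyp G P L)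
    (hev : 2 ∣ ProjectivePlane.order P L) :
    ∃ p a : ℕ, p.Prime ∧ 0 < a ∧ ProjectivePlane.order P L = p ^ a := by
  classical
  have := Fintype.ofFinite P
  have := Fintype.ofFinite L
  have hel : ∀ {C : P} {l : L}, InvAxial G C l → C ∈ l := fun ⟨g, hg, hax⟩ =>
    by_contra fun hC => hg.odd_of_homology hax hC hev
  have hline : ∀ l : L, ∃ X : P, InvAxial G X l := by
    intro l
    obtain ⟨A, B, hA, hB, hne⟩ := exists_two_mem (P := P) l
    obtain ⟨g, hg, hgA, hgB⟩ := h.pts A B hne
    obtain ⟨C, a, hax⟩ := h.central g hg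
    have key : ∀ X, g • X = X → X ∈ a := fun X hX => by
      rcases hax.fixed_pt hg.1 hX with rfl | e
      exacts [hel ⟨g, hg, hax⟩, e]
    obtain rfl : a = l := line_eq hne (key A hgA) (key B hgB) hA hB
    exact ⟨C, g, hg, hax⟩
  have hpoint : ∀ X : P, ∃ a : L, InvAxial G X a := by
    intro X
    obtain ⟨u, v, hu, hv, hne⟩ := exists_two_lines (L := L) X
    obtain ⟨g, hg, hgu, hgv⟩ := h.lns u v hne
    obtain ⟨C, a, hax⟩ := h.central g hg
    have key : ∀ m, g • m = m → C ∈ m := fun m hm => by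
      rcases hax.fixed_ln hg.1 hm with rfl | e
      exacts [hel ⟨g, hg, hax⟩, e]
    obtain rfl : C = X := point_eq hne (key u hgu) (key v hgv) hu hv
    exact ⟨a, g, hg, hax⟩
  -- centres of elations with another axis
  let A : L → P → Prop := fun l X => X ∈ l ∧ ∃ a : L, a ≠ l ∧ InvAxial G X a
  let Uni : P → Prop := fun X => ∀ a b : L, InvAxial G X a → InvAxial G X b → a = b
  have hA : ∀ (l : L) (g : G), g ∈ MulAction.stabilizer G l → ∀ X, A l X → A l (g • X) := by
    intro l g hg X hX
    obtain ⟨hXl, a, hal, ha⟩ := hX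
    refine ⟨(smul_mem_iff_of_fix hg X).mpr hXl, g • a, fun e => hal ?_, ha.smul g⟩
    exact MulAction.injective g (e.trans (Eq.symm hg))
  have hfix : ∀ (l : L) (X : P), A l X →
      ∃ g : G, IsInv g ∧ g • l = l ∧ g • X = X ∧ ∀ Y, Y ∈ l → g • Y = Y → Y = X := by
    intro l X hX
    obtain ⟨hXl, a, hal, g, hg, hax⟩ := hX
    refine ⟨g, hg, hax.2 l hXl, hax.2.fix_point, fun Y hY hgY => ?_⟩
    rcases hax.fixed_pt hg.1 hgY with e | e
    · exact e
    · exact point_eq hal e hY (hel ⟨g, hg, hax⟩) hXl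
  have htrans : ∀ (l : L) (X Y : P), A l X → A l Y → ∃ g : G, g • l = l ∧ g • X = Y := by
    intro l X Y hX hY
    have := Fact.mk Nat.prime_two
    obtain ⟨g, hg, hgX⟩ := gleason (p := 2) (MulAction.stabilizer G l) (A l) (hA l)
      (fun Z hZ => by
        obtain ⟨g, hg, hgl, hgZ, huniq⟩ := hfix l Z hZ
        exact ⟨g, hgl, ⟨1, by rw [pow_one, pow_two]; exact hg.2⟩, hgZ,
          fun W hW hgW => huniq W hW.1 hgW⟩) hX hY
    exact ⟨g, hg, hgX⟩
  have hUni : ∀ (g : G) (X : P), Uni X → Uni (g • X) := by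
    intro g X hX a b ha hb
    have ha' : InvAxial G X (g⁻¹ • a) := by simpa using ha.smul g⁻¹
    have hb' : InvAxial G X (g⁻¹ • b) := by simpa using hb.smul g⁻¹
    exact MulAction.injective g⁻¹ (hX _ _ ha' hb')
  -- all points off the axis of a point with only one axis have only one axis
  have step : ∀ (Q : P) (a : L), Uni Q → InvAxial G Q a → ∀ X, ¬ Uni X → X ∈ a := by
    intro Q a hQ ha X hX
    by_contra hXa
    have hQX : Q ≠ X := fun e => hX (e ▸ hQ)
    set l := lineThru L Q X with hl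
    have hla : a ≠ l := fun e => hXa (by rw [e]; exact right_mem_lineThru Q X)
    have hAQ : A l Q := ⟨left_mem_lineThru Q X, a, hla, ha⟩
    by_cases hAX : A l X
    · obtain ⟨g, -, hg⟩ := htrans l Q X hAQ hAX
      exact hX (hg ▸ hUni g Q hQ)
    · apply hX
      intro u v hu hv
      have key : ∀ w, InvAxial G X w → w = l := fun w hw =>
        by_contra fun hne => hAX ⟨right_mem_lineThru Q X, w, hne, hw⟩
      rw [key u hu, key v hv]
  by_cases huni : ∃ Q, Uni Q
  · exfalso
    obtain ⟨Q, hQ⟩ := huni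
    by_cases hnon : ∃ X, ¬ Uni X
    · obtain ⟨X, hX⟩ := hnon
      obtain ⟨l, hl⟩ := Nondegenerate.exists_line (L := L) X
      obtain ⟨Z, hZ⟩ := hline l
      have hZX : Z ≠ X := fun e => hl (e ▸ hel hZ)
      have hZu : ¬ Uni Z := fun hu => hl (step Z l hu hZ X hX)
      have hall : ∀ R a, Uni R → InvAxial G R a → a = lineThru L X Z := fun R a hR ha =>
        line_eq hZX.symm (step R a hR ha X hX) (step R a hR ha Z hZu) (left_mem_lineThru X Z)
          (right_mem_lineThru X Z)
      obtain ⟨R, hR⟩ := Nondegenerate.exists_point (P := P) (lineThru L X Z)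
      obtain ⟨b, hb⟩ := hpoint R
      by_cases hRu : Uni R
      · exact hR (hall R b hRu hb ▸ hel hb)
      · obtain ⟨a, ha⟩ := hpoint Q
        exact hR (hall Q a hQ ha ▸ step Q a hQ ha R hRu)
    push Not at hnon
    choose ax hax using hpoint
    have hsurj : Function.Surjective ax := fun l =>
      let ⟨X, hX⟩ := hline l
      ⟨X, hnon X _ _ (hax X) hX⟩
    have hbij : Function.Bijective ax := (Fintype.bijective_iff_surjective_and_card ax).mpr
      ⟨hsurj, ProjectivePlane.card_points_eq_card_lines P L⟩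
    obtain ⟨l⟩ := nonempty_line (L := L) P
    obtain ⟨X₀, hX₀⟩ := hsurj l
    subst hX₀
    have hAiff : ∀ Y, A (ax X₀) Y ↔ Y ∈ ax X₀ ∧ Y ≠ X₀ := by
      intro Y
      refine ⟨fun ⟨hY, a, hne, ha⟩ => ⟨hY, ?_⟩, fun ⟨hY, hne⟩ => ⟨hY, ax Y, ?_, hax Y⟩⟩
      · rintro rfl
        exact hne (hnon Y _ _ ha (hax Y))
      · exact fun e => hne (hbij.1 e)
    obtain ⟨Y, hY, hYX⟩ := exists_mem_ne (ax X₀) X₀
    obtain ⟨g, hg, hgl, hgY, huniq⟩ := hfix (ax X₀) Y ((hAiff Y).mpr ⟨hY, hYX⟩)
    have := Fact.mk Nat.prime_two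
    have hmod := natCard_modEq_fixed_elem (p := 2) (k := 1) (g := g)
      (by rw [pow_one, pow_two, hg.2]) (A (ax X₀)) (fun Z => hA (ax X₀) g hgl Z)
    have h1 : Nat.card {Z : P // A (ax X₀) Z ∧ g • Z = Z} = 1 :=
      Nat.card_eq_one_iff_unique.mpr ⟨⟨fun u v => Subtype.ext
        ((huniq _ u.2.1.1 u.2.2).trans (huniq _ v.2.1.1 v.2.2).symm)⟩,
        ⟨⟨Y, (hAiff Y).mpr ⟨hY, hYX⟩, hgY⟩⟩⟩
    have h2 : Nat.card {Z : P // A (ax X₀) Z} = ProjectivePlane.order P L := by
      rw [Nat.card_congr (Equiv.subtypeEquivRight hAiff)]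
      have h3 := natCard_points_on (P := P) (ax X₀)
      rw [Nat.card_eq_fintype_card, Fintype.card_subtype] at h3 ⊢
      rw [show (Finset.univ.filter fun Z : P => Z ∈ ax X₀ ∧ Z ≠ X₀) =
        (Finset.univ.filter fun Z : P => Z ∈ ax X₀).erase X₀ by ext; simp [and_comm],
        Finset.card_erase_of_mem (by simpa using hel (hax X₀)), h3, Nat.add_sub_cancel]
    rw [h1, h2, Nat.ModEq] at hmod
    omega
  -- every point of a line is a centre for it, all alike
  push Not at huni
  have hall : ∀ (l : L) (X : P), X ∈ l → A l X := by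
    intro l X hX
    by_contra hAX
    refine huni X fun u v hu hv => ?_
    have key : ∀ w, InvAxial G X w → w = l := fun w hw =>
      by_contra fun hne => hAX ⟨hX, w, hne, hw⟩
    rw [key u hu, key v hv]
  obtain ⟨l⟩ := nonempty_line (L := L) P
  obtain ⟨X₀, g₀, hg₀, hax₀⟩ := hline l
  have he : 2 ≤ Nat.card (axGroup G X₀ l) := by
    have := (Subgroup.one_lt_card_iff_ne_bot _).mpr (axGroup_ne_bot hg₀.1 hax₀)
    omega
  obtain ⟨-, -, hpp⟩ := elGroup_sharp (G := G) l he (fun X hX => by
    obtain ⟨a, hal, haX⟩ := htrans l X₀ X (hall l X₀ (hel ⟨g₀, hg₀, hax₀⟩)) (hall l X hX)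
    have := natCard_axGroup_conj a X₀ l
    rwa [hal, haX] at this)
  exact hpp

end Cfsg.Agent.OW
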