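import Mathlib
import Cfsg.Agent.Lib.OstromWagner.KEven

/-!
# Planes in which every involution is a homology

The case of odd order of the statement: a plane with a group in which all involutions are central,
fixing every pair of points and every pair of lines by involutions, has prime power order.
-/

set_option autoImplicit false
set_option linter.unusedSectionVars false

namespace Cfsg.Agent.OW

open Configuration

variable {G P L : Type*} [Group G] [MulAction G P] [MulAction G L] [Membership P L]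
  [ProjectivePlane P L] [Finite P] [Finite L] [Coll G P L] [Finite G]

lemma InvAxial.dual {C : P} {l : L} (h : InvAxial G C l) :
    InvAxial G (P := Dual L) (L := Dual P) l C :=
  let ⟨g, hg, hax⟩ := h
  ⟨g, hg, hax.dual⟩

lemma InvAxial.of_dual {C : P} {l : L} (h : InvAxial G (P := Dual L) (L := Dual P) l C) :
    InvAxial G C l :=
  let ⟨g, hg, hax⟩ := h
  ⟨g, hg, Axial.of_dual (P := P) (L := L) hax⟩

lemma InvAxial.not_mem (hodd : ¬ 2 ∣ ProjectivePlane.order P L) {C : P} {l : L}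
    (h : InvAxial G C l) : C ∉ l :=
  let ⟨_, hg, hax⟩ := h
  fun hC => hodd (hg.even_of_elation hax hC)

lemma three_le_of_odd (hodd : ¬ 2 ∣ ProjectivePlane.order P L) :
    3 ≤ ProjectivePlane.order P L := by
  have h2 := two_le_order (P := P) (L := L)
  rcases Nat.lt_or_ge (ProjectivePlane.order P L) 3 with h | h
  · exact absurd (show 2 ∣ ProjectivePlane.order P L by
      rw [show ProjectivePlane.order P L = 2 by omega]) hodd
  · exact h

/-- A line contains a point different from three given ones, if the order is at least 3. -/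
lemma exists_mem_ne3 (h3 : 3 ≤ ProjectivePlane.order P L) (l : L) (a b c : P) :
    ∃ p : P, p ∈ l ∧ p ≠ a ∧ p ≠ b ∧ p ≠ c := by
  classical
  have h : ({a, b, c} : Finset P).card < Nat.card {p : P // p ∈ l} := by
    have := Finset.card_le_three (a := a) (b := b) (c := c)
    rw [natCard_points_on]
    omega
  obtain ⟨p, hp, hps⟩ := exists_mem_not_mem_of_card _ h
  exact ⟨p, hp, fun e => hps (by simp [e]), fun e => hps (by simp [e]), fun e => hps (by simp [e])⟩

/-- Unique axes and centres lead to a polarity without absolute points, which is impossible. -/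
lemma no_unique_axes (h : InvHyp G P L) (hodd : ¬ 2 ∣ ProjectivePlane.order P L)
    (h1 : ∀ (C : P) (a b : L), InvAxial G C a → InvAxial G C b → a = b)
    (h2 : ∀ (C D : P) (a : L), InvAxial G C a → InvAxial G D a → C = D) : False := by
  classical
  have := Fintype.ofFinite P
  have := Fintype.ofFinite L
  have hk3 := three_le_of_odd hodd
  have orth : ∀ {C C' : P} {a a' : L}, InvAxial G C a → InvAxial G C' a' → C' ∈ a → C ∈ a' := by
    intro C C' a a' hC hC' hmem
    obtain ⟨g, hg, hax⟩ := hC'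
    have hga : g • a = a := hax.2 a hmem
    have h3 := hC.smul g
    rw [hga] at h3
    rcases hax.fixed_pt hg.1 (h2 _ _ _ h3 hC) with e | e
    · exact absurd (e ▸ hmem) (hC.not_mem hodd)
    · exact e
  have haxes : ∀ m : L, ∃ C : P, InvAxial G C m := by
    intro m
    by_contra hm
    push Not at hm
    have hpair : ∀ A B : P, A ∈ m → B ∈ m → A ≠ B →
        ∃ a : L, (InvAxial G A a ∧ B ∈ a) ∨ (InvAxial G B a ∧ A ∈ a) := by
      intro A B hA hB hne
      obtain ⟨g, hg, hgA, hgB⟩ := h.pts A B hne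
      obtain ⟨C, a, hax⟩ := h.central g hg
      refine ⟨a, ?_⟩
      rcases hax.fixed_pt hg.1 hgA with rfl | eA
      · rcases hax.fixed_pt hg.1 hgB with rfl | eB
        · exact absurd rfl hne
        · exact Or.inl ⟨⟨g, hg, hax⟩, eB⟩
      · rcases hax.fixed_pt hg.1 hgB with rfl | eB
        · exact Or.inr ⟨⟨g, hg, hax⟩, eA⟩
        · exact absurd ⟨g, hg, (line_eq hne eA eB hA hB) ▸ hax⟩ (hm C)
    obtain ⟨X₀, hX₀⟩ : ∃ X₀ : P, ∀ A : P, A ∈ m → A ≠ X₀ → ∃ a : L, InvAxial G A a := by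
      by_cases hc : ∃ X₀ : P, X₀ ∈ m ∧ ∀ a : L, ¬ InvAxial G X₀ a
      · obtain ⟨X₀, hX₀, hno⟩ := hc
        refine ⟨X₀, fun A hA hne => ?_⟩
        obtain ⟨a, ⟨ha, -⟩ | ⟨ha, -⟩⟩ := hpair A X₀ hA hX₀ hne
        · exact ⟨a, ha⟩
        · exact absurd ha (hno a)
      · push Not at hc
        exact ⟨(nonempty_point (P := P) L).some, fun A hA _ => hc A hA⟩
    obtain ⟨A, hA, hA0⟩ := exists_mem_ne m X₀
    obtain ⟨B, hB, hB0, hBA⟩ := exists_mem_ne_ne m X₀ A
    obtain ⟨D, hD, hD0, hDA, hDB⟩ := exists_mem_ne3 hk3 m X₀ A B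
    obtain ⟨α, hα⟩ := hX₀ A hA hA0
    have key : ∀ Y, Y ∈ m → Y ≠ A → Y ∈ α := by
      intro Y hY hYA
      obtain ⟨a, ⟨ha, hYa⟩ | ⟨ha, hAa⟩⟩ := hpair A Y hA hY (Ne.symm hYA)
      · exact h1 A a α ha hα ▸ hYa
      · exact orth ha hα hAa
    exact hm A (line_eq hDB.symm (key B hB hBA) (key D hD hDA) hB hD ▸ hα)
  choose cen hcen using haxes
  have hinj : Function.Injective cen := fun a b e => h1 (cen a) a b (hcen a) (e ▸ hcen b)
  have hbij : Function.Bijective cen := (Fintype.bijective_iff_injective_and_card cen).mpr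
    ⟨hinj, (ProjectivePlane.card_points_eq_card_lines P L).symm⟩
  let ax : P ≃ L := (Equiv.ofBijective cen hbij).symm
  have hax : ∀ X, InvAxial G X (ax X) := fun X => by
    have h4 : cen (ax X) = X := (Equiv.ofBijective cen hbij).apply_symm_apply X
    conv => arg 2; rw [← h4]
    exact hcen (ax X)
  have hsym : ∀ {X Y}, Y ∈ ax X → X ∈ ax Y := fun {X Y} hY => orth (hax X) (hax Y) hY
  set k := ProjectivePlane.order P L with hk
  obtain ⟨p, hp, hpk⟩ := Nat.exists_prime_and_dvd (show k ≠ 1 by omega)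
  have := Fact.mk hp
  let M : Matrix P P (ZMod p) := Matrix.of fun X Y => if Y ∈ ax X then 1 else 0
  let J : Matrix P P (ZMod p) := Matrix.of fun _ _ => 1
  have hk1 : ((k + 1 : ℕ) : ZMod p) = 1 := by
    rw [Nat.cast_add, (ZMod.natCast_eq_zero_iff _ _).mpr hpk, zero_add, Nat.cast_one]
  have hon : ∀ l : L, (Finset.univ.filter fun Y : P => Y ∈ l).card = k + 1 := by
    intro l
    rw [← Fintype.card_subtype, ← Nat.card_eq_fintype_card]
    exact natCard_points_on l
  have hMM : M * M = J := by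
    ext X Z
    have : (M * M) X Z = ((Finset.univ.filter fun Y : P => Y ∈ ax X ∧ Y ∈ ax Z).card : ZMod p) := by
      rw [Matrix.mul_apply, ← Finset.sum_boole]
      refine Finset.sum_congr rfl fun Y _ => ?_
      simp only [M, Matrix.of_apply]
      have hiff : Z ∈ ax Y ↔ Y ∈ ax Z := ⟨hsym, hsym⟩
      simp only [hiff]
      split_ifs with a b c <;> simp_all
    rw [this]
    show _ = (1 : ZMod p)
    rcases eq_or_ne X Z with rfl | hne
    · simp only [and_self, hon, hk1]
    · have h5 : (Finset.univ.filter fun Y : P => Y ∈ ax X ∧ Y ∈ ax Z) =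
          {meet P (ax X) (ax Z)} := by
        ext Y
        simp only [Finset.mem_filter, Finset.mem_univ, true_and, Finset.mem_singleton]
        exact ⟨fun e => (meet_eq (ax.injective.ne hne) e.1 e.2).symm,
          fun e => e ▸ ⟨meet_mem_left _ _, meet_mem_right _ _⟩⟩
      rw [h5, Finset.card_singleton, Nat.cast_one]
  have hJM : J * M = J := by
    ext X Z
    rw [Matrix.mul_apply]
    simp only [J, M, Matrix.of_apply, one_mul, Finset.sum_boole]
    rw [show (Finset.univ.filter fun Y : P => Z ∈ ax Y) = Finset.univ.filter fun Y : P => Y ∈ ax Z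
      from Finset.filter_congr fun Y _ => ⟨hsym, hsym⟩, hon, hk1]
  have hpow : ∀ i, M ^ (i + 2) = J := by
    intro i
    induction i with
    | zero => rw [pow_two, hMM]
    | succ i ih => rw [pow_succ, ih, hJM]
  have htr := ZMod.trace_pow_card (p := p) M
  obtain ⟨i, hi⟩ := Nat.exists_eq_add_of_le hp.two_le
  have hM0 : M.trace = 0 := by
    refine Finset.sum_eq_zero fun X _ => ?_
    simp [M, (hax X).not_mem hodd]
  have hJ1 : J.trace = 1 := by
    have hc := card_points_nat (P := P) (L := L)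
    rw [Nat.card_eq_fintype_card] at hc
    simp only [Matrix.trace, Matrix.diag, J, Matrix.of_apply, Finset.sum_const, nsmul_eq_mul,
      mul_one, Finset.card_univ]
    rw [hc, ← hk, show k ^ 2 + k + 1 = k * (k + 1) + 1 by ring, Nat.cast_add, Nat.cast_mul,
      hk1, mul_one, (ZMod.natCast_eq_zero_iff _ _).mpr hpk, zero_add, Nat.cast_one]
  rw [hM0, zero_pow hp.ne_zero] at htr
  have hMp : M ^ p = J := (congrArg (M ^ ·) (hi.trans (add_comm 2 i))).trans (hpow i)
  rw [hMp, hJ1] at htr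
  exact one_ne_zero htr

/-- The elations with centre `C`. -/
def cEl (G : Type*) (L : Type*) {P : Type*} [Group G] [MulAction G P] [MulAction G L]
    [Membership P L] [ProjectivePlane P L] [Finite P] [Finite L] [Coll G P L] (C : P) :
    Subgroup G :=
  elGroup (L := Dual P) G (Dual L) C

lemma mem_cEl {g : G} {C : P} : g ∈ cEl G L C ↔ ∃ a : L, C ∈ a ∧ Axial g C a :=
  ⟨fun ⟨a, ha, hax⟩ => ⟨a, ha, Axial.of_dual (P := P) (L := L) hax⟩,
    fun ⟨a, ha, hax⟩ => ⟨a, ha, hax.dual⟩⟩

lemma axGroup_le_cEl {C : P} {a : L} (ha : C ∈ a) : axGroup G C a ≤ cEl G L C :=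
  fun _ h => mem_cEl.mpr ⟨a, ha, h⟩

lemma conj_mem_cEl {g : G} {C : P} (hg : g • C = C) {e : G} (he : e ∈ cEl G L C) :
    g * e * g⁻¹ ∈ cEl G L C := by
  obtain ⟨a, ha, hax⟩ := mem_cEl.mp he
  refine mem_cEl.mpr ⟨g • a, ?_, ?_⟩
  · have := smul_mem g ha
    rwa [hg] at this
  · have := hax.conj g
    rwa [hg] at this

lemma cEl_fix {C : P} {e : G} (he : e ∈ cEl G L C) {a : L} (ha : C ∈ a) : e • a = a := by
  obtain ⟨b, -, hax⟩ := mem_cEl.mp he
  exact hax.2 a ha

lemma cEl_fix_centre {C : P} {e : G} (he : e ∈ cEl G L C) : e • C = C := by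
  obtain ⟨b, -, hax⟩ := mem_cEl.mp he
  exact hax.2.fix_point

lemma cEl_free_ln {C : P} {e : G} (he : e ∈ cEl G L C) {l : L} (hl : C ∉ l)
    (hfix : e • l = l) : e = 1 := by
  obtain ⟨b, hb, hax⟩ := mem_cEl.mp he
  by_contra hne
  rcases hax.fixed_ln hne hfix with rfl | e'
  exacts [hl hb, hl e']

/-- An involutory homology inverts the elations with the same centre. -/
lemma homology_inverts {h : G} {C : P} {l : L} (hh : IsInv h) (hax : Axial h C l) (hC : C ∉ l) :
    (∀ e ∈ cEl G L C, h * e * h⁻¹ = e⁻¹) ∧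
      (∀ a ∈ cEl G L C, ∀ b ∈ cEl G L C, a * b = b * a) ∧
      Odd (Nat.card (cEl G L C)) := by
  let φ : cEl G L C →* cEl G L C :=
    { toFun := fun e => ⟨h * e * h⁻¹, conj_mem_cEl hax.2.fix_point e.2⟩
      map_one' := Subtype.ext (by simp)
      map_mul' := fun a b => Subtype.ext (by simp [mul_assoc]) }
  have hfpf : MonoidHom.FixedPointFree φ := by
    intro e he
    have h1 : h * (e : G) * h⁻¹ = e := congrArg Subtype.val he
    have h2 : (e : G) * h = h * e := (mul_inv_eq_iff_eq_mul.mp h1).symm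
    exact Subtype.ext (cEl_free_ln e.2 hC (hax.fix_of_commute hh.1 h2).2)
  have hinv : Function.Involutive φ := fun e => Subtype.ext (by
    show h * (h * (e : G) * h⁻¹) * h⁻¹ = e
    rw [hh.inv_eq, ← mul_assoc, ← mul_assoc, hh.2, one_mul, mul_assoc, hh.2, mul_one])
  refine ⟨fun e he => ?_, fun a ha b hb => ?_, hfpf.odd_card_of_involutive hinv⟩
  · exact congrArg Subtype.val (congrFun (hfpf.coe_eq_inv_of_involutive hinv) ⟨e, he⟩)
  · exact congrArg Subtype.val (hfpf.commute_all_of_involutive hinv ⟨a, ha⟩ ⟨b, hb⟩)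

/-- The homology axes with centre `C` form one orbit of the elations with centre `C`. -/
lemma exists_cEl_smul (hodd : ¬ 2 ∣ ProjectivePlane.order P L) {C : P} {l l' : L}
    (h : InvAxial G C l) (h' : InvAxial G C l') : ∃ e ∈ cEl G L C, e • l = l' := by
  rcases eq_or_ne l l' with rfl | hne
  · exact ⟨1, one_mem _, one_smul _ _⟩
  have hC := h.not_mem hodd
  obtain ⟨g, hg, hax⟩ := h
  obtain ⟨g', hg', hax'⟩ := h'
  obtain ⟨-, a, ha, hprod⟩ := hg'.mul_homology hg hax' hax hne.symm
  obtain ⟨hinv, -, hoddc⟩ := homology_inverts hg hax hC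
  obtain ⟨e, he⟩ := (powCoprime (G := cEl G L C) (n := 2)
    (Nat.coprime_two_right.mpr hoddc)).surjective ⟨g' * g, mem_cEl.mpr ⟨a, ha, hprod⟩⟩
  have he' : (e : G) * e = g' * g := by
    have := congrArg Subtype.val he
    simpa [powCoprime, pow_two] using this
  refine ⟨e, e.2, ?_⟩
  have h1 : (e : G) * g * (e : G)⁻¹ = g' := by
    have h2 : g * (e : G)⁻¹ = e * g := by
      rw [← mul_inv_eq_iff_eq_mul, hinv _ (inv_mem e.2), inv_inv]
    rw [mul_assoc, h2, ← mul_assoc, he', mul_assoc, hg.2, mul_one]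
  have h3 := hax.conj (e : G)
  rw [h1] at h3
  exact hax'.axis_unique hg'.1 h3.1

lemma natCard_axGroup_dual (C : P) (a : L) :
    Nat.card (axGroup G (P := Dual L) (L := Dual P) a C) = Nat.card (axGroup G C a) :=
  Nat.card_congr
    { toFun := fun x => ⟨x.1, Axial.of_dual (P := P) (L := L) x.2⟩
      invFun := fun x => ⟨x.1, Axial.dual x.2⟩ }

open scoped Classical in
/-- The elations with centre `C` counted by axes. -/
lemma natCard_cEl (C : P) [Fintype L] :
    Nat.card (cEl G L C) =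
      1 + ∑ a ∈ Finset.univ.filter (fun a : L => C ∈ a), (Nat.card (axGroup G C a) - 1) := by
  classical
  let : Fintype (Dual L) := inferInstance
  have h := natCard_elGroup (G := G) (P := Dual L) (L := Dual P) C
  refine h.trans ?_
  congr 1
  refine Finset.sum_congr ?_ (fun a _ => congrArg (· - 1) (natCard_axGroup_dual (P := P) (L := L) C a))
  exact Finset.ext fun a =>
    ⟨fun h => Finset.mem_filter.mpr ⟨Finset.mem_univ _, (Finset.mem_filter.mp h).2⟩,
      fun h => Finset.mem_filter.mpr ⟨Finset.mem_univ _, (Finset.mem_filter.mp h).2⟩⟩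

/-- The cases for an involution fixing `C` and a point `A` on a line `a` through `C` which is on no
homology axis of `C`. -/
lemma fix_cases (h : InvHyp G P L) {C A : P} {a : L} (hCa : C ∈ a) (hAa : A ∈ a) (hne : A ≠ C)
    (hnot : ∀ l : L, InvAxial G C l → A ∉ l) :
    ∃ g : G, IsInv g ∧ g • C = C ∧
      ((∃ x : L, C ∈ x ∧ A ∉ x ∧ Axial g A x) ∨ ∃ Z : P, Axial g Z a) := by
  obtain ⟨g, hg, hgC, hgA⟩ := h.pts C A hne.symm
  obtain ⟨Z, x, hax⟩ := h.central g hg
  refine ⟨g, hg, hgC, ?_⟩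
  rcases hax.fixed_pt hg.1 hgC with rfl | eC
  · rcases hax.fixed_pt hg.1 hgA with e | e
    · exact absurd e hne
    · exact absurd e (hnot x ⟨g, hg, hax⟩)
  · rcases hax.fixed_pt hg.1 hgA with rfl | eA
    · by_cases hAx : A ∈ x
      · exact Or.inr ⟨A, line_eq hne hAx eC hAa hCa ▸ hax⟩
      · exact Or.inl ⟨x, eC, hAx, hax⟩
    · exact Or.inr ⟨Z, line_eq hne eA eC hAa hCa ▸ hax⟩

/-- An involution fixing exactly the lines `a`, `a'` through `C` among possible axes splits the
group of elations with centre `C`. -/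
lemma natCard_cEl_split {C : P} {l₀ : L} (hl₀ : InvAxial G C l₀)
    (hodd : ¬ 2 ∣ ProjectivePlane.order P L) {g : G} (hg : IsInv g) (hgC : g • C = C) {a a' : L}
    (ha : C ∈ a) (ha' : C ∈ a') (hne : a ≠ a')
    (honly : ∀ c : L, C ∈ c → g • c = c → c = a ∨ c = a') :
    Nat.card (cEl G L C) = Nat.card (axGroup G C a) * Nat.card (axGroup G C a') := by
  have hC := hl₀.not_mem hodd
  obtain ⟨h₀, hh₀, hax₀⟩ := hl₀
  obtain ⟨-, hcomm, hoddc⟩ := homology_inverts hh₀ hax₀ hC
  let f : axGroup G C a × axGroup G C a' → cEl G L C := fun x =>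
    ⟨x.1 * x.2, mul_mem (axGroup_le_cEl ha x.1.2) (axGroup_le_cEl ha' x.2.2)⟩
  rw [← Nat.card_prod]
  refine (Nat.card_congr (Equiv.ofBijective f ⟨?_, ?_⟩)).symm
  · rintro ⟨a₁, b₁⟩ ⟨a₂, b₂⟩ hxy
    have h1 : (a₁ : G) * b₁ = a₂ * b₂ := congrArg Subtype.val hxy
    have h2 : (a₂ : G)⁻¹ * a₁ = b₂ * (b₁ : G)⁻¹ := by
      rw [inv_mul_eq_iff_eq_mul, ← mul_assoc, ← h1, mul_inv_cancel_right]
    have hA : Axial ((a₂ : G)⁻¹ * a₁) C a := (a₂⁻¹ * a₁).2
    have hB : Axial ((b₂ : G) * (b₁ : G)⁻¹) C a' := (b₂ * b₁⁻¹).2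
    have h3 : (a₂ : G)⁻¹ * a₁ = 1 := by
      by_contra h4
      rw [← h2] at hB
      exact hne (hA.axis_unique h4 hB.1).symm
    have h5 : a₂ = a₁ := Subtype.ext (inv_mul_eq_one.mp h3)
    subst h5
    exact Prod.ext rfl (Subtype.ext (mul_left_cancel h1))
  · rintro ⟨x, hx⟩
    obtain ⟨⟨e, he⟩, hsq⟩ := (powCoprime (G := cEl G L C) (n := 2)
      (Nat.coprime_two_right.mpr hoddc)).surjective ⟨x, hx⟩
    have hsq' : e * e = x := by
      have := congrArg Subtype.val hsq
      simpa [powCoprime, pow_two] using this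
    set s := g * e * g⁻¹ with hs
    have hsmem : s ∈ cEl G L C := conj_mem_cEl hgC he
    have hgs : g * s * g⁻¹ = e := by
      rw [hs, hg.inv_eq, ← mul_assoc, ← mul_assoc, hg.2, one_mul, mul_assoc, hg.2, mul_one]
    have huni : ∀ u ∈ cEl G L C, g * u * g⁻¹ = u ∨ g * u * g⁻¹ = u⁻¹ →
        u ∈ axGroup G C a ∨ u ∈ axGroup G C a' := by
      intro u hu hcase
      rcases eq_or_ne u 1 with rfl | hu1
      · exact Or.inl (one_mem _)
      obtain ⟨c, hc, hax⟩ := mem_cEl.mp hu
      have hgc : g • c = c := by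
        rcases hcase with e' | e'
        · exact (hax.fix_of_commute hu1 (mul_inv_eq_iff_eq_mul.mp e')).2
        · exact (hax.fix_of_invert hu1 e').2
      rcases honly c hc hgc with rfl | rfl
      exacts [Or.inl hax, Or.inr hax]
    have hu := huni (e * s) (mul_mem he hsmem) (Or.inl (by
      rw [show g * (e * s) * g⁻¹ = (g * e * g⁻¹) * (g * s * g⁻¹) by group, hgs, ← hs]
      exact hcomm s hsmem e he))
    have hv := huni (e * s⁻¹) (mul_mem he (inv_mem hsmem)) (Or.inr (by
      rw [show g * (e * s⁻¹) * g⁻¹ = (g * e * g⁻¹) * (g * s * g⁻¹)⁻¹ by group, hgs, ← hs,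
        mul_inv_rev, inv_inv]))
    have hxuv : (e * s) * (e * s⁻¹) = x := by
      rw [← hsq']
      calc (e * s) * (e * s⁻¹) = e * (s * e) * s⁻¹ := by group
        _ = e * (e * s) * s⁻¹ := by rw [hcomm s hsmem e he]
        _ = e * e := by group
    rcases hu with hu | hu <;> rcases hv with hv | hv
    · exact ⟨(⟨_, mul_mem hu hv⟩, 1), Subtype.ext (by simp [f, hxuv])⟩
    · exact ⟨(⟨_, hu⟩, ⟨_, hv⟩), Subtype.ext (by simp [f, hxuv])⟩
    · refine ⟨(⟨_, hv⟩, ⟨_, hu⟩), Subtype.ext ?_⟩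
      show e * s⁻¹ * (e * s) = x
      rw [hcomm _ (mul_mem he (inv_mem hsmem)) _ (mul_mem he hsmem), hxuv]
    · exact ⟨(1, ⟨_, mul_mem hu hv⟩), Subtype.ext (by simp [f, hxuv])⟩

lemma natCard_on_ne' (l : L) {C : P} (hC : C ∈ l) :
    Nat.card {x : P // x ∈ l ∧ x ≠ C} = ProjectivePlane.order P L := by
  classical
  have := Fintype.ofFinite P
  have h1 := natCard_points_on (P := P) l
  rw [Nat.card_eq_fintype_card, Fintype.card_subtype] at h1 ⊢
  rw [show (Finset.univ.filter fun p : P => p ∈ l ∧ p ≠ C) =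
    (Finset.univ.filter fun p : P => p ∈ l).erase C by ext; simp [and_comm],
    Finset.card_erase_of_mem (by simpa using hC), h1, Nat.add_sub_cancel]

/-- All points of `a` other than `C` are on homology axes of `C`. -/
lemma natCard_cEl_covered {C : P} {a : L} (hodd : ¬ 2 ∣ ProjectivePlane.order P L) (ha : C ∈ a)
    (hcov : ∀ A : P, A ∈ a → A ≠ C → ∃ l : L, InvAxial G C l ∧ A ∈ l) :
    Nat.card (cEl G L C) = Nat.card (axGroup G C a) * ProjectivePlane.order P L := by
  classical
  let E := cEl G L C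
  let := subAction E (fun x : P => x ∈ a ∧ x ≠ C) (fun e he x hx =>
    ⟨(smul_mem_iff_of_fix (cEl_fix he ha) x).mpr hx.1,
      fun hh => hx.2 (MulAction.injective e (hh.trans (cEl_fix_centre he).symm))⟩)
  obtain ⟨A, hA, hAC⟩ := exists_mem_ne a C
  let A' : {x : P // x ∈ a ∧ x ≠ C} := ⟨A, hA, hAC⟩
  have htr : MulAction.orbit E A' = Set.univ := by
    ext ⟨B, hB, hBC⟩
    simp only [Set.mem_univ, iff_true]
    obtain ⟨l, hl, hAl⟩ := hcov A hA hAC
    obtain ⟨l', hl', hBl⟩ := hcov B hB hBC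
    obtain ⟨e, he, hel⟩ := exists_cEl_smul hodd hl hl'
    refine ⟨⟨e, he⟩, Subtype.ext (point_eq (l := a) (m := l')
      (ne_line_of_mem_of_not_mem ha (hl'.not_mem hodd))
      ((smul_mem_iff_of_fix (cEl_fix he ha) A).mpr hA) (hel ▸ smul_mem e hAl) hB hBl)⟩
  have h1 := Subgroup.card_mul_index (MulAction.stabilizer E A')
  rw [MulAction.index_stabilizer, htr, Set.ncard_univ, natCard_on_ne' a ha] at h1
  have h2 : Nat.card (MulAction.stabilizer E A') = Nat.card (axGroup G C a) := by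
    refine Nat.card_congr
      { toFun := fun x => ⟨x.1.1, ?_⟩
        invFun := fun x => ⟨⟨x.1, axGroup_le_cEl ha x.2⟩, Subtype.ext (Axial.axis x.2 A hA)⟩ }
    have hfix : (x.1 : G) • A = A := congrArg Subtype.val x.2
    rcases eq_or_ne (x.1 : G) 1 with e | e
    · rw [e]; exact one_mem _
    obtain ⟨b, hb, hax⟩ := mem_cEl.mp x.1.2
    rcases hax.fixed_pt e hfix with e' | e'
    · exact absurd e' hAC
    · exact line_eq hAC e' hb hA ha ▸ hax
  rw [h2] at h1
  exact h1.symm

lemma exists_pos_pow {p k j : ℕ} (hp : p.Prime) (hk : 2 ≤ k) (h : k ∣ p ^ j) :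
    ∃ q a : ℕ, q.Prime ∧ 0 < a ∧ k = q ^ a := by
  obtain ⟨i, -, rfl⟩ := (Nat.dvd_prime_pow hp).mp h
  refine ⟨p, i, hp, Nat.pos_of_ne_zero ?_, rfl⟩
  rintro rfl
  simp at hk

/-- Two elations with centre `C` and different axes, and a homology with centre `C`. -/
lemma prime_pow_of_two_directions (h : InvHyp G P L) (hodd : ¬ 2 ∣ ProjectivePlane.order P L)
    {C : P} {l₀ : L} (hl₀ : InvAxial G C l₀) {e₁ e₂ : G} {a₁ a₂ : L} (h₁ : Axial e₁ C a₁)
    (h₂ : Axial e₂ C a₂) (ha₁ : C ∈ a₁) (ha₂ : C ∈ a₂) (he₁ : e₁ ≠ 1) (he₂ : e₂ ≠ 1)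
    (hne : a₁ ≠ a₂) :
    ∃ p a : ℕ, p.Prime ∧ 0 < a ∧ ProjectivePlane.order P L = p ^ a := by
  classical
  have := Fintype.ofFinite L
  obtain ⟨p, hp, hexp⟩ := exists_prime_of_two (P := Dual L) (L := Dual P) h₁.dual h₂.dual ha₁ ha₂
    he₁ he₂ hne
  have := Fact.mk hp
  have hpg : IsPGroup p (cEl G L C) := by
    rintro ⟨g, a, ha, hax⟩
    exact ⟨1, Subtype.ext (by rw [pow_one]; exact hexp g a ha hax)⟩
  obtain ⟨j, hj⟩ := IsPGroup.iff_card.mp hpg
  have hk2 := two_le_order (P := P) (L := L)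
  by_cases hcov : ∃ a : L, C ∈ a ∧ ∀ A : P, A ∈ a → A ≠ C → ∃ l : L, InvAxial G C l ∧ A ∈ l
  · obtain ⟨a, ha, hcov⟩ := hcov
    have h3 := natCard_cEl_covered hodd ha hcov
    rw [hj] at h3
    exact exists_pos_pow hp hk2 (h3 ▸ dvd_mul_left _ _)
  push Not at hcov
  have hpair : ∀ a : L, C ∈ a → ∃ a' : L, a' ≠ a ∧ C ∈ a' ∧
      Nat.card (cEl G L C) = Nat.card (axGroup G C a) * Nat.card (axGroup G C a') := by
    intro a ha
    obtain ⟨A, hA, hAC, hnot⟩ := hcov a ha
    obtain ⟨g, hg, hgC, ⟨x, hx, hAx, hax⟩ | ⟨Z, hax⟩⟩ :=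
      fix_cases h ha hA hAC (fun l hl => hnot l hl)
    · refine ⟨x, fun e => hAx (e ▸ hA), hx, natCard_cEl_split hl₀ hodd hg hgC ha hx
        (fun e => hAx (e ▸ hA)) fun c hc hgc => ?_⟩
      rcases hax.fixed_ln hg.1 hgc with e | e
      · exact Or.inr e
      · exact Or.inl (line_eq hAC e hc hA ha)
    · have hZa : Z ∉ a := InvAxial.not_mem hodd ⟨g, hg, hax⟩
      refine ⟨lineThru L C Z, fun e => hZa (e ▸ right_mem_lineThru C Z), left_mem_lineThru C Z,
        natCard_cEl_split hl₀ hodd hg hgC ha (left_mem_lineThru C Z)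
          (fun e => hZa (e ▸ right_mem_lineThru C Z)) fun c hc hgc => ?_⟩
      rcases hax.fixed_ln hg.1 hgc with e | e
      · exact Or.inl e
      · exact Or.inr (lineThru_eq (ne_of_mem_of_not_mem ha hZa) hc e).symm
  set w : L → ℕ := fun a => Nat.card (axGroup G C a) with hw
  obtain ⟨M, hM, hmax⟩ := (Finset.univ.filter fun a : L => C ∈ a).exists_max_image w
    ⟨a₁, by simpa using ha₁⟩
  simp only [Finset.mem_filter, Finset.mem_univ, true_and] at hM hmax
  obtain ⟨M', hM'ne, hM', hMM'⟩ := hpair M hM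
  have hupper : ∀ b, C ∈ b → b ≠ M → w b ≤ w M' := by
    intro b hb hbM
    have hinj : Function.Injective fun x : axGroup G C M × axGroup G C b =>
        (⟨x.1 * x.2, mul_mem (axGroup_le_cEl hM x.1.2) (axGroup_le_cEl hb x.2.2)⟩ :
          cEl G L C) := by
      rintro ⟨a₁, b₁⟩ ⟨a₂, b₂⟩ hxy
      have h1 : (a₁ : G) * b₁ = a₂ * b₂ := congrArg Subtype.val hxy
      have h2 : (a₂ : G)⁻¹ * a₁ = b₂ * (b₁ : G)⁻¹ := by
        rw [inv_mul_eq_iff_eq_mul, ← mul_assoc, ← h1, mul_inv_cancel_right]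
      have hA : Axial ((a₂ : G)⁻¹ * a₁) C M := (a₂⁻¹ * a₁).2
      have hB : Axial ((b₂ : G) * (b₁ : G)⁻¹) C b := (b₂ * b₁⁻¹).2
      have h3 : (a₂ : G)⁻¹ * a₁ = 1 := by
        by_contra h4
        rw [← h2] at hB
        exact hbM (hA.axis_unique h4 hB.1)
      have h5 : a₂ = a₁ := Subtype.ext (inv_mul_eq_one.mp h3)
      subst h5
      exact Prod.ext rfl (Subtype.ext (mul_left_cancel h1))
    have h3 := Nat.card_le_card_of_injective _ hinj
    rw [Nat.card_prod, hMM'] at h3
    exact Nat.le_of_mul_le_mul_left h3 Nat.card_pos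
  have hall : ∀ b, C ∈ b → b ≠ M → w b = w M' := by
    intro b hb hbM
    refine le_antisymm (hupper b hb hbM) ?_
    obtain ⟨b', -, hb', hbb'⟩ := hpair b hb
    have h3 : w M * w M' = w b * w b' := hMM'.symm.trans hbb'
    have h4 : w M * w M' ≤ w b * w M := h3 ▸ Nat.mul_le_mul_left _ (hmax b' hb')
    rw [mul_comm (w b)] at h4
    exact Nat.le_of_mul_le_mul_left h4 Nat.card_pos
  have hsum := natCard_cEl (G := G) (L := L) C
  rw [← Finset.add_sum_erase _ _ (show M ∈ Finset.univ.filter (fun a : L => C ∈ a) by simpa using hM),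
    Finset.sum_congr rfl (fun b hb => show Nat.card (axGroup G C b) - 1 = w M' - 1 by
      rw [← hall b (by simpa using (Finset.mem_erase.mp hb).2) (Finset.mem_erase.mp hb).1]),
    Finset.sum_const, smul_eq_mul, Finset.card_erase_of_mem (by simpa using hM),
    ← Fintype.card_subtype, ← Nat.card_eq_fintype_card, natCard_lines_through, hMM'] at hsum
  have hm1 : 2 ≤ w M' := by
    have hone : ∀ (e : G) (b : L), e ≠ 1 → Axial e C b → 2 ≤ w b := fun e b he hax => by
      have := (Subgroup.one_lt_card_iff_ne_bot _).mpr (axGroup_ne_bot he hax)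
      simp only [hw]
      omega
    rcases eq_or_ne a₁ M with rfl | hne₁
    · exact hall a₂ ha₂ hne.symm ▸ hone e₂ a₂ he₂ h₂
    · exact hall a₁ ha₁ hne₁ ▸ hone e₁ a₁ he₁ h₁
  have hM1 : 1 ≤ w M := Nat.card_pos
  have hkM : w M = ProjectivePlane.order P L := by
    have h5 : w M * w M' = 1 + ((w M - 1) + (ProjectivePlane.order P L + 1 - 1) * (w M' - 1)) :=
      hsum
    obtain ⟨u, hu⟩ := Nat.exists_eq_add_of_le hM1
    obtain ⟨v, hv⟩ := Nat.exists_eq_add_of_le hm1
    rw [hu, hv] at h5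
    simp only [Nat.add_sub_cancel_left, Nat.add_sub_cancel, show 2 + v - 1 = 1 + v by omega] at h5
    rw [hu]
    exact Nat.eq_of_mul_eq_mul_right (show 0 < 1 + v by omega) (by linarith)
  rw [hj] at hMM'
  rw [← hkM] at hk2 ⊢
  exact exists_pos_pow hp hk2 (Dvd.intro _ hMM'.symm)

/-- All elations with centre `C` have the axis `b`. -/
lemma prime_pow_of_one_direction (h : InvHyp G P L) (hodd : ¬ 2 ∣ ProjectivePlane.order P L)
    {C : P} {l₀ l₁ : L} (hl₀ : InvAxial G C l₀) (hl₁ : InvAxial G C l₁) (hl : l₀ ≠ l₁) {b : L}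
    (hCb : C ∈ b) (honly : ∀ (e : G) (a : L), C ∈ a → e ≠ 1 → Axial e C a → a = b)
    {e₀ : G} (he₀ : e₀ ≠ 1) (hax₀ : Axial e₀ C b) :
    ∃ p a : ℕ, p.Prime ∧ 0 < a ∧ ProjectivePlane.order P L = p ^ a := by
  classical
  have := Fintype.ofFinite P
  have := Fintype.ofFinite L
  have hk3 := three_le_of_odd hodd
  have hk2 := two_le_order (P := P) (L := L)
  set k := ProjectivePlane.order P L with hk
  have hEb : ∀ e ∈ cEl G L C, Axial e C b := by
    intro e he
    rcases eq_or_ne e 1 with rfl | h1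
    · exact Axial.one C b
    obtain ⟨a, ha, hax⟩ := mem_cEl.mp he
    exact honly e a ha h1 hax ▸ hax
  set V := meet P l₀ b with hVdef
  have hVb : V ∈ b := meet_mem_right l₀ b
  have hV : ∀ l : L, InvAxial G C l → V ∈ l := by
    intro l hll
    obtain ⟨e, he, rfl⟩ := exists_cEl_smul hodd hl₀ hll
    have := smul_mem e (meet_mem_left (P := P) l₀ b)
    rwa [(hEb e he).1 V hVb] at this
  have hVC : V ≠ C := fun e => hl₀.not_mem hodd (e ▸ hV l₀ hl₀)
  have hVuniq : ∀ (x : G) (W : P), (∀ l : L, InvAxial G (x • C) l → W ∈ l) → W = x • V := fun x W hW =>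
    point_eq ((MulAction.injective x).ne hl) (hW _ (hl₀.smul x)) (hW _ (hl₁.smul x))
      (smul_mem x (hV l₀ hl₀)) (smul_mem x (hV l₁ hl₁))
  have hVimg : ∀ (x : G), ∀ l : L, InvAxial G (x • C) l → x • V ∈ l := by
    intro x l hl'
    have h3 := hl'.smul x⁻¹
    rw [inv_smul_smul] at h3
    have := smul_mem x (hV _ h3)
    rwa [smul_inv_smul] at this
  have hfixV : ∀ g : G, g • C = C → g • V = V := fun g hg =>
    (hVuniq g V (fun l hl' => hV l (hg ▸ hl'))).symm
  have hmeetb : ∀ l : L, InvAxial G C l → ∀ X : P, X ∈ b → X ∈ l → X = V := fun l hl' X hX hXl =>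
    point_eq (ne_line_of_mem_of_not_mem hCb (hl'.not_mem hodd)) hX hXl hVb (hV l hl')
  -- a second centre for the axis `b` is enough
  have hsecond : ∀ (X P₁ P₂ : P), InvAxial G P₁ b → InvAxial G P₂ b → P₁ ≠ P₂ →
      X ∈ lineThru L P₁ P₂ → X ∈ b → X ≠ C → ∃ e : G, e ≠ 1 ∧ Axial e X b := by
    intro X P₁ P₂ h₁ h₂ hne hX hXb _
    have hP₁ := h₁.not_mem hodd
    obtain ⟨g₁, hg₁, hax₁⟩ := h₁
    obtain ⟨g₂, hg₂, hax₂⟩ := h₂
    obtain ⟨hprod, Y₀, hY₀, haxY⟩ :=
      IsInv.mul_homology (P := Dual L) (L := Dual P) hg₁ hg₂ hax₁.dual hax₂.dual hne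
    obtain ⟨Y, hY, hax⟩ : ∃ Y : P, Y ∈ b ∧ Axial (g₁ * g₂) Y b :=
      ⟨Y₀, hY₀, Axial.of_dual (P := P) (L := L) haxY⟩
    set m := lineThru L P₁ P₂
    have hm : (g₁ * g₂) • m = m := by
      rw [mul_smul, hax₂.2 m (right_mem_lineThru P₁ P₂), hax₁.2 m (left_mem_lineThru P₁ P₂)]
    have hmb : m ≠ b := ne_line_of_mem_of_not_mem (left_mem_lineThru P₁ P₂) hP₁
    obtain rfl : X = Y := point_eq (P := P) (L := L) hmb hX hXb ((hax.fixed_ln hprod hm).resolve_left hmb) hY
    exact ⟨g₁ * g₂, hprod, hax⟩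
  by_cases hEk : Nat.card (cEl G L C) = k
  swap
  · -- no line through `C` is covered
    have htype : ∀ a : L, C ∈ a → a ≠ b →
        (∃ A : P, A ∈ a ∧ A ≠ C ∧ InvAxial G A b) ∨ InvAxial G V a := by
      intro a ha hab
      have hbot : Nat.card (axGroup G C a) = 1 := by
        rw [Subgroup.card_eq_one, Subgroup.eq_bot_iff_forall]
        exact fun e he => by_contra fun hne => hab (honly e a ha hne he)
      obtain ⟨A, hA, hAC, hnot⟩ : ∃ A : P, A ∈ a ∧ A ≠ C ∧ ∀ l : L, InvAxial G C l → A ∉ l := by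
        by_contra hc
        push Not at hc
        exact hEk (by rw [natCard_cEl_covered hodd ha hc, hbot, one_mul])
      obtain ⟨g, hg, hgC, hcase⟩ := fix_cases h ha hA hAC hnot
      have hE2 : 2 ≤ Nat.card (cEl G L C) := (Subgroup.one_lt_card_iff_ne_bot _).mpr
        fun e => he₀ ((Subgroup.eq_bot_iff_forall _).mp e e₀ (mem_cEl.mpr ⟨b, hCb, hax₀⟩))
      have hpartner : ∀ a' : L, C ∈ a' → a ≠ a' →
          (∀ c : L, C ∈ c → g • c = c → c = a ∨ c = a') → a' = b := by
        intro a' ha' hne' hon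
        by_contra hne''
        have h3 := natCard_cEl_split hl₀ hodd hg hgC ha ha' hne' hon
        have hbot' : Nat.card (axGroup G C a') = 1 := by
          rw [Subgroup.card_eq_one, Subgroup.eq_bot_iff_forall]
          exact fun e he => by_contra fun hne => hne'' (honly e a' ha' hne he)
        rw [hbot, hbot', one_mul] at h3
        omega
      rcases hcase with ⟨x, hx, hAx, hax⟩ | ⟨Z, hax⟩
      · left
        have hxb : x = b := hpartner x hx (fun e => hAx (e ▸ hA)) fun c hc hgc => by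
          rcases hax.fixed_ln hg.1 hgc with e | e
          · exact Or.inr e
          · exact Or.inl (line_eq hAC e hc hA ha)
        exact ⟨A, hA, hAC, g, hg, hxb ▸ hax⟩
      · right
        rcases hax.fixed_pt hg.1 (hfixV g hgC) with e | e
        · exact ⟨g, hg, e ▸ hax⟩
        · exact absurd (line_eq hVC e ha hVb hCb) hab
    by_cases htwo : ∃ a a' : L, a ≠ a' ∧ C ∈ a ∧ C ∈ a' ∧
        (∃ A : P, A ∈ a ∧ A ≠ C ∧ InvAxial G A b) ∧ ∃ A : P, A ∈ a' ∧ A ≠ C ∧ InvAxial G A b
    · obtain ⟨a, a', hne, ha, ha', ⟨A, hA, hAC, hAb⟩, A', hA', hA'C, hA'b⟩ := htwo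
      have hAA : A ≠ A' := fun e => hne (line_eq hAC hA ha (e ▸ hA') ha')
      set X := meet P (lineThru L A A') b
      have hXC : X ≠ C := by
        intro e
        have hC : C ∈ lineThru L A A' := e ▸ meet_mem_left _ _
        exact hne ((line_eq hAC (left_mem_lineThru A A') hC hA ha).symm.trans
          (line_eq hA'C (right_mem_lineThru A A') hC hA' ha'))
      obtain ⟨e, he, hax⟩ := hsecond X A A' hAb hA'b hAA (meet_mem_left _ _) (meet_mem_right _ _) hXC
      have hres := prime_pow_of_two_directions (P := Dual L) (L := Dual P) h.dual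
        (by rwa [ProjectivePlane.Dual.order]) hAb.dual hax₀.dual hax.dual hCb
        (meet_mem_right (lineThru L A A') b) he₀ he hXC.symm
      rwa [ProjectivePlane.Dual.order] at hres
    push Not at htwo
    -- all but one of the other lines are axes of homologies with centre `V`
    let S : Finset L := Finset.univ.filter fun a => (C ∈ a ∧ a ≠ b) ∧ InvAxial G V a
    have hS : k - 1 ≤ S.card := by
      let T : Finset L := Finset.univ.filter fun a => C ∈ a ∧ a ≠ b
      have hT : T.card = k := by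
        rw [hk, ← ProjectivePlane.Dual.order, ← natCard_on_ne' (P := Dual L) (L := Dual P) C hCb,
          Nat.card_eq_fintype_card]
        exact (Fintype.card_subtype _).symm
      let U : Finset L := T.filter fun a => ∃ A : P, A ∈ a ∧ A ≠ C ∧ InvAxial G A b
      have hU : U.card ≤ 1 := Finset.card_le_one.mpr fun x hx y hy => by
        simp only [U, T, Finset.mem_filter, Finset.mem_univ, true_and] at hx hy
        by_contra hne
        obtain ⟨A', hA', hA'C, hA'b⟩ := hy.2
        exact htwo x y hne hx.1.1 hy.1.1 hx.2 A' hA' hA'C hA'b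
      have hsub : T \ U ⊆ S := by
        intro a ha
        simp only [U, T, S, Finset.mem_sdiff, Finset.mem_filter, Finset.mem_univ, true_and] at ha ⊢
        exact ⟨ha.1, (htype a ha.1.1 ha.1.2).resolve_left fun hc => ha.2 ⟨ha.1, hc⟩⟩
      have := Finset.card_le_card hsub
      have hUT : U ⊆ T := Finset.filter_subset _ T
      have := Finset.card_sdiff_of_subset hUT
      omega
    obtain ⟨a₀, ha₀⟩ := Finset.card_pos.mp (show 0 < S.card by omega)
    simp only [S, Finset.mem_filter, Finset.mem_univ, true_and] at ha₀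
    obtain ⟨⟨hCa₀, -⟩, g₀, hg₀, haxg₀⟩ := ha₀
    have hS' : ∀ a : S, ∃ g : G, IsInv g ∧ Axial g V (a : L) ∧ ((a : L) = a₀ → g = g₀) := by
      intro a
      rcases eq_or_ne (a : L) a₀ with e | e
      · exact ⟨g₀, hg₀, e ▸ haxg₀, fun _ => rfl⟩
      · obtain ⟨g, hg, hax⟩ := (Finset.mem_filter.mp a.2).2.2
        exact ⟨g, hg, hax, fun e' => absurd e' e⟩
    choose gS hgS haxS heqS using hS'
    have hmem : ∀ a : S, gS a * g₀ ∈ axGroup G V b := by
      intro a
      rcases eq_or_ne (a : L) a₀ with e | e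
      · rw [heqS a e, hg₀.2]
        exact one_mem _
      · obtain ⟨-, x, hVx, hax⟩ := (hgS a).mul_homology hg₀ (haxS a) haxg₀ e
        have hCa : C ∈ (a : L) := (Finset.mem_filter.mp a.2).2.1.1
        have hC : (gS a * g₀) • C = C := by rw [mul_smul, haxg₀.1 C hCa₀, (haxS a).1 C hCa]
        rcases eq_or_ne (gS a * g₀) 1 with h1 | h1
        · rw [h1]; exact one_mem _
        rcases hax.fixed_pt h1 hC with e' | e'
        · exact absurd e'.symm hVC
        · exact line_eq hVC hVx e' hVb hCb ▸ hax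
    have hinj : Function.Injective fun a : S => (⟨gS a * g₀, hmem a⟩ : axGroup G V b) := by
      intro a a' haa
      have h1 : gS a = gS a' := mul_right_cancel (congrArg Subtype.val haa)
      exact Subtype.ext ((haxS a').axis_unique (hgS a').1 (h1 ▸ (haxS a).1))
    have hcard := Nat.card_le_card_of_injective _ hinj
    rw [Nat.card_eq_fintype_card, Fintype.card_coe] at hcard
    obtain ⟨q, hq⟩ := natCard_axGroup_dvd_order (G := G) hVb
    rw [← hk] at hq
    have hq1 : q = 1 := by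
      rcases Nat.lt_or_ge q 2 with h' | h'
      · rcases Nat.eq_zero_or_pos q with rfl | h''
        · omega
        · omega
      · have : 2 * Nat.card (axGroup G V b) ≤ k := by
          rw [hq, mul_comm]; exact Nat.mul_le_mul_left _ h'
        omega
    rw [hq1, mul_one] at hq
    obtain ⟨e, he, hax⟩ := exists_of_axGroup_ne_bot (G := G) (C := V) (l := b) fun e' => by
      rw [e', Subgroup.card_bot] at hq; omega
    obtain ⟨p, hp, hexp⟩ := exists_prime_of_two hax₀ hax hCb hVb he₀ he hVC.symm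
    have := Fact.mk hp
    obtain ⟨j, hj⟩ := IsPGroup.iff_card.mp (show IsPGroup p (axGroup G V b) from
      fun g => ⟨1, Subtype.ext (by rw [pow_one]; exact hexp g V hVb g.2)⟩)
    exact exists_pos_pow hp hk2 (by rw [hq, hj])
  -- the group of elations with centre `C` and axis `b` has order `k`
  by_cases hX : ∃ (e : G) (X : P), X ∈ b ∧ X ≠ C ∧ e ≠ 1 ∧ Axial e X b
  · obtain ⟨e, X, hXb, hXC, he, hax⟩ := hX
    obtain ⟨p, hp, hexp⟩ := exists_prime_of_two hax₀ hax hCb hXb he₀ he hXC.symm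
    have := Fact.mk hp
    obtain ⟨j, hj⟩ := IsPGroup.iff_card.mp (show IsPGroup p (cEl G L C) from
      fun g => ⟨1, Subtype.ext (by rw [pow_one]; exact hexp g C hCb (hEb g g.2))⟩)
    exact exists_pos_pow hp hk2 (dvd_of_eq (hEk.symm.trans hj))
  push Not at hX
  exfalso
  have hcentre : ∀ x : G, x • b = b → x • C = C := by
    intro x hxb
    by_contra hne
    have hmem : x • C ∈ b := hxb ▸ smul_mem x hCb
    have := hax₀.conj x
    rw [hxb] at this
    exact hX _ _ hmem hne (fun e => he₀ (by rwa [mul_inv_eq_one, mul_eq_left] at e)) this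
  have hF1 : ∀ (X : P) (a : L), X ∈ b → X ≠ C → X ≠ V → ¬ InvAxial G X a := by
    intro X a hXb hXC hXV hXa
    have hXn := hXa.not_mem hodd
    obtain ⟨g, hg, hax⟩ := hXa
    have hgC : g • C = C := hcentre g (hax.2 b hXb)
    rcases hax.fixed_pt hg.1 hgC with e | e
    · exact hXC e.symm
    rcases hax.fixed_pt hg.1 (hfixV g hgC) with e' | e'
    · exact hXV e'.symm
    · exact hXn (line_eq hVC e' e hVb hCb ▸ hXb)
  obtain ⟨X, hXb, hXC, hXV⟩ := exists_mem_ne_ne b C V
  obtain ⟨Z, hZ⟩ : ∃ Z : P, InvAxial G Z b := by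
    obtain ⟨g, hg, hgC, hgX⟩ := h.pts C X hXC.symm
    obtain ⟨Z, a, hax⟩ := h.central g hg
    refine ⟨Z, g, hg, ?_⟩
    rcases hax.fixed_pt hg.1 hgX with rfl | eX
    · exact absurd ⟨g, hg, hax⟩ (hF1 X a hXb hXC hXV)
    rcases hax.fixed_pt hg.1 hgC with rfl | eC
    · exact absurd (hmeetb a ⟨g, hg, hax⟩ X hXb eX) hXV
    · exact line_eq hXC eX eC hXb hCb ▸ hax
  have hon : ∀ A : P, InvAxial G A b → A ∈ lineThru L C Z := by
    intro A hA
    rcases eq_or_ne Z A with rfl | hne
    · exact right_mem_lineThru C Z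
    by_contra hA'
    set Y := meet P (lineThru L Z A) b
    have hYC : Y ≠ C := by
      intro e
      have hC : C ∈ lineThru L Z A := e ▸ meet_mem_left _ _
      have : lineThru L C Z = lineThru L Z A :=
        lineThru_eq (ne_of_mem_of_not_mem hCb (hZ.not_mem hodd)) hC (left_mem_lineThru Z A)
      exact hA' (this ▸ right_mem_lineThru Z A)
    obtain ⟨e, he, hax⟩ := hsecond Y Z A hZ hA hne (meet_mem_left _ _) (meet_mem_right _ _) hYC
    exact hX e Y (meet_mem_right _ _) hYC he hax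
  obtain ⟨A, hAb, hA0⟩ := exists_not_mem_not_mem (P := P) b (lineThru L C Z)
  obtain ⟨g, hg, hgA, hgX⟩ := h.pts A X (fun e => hAb (e ▸ hXb))
  obtain ⟨W, α, hax⟩ := h.central g hg
  have hgb : g • b ≠ b := by
    intro hgb
    have hgC : g • C = C := hcentre g hgb
    rcases hax.fixed_pt hg.1 hgX with rfl | eX
    · exact hF1 X α hXb hXC hXV ⟨g, hg, hax⟩
    rcases hax.fixed_pt hg.1 hgC with rfl | eC
    · exact hXV (hmeetb α ⟨g, hg, hax⟩ X hXb eX)
    obtain rfl : α = b := line_eq hXC eX eC hXb hCb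
    rcases hax.fixed_pt hg.1 hgA with rfl | eA
    · exact hA0 (hon A ⟨g, hg, hax⟩)
    · exact hAb eA
  have hgCC : g • C ≠ C := by
    intro e
    have hmem : C ∈ g • b := e ▸ smul_mem g hCb
    have := hax₀.conj g
    rw [e] at this
    exact hgb (honly _ _ hmem (fun e' => he₀ (by rwa [mul_inv_eq_one, mul_eq_left] at e')) this)
  have hXb' : X ∈ g • b := hgX ▸ smul_mem g hXb
  have hC'b : g • C ∉ b := by
    intro e
    have h1 : g • C = X := point_eq hgb (smul_mem g hCb) e hXb' hXb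
    exact hXC (MulAction.injective g (h1.trans hgX.symm)).symm
  have hV'b : g • V ∉ b := by
    intro e
    have h1 : g • V = X := point_eq hgb (smul_mem g hVb) e hXb' hXb
    exact hXV (MulAction.injective g (h1.trans hgX.symm)).symm
  set d := lineThru L C (g • C) with hd
  have hgd : g • d = d := by
    rw [hd, smul_lineThru g hgCC.symm, hg.smul_smul_pt C]
    exact lineThru_comm hgCC
  have htrd : ∀ D : P, D ∈ d → D ≠ C → ∃ e ∈ cEl G L C, e • g • C = D := by
    intro D hD hDC
    let f : cEl G L C → {x : P // x ∈ d ∧ x ≠ C} := fun e =>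
      ⟨(e : G) • g • C, (smul_mem_iff_of_fix (cEl_fix e.2 (left_mem_lineThru C (g • C))) _).mpr
        (right_mem_lineThru C (g • C)), fun hh => hgCC (MulAction.injective (e : G)
          (hh.trans (cEl_fix_centre (L := L) e.2).symm))⟩
    have hinj : Function.Injective f := by
      intro x y hxy
      have h1 : ((y⁻¹ * x : cEl G L C) : G) • g • C = g • C := by
        rw [Subgroup.coe_mul, Subgroup.coe_inv, mul_smul, inv_smul_eq_iff]
        exact congrArg Subtype.val hxy
      exact (inv_mul_eq_one.mp (Subtype.ext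
        ((hEb _ (y⁻¹ * x).2).eq_one_of h1 hgCC hC'b))).symm
    have hbij : Function.Bijective f := (Nat.bijective_iff_injective_and_card f).mpr
      ⟨hinj, by rw [hEk, natCard_on_ne' d (left_mem_lineThru C (g • C))]⟩
    obtain ⟨e, he⟩ := hbij.2 ⟨D, hD, hDC⟩
    exact ⟨e, e.2, congrArg Subtype.val he⟩
  have hlines : lineThru L C (g • V) ≠ lineThru L (g • C) V := by
    intro e
    have h1 : g • C ∈ lineThru L C (g • V) := e ▸ left_mem_lineThru (g • C) V
    have h2 : V ∈ lineThru L C (g • V) := e ▸ right_mem_lineThru (g • C) V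
    exact hC'b (line_eq hVC h2 (left_mem_lineThru C (g • V)) hVb hCb ▸ h1)
  -- all the images of `g • V` coincide
  have key : ∀ e ∈ cEl G L C, e • g • C ≠ g • C →
      e • g • V = meet P (lineThru L C (g • V)) (lineThru L (g • C) V) := by
    intro e he hne
    have hin : e • g • V ∈ lineThru L C (g • V) :=
      (smul_mem_iff_of_fix (cEl_fix he (left_mem_lineThru C (g • V))) _).mpr
        (right_mem_lineThru C (g • V))
    obtain ⟨e', he', he'D⟩ := htrd (g • e • g • C)
      (by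
        rw [smul_mem_iff_of_fix hgd, smul_mem_iff_of_fix (cEl_fix he (left_mem_lineThru C (g • C)))]
        exact right_mem_lineThru C (g • C))
      (fun hh => hne (by
        have := congrArg (g • ·) hh
        simpa [hg.smul_smul_pt] using this))
    have hD : (g * e' * g) • C = (e * g) • C := by
      rw [mul_smul, mul_smul, he'D, hg.smul_smul_pt, mul_smul]
    have heq : (g * e' * g) • V = (e * g) • V :=
      hVuniq (e * g) _ fun l hl' => hVimg (g * e' * g) l (hD ▸ hl')
    have hin2 : (g * e' * g) • V ∈ lineThru L (g • C) V := by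
      have h1 : e' • g • V ∈ lineThru L C (g • V) :=
        (smul_mem_iff_of_fix (cEl_fix he' (left_mem_lineThru C (g • V))) _).mpr
          (right_mem_lineThru C (g • V))
      have h2 := smul_mem g h1
      rw [smul_lineThru g (fun h' => hV'b (by rw [← h']; exact hCb)), hg.smul_smul_pt V] at h2
      simpa [mul_smul] using h2
    rw [heq, mul_smul] at hin2
    exact (meet_eq hlines hin hin2).symm
  obtain ⟨D₁, hD₁, hD₁C, hD₁g⟩ := exists_mem_ne_ne d C (g • C)
  obtain ⟨D₂, hD₂, hD₂C, hD₂g, hD₂₁⟩ := exists_mem_ne3 hk3 d C (g • C) D₁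
  obtain ⟨x₁, hx₁, rfl⟩ := htrd D₁ hD₁ hD₁C
  obtain ⟨x₂, hx₂, rfl⟩ := htrd D₂ hD₂ hD₂C
  have h1 : x₁ • g • V = x₂ • g • V := (key x₁ hx₁ hD₁g).trans (key x₂ hx₂ hD₂g).symm
  have h2 : x₂⁻¹ * x₁ = 1 := by
    refine (hEb _ (mul_mem (inv_mem hx₂) hx₁)).eq_one_of (p := g • V) ?_ ?_ hV'b
    · rw [mul_smul, inv_smul_eq_iff]; exact h1
    · exact fun e => hV'b (e ▸ hCb)
  exact hD₂₁ (by rw [inv_mul_eq_one.mp h2])

/-- Some point is the centre of homologies with two axes. -/
lemma prime_pow_of_two_axes (h : InvHyp G P L) (hodd : ¬ 2 ∣ ProjectivePlane.order P L) {C : P}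
    {a b : L} (hne : a ≠ b) (hA : InvAxial G C a) (hB : InvAxial G C b) :
    ∃ p i : ℕ, p.Prime ∧ 0 < i ∧ ProjectivePlane.order P L = p ^ i := by
  classical
  obtain ⟨e, he, hmove⟩ := exists_cEl_smul hodd hA hB
  have he1 : e ≠ 1 := fun e' => hne (by rw [← hmove, e', one_smul])
  obtain ⟨c, hc, hax⟩ := mem_cEl.mp he
  by_cases hone : ∀ (x : G) (d : L), C ∈ d → x ≠ 1 → Axial x C d → d = c
  · exact prime_pow_of_one_direction h hodd hA hB hne hc hone he1 hax
  push Not at hone
  obtain ⟨x, d, hd, hx, hxax, hdc⟩ := hone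
  exact prime_pow_of_two_directions h hodd hA hxax hax hd hc hx he1 hdc

/-- A plane of odd order in this situation has prime power order. -/
theorem InvHyp.prime_pow_of_odd (h : InvHyp G P L)
    (hodd : ¬ 2 ∣ ProjectivePlane.order P L) :
    ∃ p a : ℕ, p.Prime ∧ 0 < a ∧ ProjectivePlane.order P L = p ^ a := by
  classical
  by_cases h1 : ∀ (C : P) (a b : L), InvAxial G C a → InvAxial G C b → a = b
  · by_cases h2 : ∀ (C D : P) (a : L), InvAxial G C a → InvAxial G D a → C = D
    · exact (no_unique_axes h hodd h1 h2).elim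
    push Not at h2
    obtain ⟨C, D, a, hC, hD, hne⟩ := h2
    have := prime_pow_of_two_axes (P := Dual L) (L := Dual P) h.dual
      (by rwa [ProjectivePlane.Dual.order]) hne hC.dual hD.dual
    rwa [ProjectivePlane.Dual.order] at this
  push Not at h1
  obtain ⟨C, a, b, hA, hB, hne⟩ := h1
  exact prime_pow_of_two_axes h hodd hne hA hB

/-- A plane in this situation has prime power order. -/
theorem InvHyp.prime_pow (h : InvHyp G P L) :
    ∃ p a : ℕ, p.Prime ∧ 0 < a ∧ ProjectivePlane.order P L = p ^ a := by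
  by_cases hev : 2 ∣ ProjectivePlane.order P L
  · exact h.prime_pow_of_even hev
  · exact h.prime_pow_of_odd hev

end Cfsg.Agent.OW
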