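import Cfsg.Agent.Lib.OstromWagner.Groups

/-!
# Fixed subplanes

The plane of fixed points and lines of a subgroup fixing a quadrangle, Baer involutions, and the
order of the plane in terms of the subplane fixed by a 2-group.
-/

set_option autoImplicit false
set_option linter.unusedSectionVars false

namespace Cfsg.Agent.OW

open Configuration

lemma order_inj {a b : ℕ} (h : a ^ 2 + a + 1 = b ^ 2 + b + 1) : a = b := by
  rcases lt_trichotomy a b with hl | rfl | hl
  · nlinarith
  · rfl
  · nlinarith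

/-- The points (or lines) fixed by all elements of a subgroup. -/
def FixSet {G : Type*} [Group G] (H : Subgroup G) (X : Type*) [MulAction G X] : Type _ :=
  {x : X // ∀ h ∈ H, h • x = x}

variable {G P L : Type*} [Group G] [MulAction G P] [MulAction G L] [Membership P L]

instance instFiniteFixSet {X : Type*} [MulAction G X] [Finite X] (H : Subgroup G) :
    Finite (FixSet H X) :=
  inferInstanceAs (Finite {x : X // ∀ h ∈ H, h • x = x})

instance instMemFixSet (H : Subgroup G) : Membership (FixSet H P) (FixSet H L) :=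
  ⟨fun l p => p.1 ∈ l.1⟩

lemma fixSet_mem_iff {H : Subgroup G} {p : FixSet H P} {l : FixSet H L} : p ∈ l ↔ p.1 ∈ l.1 :=
  Iff.rfl

instance instMulActionFixSet {X : Type*} [MulAction G X] (H : Subgroup G) [hH : H.Normal] :
    MulAction G (FixSet H X) where
  smul g x := ⟨g • x.1, fun h hh => by
    have := x.2 _ (hH.conj_mem h hh g⁻¹)
    rw [inv_inv, mul_smul, mul_smul, inv_smul_eq_iff] at this
    exact this⟩
  one_smul x := Subtype.ext (one_smul G x.1)
  mul_smul g k x := Subtype.ext (mul_smul g k x.1)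

@[simp] lemma fixSet_smul_val {X : Type*} [MulAction G X] (H : Subgroup G) [H.Normal] (g : G)
    (x : FixSet H X) : (g • x).1 = g • x.1 := rfl

instance instIsCollFixSet [IsColl G P L] (H : Subgroup G) [H.Normal] :
    IsColl G (FixSet H P) (FixSet H L) :=
  ⟨fun g p l => IsColl.mem_iff g p.1 l.1⟩

variable [ProjectivePlane P L] [Finite P] [Finite L]

/-- The fixed plane of a subgroup fixing a quadrangle. -/
noncomputable abbrev subPlane [IsColl G P L] (H : Subgroup G)
    (hq : HasQuad L fun p : P => ∀ h ∈ H, h • p = p) :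
    ProjectivePlane (FixSet H P) (FixSet H L) where
  mkPoint {l m} hne := ⟨meet P l.1 m.1, fun h hh =>
    meet_fixed (fun e => hne (Subtype.ext e)) (l.2 h hh) (m.2 h hh)⟩
  mkPoint_ax {_ _} _ := ⟨meet_mem_left _ _, meet_mem_right _ _⟩
  mkLine {p q} hne := ⟨lineThru L p.1 q.1, fun h hh =>
    lineThru_fixed (fun e => hne (Subtype.ext e)) (p.2 h hh) (q.2 h hh)⟩
  mkLine_ax {_ _} _ := ⟨left_mem_lineThru _ _, right_mem_lineThru _ _⟩
  eq_or_eq {p q l m} h1 h2 h3 h4 :=
    (Nondegenerate.eq_or_eq (P := P) (L := L) h1 h2 h3 h4).imp Subtype.ext Subtype.ext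
  exists_point l := by
    obtain ⟨a, b, c, d, ha, hb, hc, -, habc, -, -, -⟩ := hq
    by_contra hall
    push Not at hall
    exact habc l.1 (hall ⟨a, ha⟩) (hall ⟨b, hb⟩) (hall ⟨c, hc⟩)
  exists_line p := by
    obtain ⟨a, b, c, d, ha, hb, hc, hd, habc, -, hacd, -⟩ := hq
    have hab : a ≠ b := fun e => habc (lineThru L a c) (left_mem_lineThru a c)
      (e ▸ left_mem_lineThru a c) (right_mem_lineThru a c)
    have hac : a ≠ c := fun e => habc (lineThru L a b) (left_mem_lineThru a b)
      (right_mem_lineThru a b) (e ▸ left_mem_lineThru a b)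
    have hcd : c ≠ d := fun e => hacd (lineThru L a c) (left_mem_lineThru a c)
      (right_mem_lineThru a c) (e ▸ right_mem_lineThru a c)
    by_contra hall
    push Not at hall
    have h1 : p.1 ∈ lineThru L a b :=
      hall ⟨lineThru L a b, fun h hh => lineThru_fixed hab (ha h hh) (hb h hh)⟩
    have h2 : p.1 ∈ lineThru L a c :=
      hall ⟨lineThru L a c, fun h hh => lineThru_fixed hac (ha h hh) (hc h hh)⟩
    have h3 : p.1 ∈ lineThru L c d :=
      hall ⟨lineThru L c d, fun h hh => lineThru_fixed hcd (hc h hh) (hd h hh)⟩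
    have hne : lineThru L a b ≠ lineThru L a c := fun e =>
      habc _ (left_mem_lineThru a b) (right_mem_lineThru a b) (e ▸ right_mem_lineThru a c)
    have hpa : p.1 = a := point_eq hne h1 h2 (left_mem_lineThru a b) (left_mem_lineThru a c)
    exact hacd _ (hpa ▸ h3) (left_mem_lineThru c d) (right_mem_lineThru c d)
  exists_config := by
    obtain ⟨a, b, c, d, ha, hb, hc, hd, habc, habd, hacd, hbcd⟩ := hq
    have hab : a ≠ b := fun e => habc (lineThru L a c) (left_mem_lineThru a c)
      (e ▸ left_mem_lineThru a c) (right_mem_lineThru a c)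
    have had : a ≠ d := fun e => habd (lineThru L a b) (left_mem_lineThru a b)
      (right_mem_lineThru a b) (e ▸ left_mem_lineThru a b)
    have hcd : c ≠ d := fun e => hacd (lineThru L a c) (left_mem_lineThru a c)
      (right_mem_lineThru a c) (e ▸ right_mem_lineThru a c)
    refine ⟨⟨c, hc⟩, ⟨a, ha⟩, ⟨b, hb⟩,
      ⟨lineThru L c d, fun h hh => lineThru_fixed hcd (hc h hh) (hd h hh)⟩,
      ⟨lineThru L a b, fun h hh => lineThru_fixed hab (ha h hh) (hb h hh)⟩,
      ⟨lineThru L a d, fun h hh => lineThru_fixed had (ha h hh) (hd h hh)⟩, ?_, ?_, ?_, ?_, ?_, ?_,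
      ?_, ?_⟩
    · exact fun h => habc _ (left_mem_lineThru a b) (right_mem_lineThru a b) h
    · exact fun h => hacd _ (left_mem_lineThru a d) h (right_mem_lineThru a d)
    · exact fun h => hacd _ h (left_mem_lineThru c d) (right_mem_lineThru c d)
    · exact left_mem_lineThru a b
    · exact left_mem_lineThru a d
    · exact fun h => hbcd _ h (left_mem_lineThru c d) (right_mem_lineThru c d)
    · exact right_mem_lineThru a b
    · exact fun h => habd _ (left_mem_lineThru a d) h (right_mem_lineThru a d)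

/-- The fixed plane has an order. -/
theorem exists_subOrder [IsColl G P L] (H : Subgroup G)
    (hq : HasQuad L fun p : P => ∀ h ∈ H, h • p = p) :
    ∃ k : ℕ, 2 ≤ k ∧ Nat.card {p : P // ∀ h ∈ H, h • p = p} = k ^ 2 + k + 1 ∧
      (∀ l : L, (∀ h ∈ H, h • l = l) →
        Nat.card {p : P // p ∈ l ∧ ∀ h ∈ H, h • p = p} = k + 1) := by
  let := subPlane H hq
  refine ⟨ProjectivePlane.order (FixSet H P) (FixSet H L), two_le_order,
    card_points_nat (P := FixSet H P) (L := FixSet H L), fun l hl => ?_⟩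
  let lF : FixSet H L := ⟨l, hl⟩
  rw [← natCard_points_on (P := FixSet H P) lF]
  exact Nat.card_congr
    { toFun := fun p => ⟨⟨p.1, p.2.2⟩, p.2.1⟩
      invFun := fun p => ⟨p.1.1, p.2, p.1.2⟩ }

lemma subOrder_lt [Coll G P L] (H : Subgroup G) (hH : ∃ h ∈ H, h ≠ 1) {k : ℕ}
    (hk : Nat.card {p : P // ∀ h ∈ H, h • p = p} = k ^ 2 + k + 1) :
    k < ProjectivePlane.order P L := by
  obtain ⟨h, hh, h1⟩ := hH
  have : ∃ p : P, ¬ ∀ g ∈ H, g • p = p := by
    by_contra hc
    push Not at hc
    exact h1 (Coll.faithful (P := P) (L := L) h fun p => hc p h hh)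
  obtain ⟨p₀, hp₀⟩ := this
  have h2 := Finite.card_subtype_lt (p := fun p : P => ∀ g ∈ H, g • p = p) hp₀
  rw [hk, card_points_nat (P := P) (L := L)] at h2
  nlinarith

/-- An involution fixing a quadrangle is a Baer involution. -/
theorem IsInv.baer [Coll G P L] {g : G} (hg : IsInv g) (hq : HasQuad L fun p : P => g • p = p)
    {k : ℕ} (hk : Nat.card {p : P // g • p = p} = k ^ 2 + k + 1) :
    ProjectivePlane.order P L = k ^ 2 := by
  classical
  have hiffP : ∀ p : P, (∀ h ∈ Subgroup.zpowers g, h • p = p) ↔ g • p = p := fun p =>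
    ⟨fun h => h g (Subgroup.mem_zpowers g), fun h x hx =>
      (Subgroup.zpowers_le.mpr (show g ∈ MulAction.stabilizer G p from h)) hx⟩
  have hiffL : ∀ l : L, (∀ h ∈ Subgroup.zpowers g, h • l = l) ↔ g • l = l := fun l =>
    ⟨fun h => h g (Subgroup.mem_zpowers g), fun h x hx =>
      (Subgroup.zpowers_le.mpr (show g ∈ MulAction.stabilizer G l from h)) hx⟩
  have hq' : HasQuad L fun p : P => ∀ h ∈ Subgroup.zpowers g, h • p = p := by
    obtain ⟨a, b, c, d, ha, hb, hc, hd, h⟩ := hq
    exact ⟨a, b, c, d, (hiffP a).mpr ha, (hiffP b).mpr hb, (hiffP c).mpr hc, (hiffP d).mpr hd, h⟩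
  obtain ⟨k', -, hk', hline⟩ := exists_subOrder _ hq'
  have hlt := subOrder_lt (P := P) (L := L) _ ⟨g, Subgroup.mem_zpowers g, hg.1⟩ hk'
  simp only [hiffP, hiffL] at hk' hline
  obtain rfl : k = k' := order_inj (hk.symm.trans hk')
  set n := ProjectivePlane.order P L with hn
  have := Fintype.ofFinite P
  have := Fintype.ofFinite L
  let S : L → Finset P := fun l => Finset.univ.filter fun p => p ∈ l ∧ g • p ≠ p
  let FL : Finset L := Finset.univ.filter fun l => g • l = l
  have hS : ∀ l ∈ FL, (S l).card = n - k := by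
    intro l hl
    simp only [FL, Finset.mem_filter, Finset.mem_univ, true_and] at hl
    have h1 := natCard_points_on (P := P) l
    have h2 := hline l hl
    rw [Nat.card_eq_fintype_card, Fintype.card_subtype] at h1 h2
    have h3 : S l = (Finset.univ.filter fun p : P => p ∈ l) \
        (Finset.univ.filter fun p : P => p ∈ l ∧ g • p = p) := by
      ext p
      simp only [S, Finset.mem_filter, Finset.mem_univ, true_and, Finset.mem_sdiff]
      tauto
    rw [h3, Finset.card_sdiff_of_subset (fun p => by simp +contextual), h1, h2, ← hn]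
    omega
  have hu : FL.biUnion S = Finset.univ.filter fun p : P => g • p ≠ p := by
    ext p
    simp only [S, FL, Finset.mem_biUnion, Finset.mem_filter, Finset.mem_univ, true_and]
    constructor
    · rintro ⟨_, -, -, h⟩; exact h
    · intro h
      obtain ⟨l, hpl, hl⟩ := hg.exists_fixed_ln_through (L := L) p
      exact ⟨l, hl, hpl, h⟩
  have hcount : (Finset.univ.filter fun p : P => g • p ≠ p).card = FL.card * (n - k) := by
    rw [← hu, Finset.card_biUnion, Finset.sum_congr rfl hS, Finset.sum_const, smul_eq_mul]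
    intro a ha b hb hab
    simp only [FL, Finset.coe_filter, Finset.mem_univ, true_and, Set.mem_ofPred_eq] at ha hb
    rw [Function.onFun, Finset.disjoint_left]
    intro p hpa hpb
    simp only [S, Finset.mem_filter, Finset.mem_univ, true_and] at hpa hpb
    exact hpa.2 (smul_eq_of_two_lns hab ha hb hpa.1 hpb.1)
  have hFL : FL.card = k ^ 2 + k + 1 := by
    rw [← hk', natCard_fixed_eq (L := L) g, Nat.card_eq_fintype_card, Fintype.card_subtype]
  have htot := Finset.card_filter_add_card_filter_not (s := (Finset.univ : Finset P))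
    (fun p => g • p = p)
  have hN := card_points_nat (P := P) (L := L)
  rw [Nat.card_eq_fintype_card, Fintype.card_subtype] at hk'
  rw [Nat.card_eq_fintype_card] at hN
  rw [Finset.card_univ, hk', hcount, hFL, hN, ← hn] at htot
  obtain ⟨d, hd⟩ := Nat.exists_eq_add_of_lt hlt
  rw [hd, show k + d + 1 - k = d + 1 by omega] at htot
  rw [hd]
  have h5 : (d + 1) * (k * k + k + 1) = (d + 1) * (2 * k + d + 2) := by nlinarith
  have h6 := Nat.eq_of_mul_eq_mul_left (Nat.succ_pos d) h5
  nlinarith

/-- The order of the plane is a power of the order of the plane fixed by a 2-group, with exponent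
a power of two. -/
theorem exists_pow_of_two_group (G : Type*) [Group G] [Finite G] (hG : IsPGroup 2 G)
    {P L : Type*} [MulAction G P] [MulAction G L] [Membership P L] [ProjectivePlane P L] [Finite P]
    [Finite L] [Coll G P L] {k : ℕ} (hq : HasQuad L fun p : P => ∀ g : G, g • p = p)
    (hk : Nat.card {p : P // ∀ g : G, g • p = p} = k ^ 2 + k + 1) :
    ∃ i : ℕ, ProjectivePlane.order P L = k ^ (2 ^ i) := by
  induction hn : Nat.card G using Nat.strong_induction_on generalizing G k with
  | _ N ih =>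
  subst hn
  obtain ⟨j, hj⟩ := IsPGroup.iff_card.mp hG
  rcases Nat.eq_zero_or_pos j with rfl | hjpos
  · refine ⟨0, ?_⟩
    have hsub : Subsingleton G := (Nat.card_eq_one_iff_unique.mp (by simpa using hj)).1
    have hall : ∀ (p : P) (g : G), g • p = p := fun p g => by
      rw [Subsingleton.elim g 1, one_smul]
    rw [Nat.card_congr (Equiv.subtypeUnivEquiv hall), card_points_nat (P := P) (L := L)] at hk
    simpa using order_inj hk
  have : Fact (Nat.Prime 2) := ⟨Nat.prime_two⟩
  obtain ⟨U₀, hU₀, -⟩ := Sylow.exists_subgroup_card_pow_prime_le 2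
    (show 2 ^ (j - 1) ∣ Nat.card G by rw [hj]; exact pow_dvd_pow 2 (by omega))
    (⊥ : Subgroup G) (n := 0) (by simp) (Nat.zero_le _)
  have hidx : U₀.index = 2 := by
    have h1 := U₀.card_mul_index
    rw [hU₀, hj, show 2 ^ j = 2 ^ (j - 1) * 2 by rw [← pow_succ]; congr 1; omega] at h1
    exact Nat.eq_of_mul_eq_mul_left (Nat.two_pow_pos _) h1
  have hnorm : U₀.Normal := Subgroup.normal_of_index_eq_two hidx
  have hq₀ : HasQuad L fun p : P => ∀ h ∈ U₀, h • p = p := by
    obtain ⟨a, b, c, d, ha, hb, hc, hd, h⟩ := hq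
    exact ⟨a, b, c, d, fun g _ => ha g, fun g _ => hb g, fun g _ => hc g, fun g _ => hd g, h⟩
  obtain ⟨k₀, -, hk₀, -⟩ := exists_subOrder U₀ hq₀
  have hlt : Nat.card U₀ < Nat.card G := by
    rw [hU₀, hj]
    exact Nat.pow_lt_pow_right one_lt_two (by omega)
  obtain ⟨i, hi⟩ := ih (Nat.card U₀) hlt U₀ (hG.to_subgroup U₀) (k := k₀)
    (by
      obtain ⟨a, b, c, d, ha, hb, hc, hd, h⟩ := hq₀
      exact ⟨a, b, c, d, fun g => ha g g.2, fun g => hb g g.2, fun g => hc g g.2,
        fun g => hd g g.2, h⟩)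
    (by
      rw [← hk₀]
      exact Nat.card_congr (Equiv.subtypeEquivRight fun p =>
        ⟨fun h g hg => h ⟨g, hg⟩, fun h g => h g g.2⟩))
    rfl
  obtain ⟨u, hu⟩ : ∃ u : G, u ∉ U₀ := by
    by_contra hc
    push Not at hc
    have : U₀ = ⊤ := eq_top_iff.mpr fun x _ => hc x
    rw [this, Subgroup.index_top] at hidx
    exact absurd hidx (by omega)
  have hcover : ∀ g : G, g ∈ U₀ ∨ u⁻¹ * g ∈ U₀ := by
    intro g
    by_cases hg : g ∈ U₀
    · exact Or.inl hg
    · refine Or.inr ((Subgroup.mul_mem_iff_of_index_two hidx).mpr ?_)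
      simp only [inv_mem_iff]
      exact iff_of_false hu hg
  have hfix : ∀ p : P, (∀ g : G, g • p = p) ↔ (∀ h ∈ U₀, h • p = p) ∧ u • p = p := by
    intro p
    refine ⟨fun h => ⟨fun g _ => h g, h u⟩, fun h g => ?_⟩
    rcases hcover g with hg | hg
    · exact h.1 g hg
    · rw [show g = u * (u⁻¹ * g) by group, mul_smul, h.1 _ hg, h.2]
  let := subPlane U₀ hq₀
  have e : {p : P // ∀ g : G, g • p = p} ≃ {x : FixSet U₀ P // u • x = x} :=
    { toFun := fun p => ⟨⟨p.1, ((hfix p.1).mp p.2).1⟩, Subtype.ext ((hfix p.1).mp p.2).2⟩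
      invFun := fun x => ⟨x.1.1, (hfix x.1.1).mpr ⟨x.1.2, congrArg Subtype.val x.2⟩⟩ }
  rw [Nat.card_congr e] at hk
  have hord : ProjectivePlane.order (FixSet U₀ P) (FixSet U₀ L) = k₀ :=
    order_inj ((card_points_nat (P := FixSet U₀ P) (L := FixSet U₀ L)).symm.trans hk₀)
  set u' := toCol G (FixSet U₀ P) (FixSet U₀ L) u with hu'
  by_cases h1 : u' = 1
  · have hall : ∀ x : FixSet U₀ P, u • x = x := fun x => by
      rw [← toCol_smul_pt (L := FixSet U₀ L) u x, ← hu', h1, one_smul]
    rw [Nat.card_congr (Equiv.subtypeUnivEquiv hall), card_points_nat (P := FixSet U₀ P)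
      (L := FixSet U₀ L), hord] at hk
    exact ⟨i, by rw [hi, order_inj hk]⟩
  have hu2 : u * u ∈ U₀ := (Subgroup.mul_mem_iff_of_index_two hidx).mpr Iff.rfl
  have hinv : IsInv u' := by
    refine ⟨h1, ?_⟩
    rw [hu', ← map_mul]
    exact Coll.faithful (P := FixSet U₀ P) (L := FixSet U₀ L) _ fun x =>
      Subtype.ext (x.2 _ hu2)
  have hquad : HasQuad (FixSet U₀ L) fun x : FixSet U₀ P => u' • x = x := by
    obtain ⟨a, b, c, d, ha, hb, hc, hd, h1, h2, h3, h4⟩ := hq
    exact ⟨⟨a, fun g _ => ha g⟩, ⟨b, fun g _ => hb g⟩, ⟨c, fun g _ => hc g⟩, ⟨d, fun g _ => hd g⟩,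
      Subtype.ext (ha u), Subtype.ext (hb u), Subtype.ext (hc u), Subtype.ext (hd u),
      fun l => h1 l.1, fun l => h2 l.1, fun l => h3 l.1, fun l => h4 l.1⟩
  have hb := hinv.baer hquad (k := k) hk
  rw [hord] at hb
  exact ⟨i + 1, by rw [hi, hb, ← pow_mul, pow_succ 2 i, mul_comm]⟩

end Cfsg.Agent.OW
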