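import Cfsg.Agent.Lib.OstromWagner.Groups
import Cfsg.Agent.Lib.OstromWagner.Util

/-!
# Elation groups and translation lines

The order of the group of all elations with one axis, and: a 2-transitive collineation group with an
elation makes every line a translation line, so the order of the plane is a prime power.
-/

set_option autoImplicit false
set_option linter.unusedSectionVars false

namespace Cfsg.Agent.OW

open Configuration

/-- If all `n + 1` centres carry `e` elations and the group they form acts freely, then `e = n`. -/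
lemma sharp_arith {n e p j : ℕ} (hp : p.Prime) (he : 2 ≤ e) (hn : 0 < n) (hen : e ∣ n)
    (hj : (n + 1) * (e - 1) + 1 = p ^ j) (hdvd : p ^ j ∣ n ^ 2) :
    e = n ∧ p ^ j = n ^ 2 ∧ ∃ a, 0 < a ∧ n = p ^ a := by
  obtain ⟨q, rfl⟩ := hen
  have hq : 0 < q := pos_of_mul_pos_right hn (Nat.zero_le e)
  obtain ⟨f, rfl⟩ : ∃ f, e = f + 1 := ⟨e - 1, by omega⟩
  rw [Nat.add_sub_cancel] at hj
  have hfac : p ^ j = (f + 1) * (q * f + 1) := by rw [← hj]; ring
  have hrdvd : q * f + 1 ∣ p ^ j := hfac ▸ dvd_mul_left _ _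
  obtain ⟨i, -, hi⟩ := (Nat.dvd_prime_pow hp).mp (hfac ▸ dvd_mul_right (f + 1) (q * f + 1))
  obtain ⟨s, -, hs⟩ := (Nat.dvd_prime_pow hp).mp hrdvd
  have hs0 : s ≠ 0 := by
    rintro rfl
    have : 0 < q * f := Nat.mul_pos hq (by omega)
    rw [pow_zero] at hs
    omega
  have hpq : ¬ p ∣ q := fun h => hp.not_dvd_one
    ((Nat.dvd_add_right (Dvd.dvd.mul_right h f)).mp (hs ▸ dvd_pow_self p hs0))
  have hcop : Nat.Coprime (q * f + 1) (q ^ 2) := by
    rw [hs]
    exact Nat.Coprime.pow_left s ((Nat.Prime.coprime_iff_not_dvd hp).mpr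
      fun h => hpq (hp.dvd_of_dvd_pow h))
  have h1 : (f + 1) * (q * f + 1) ∣ (f + 1) * ((f + 1) * q ^ 2) := by
    rw [← hfac]
    refine hdvd.trans (dvd_of_eq ?_)
    ring
  have h2 : q * f + 1 ∣ f + 1 :=
    hcop.dvd_of_dvd_mul_right (Nat.dvd_of_mul_dvd_mul_left (by omega) h1)
  have h3 := Nat.le_of_dvd (by omega) h2
  have hq1 : q = 1 := by
    by_contra hne
    have : 2 * f ≤ q * f := Nat.mul_le_mul_right f (by omega)
    omega
  subst hq1
  refine ⟨(mul_one _).symm, by rw [hfac]; ring, i, ?_, by rw [mul_one, hi]⟩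
  rcases Nat.eq_zero_or_pos i with rfl | h
  · rw [pow_zero] at hi; omega
  · exact h

variable {G P L : Type*} [Group G] [MulAction G P] [MulAction G L] [Membership P L]
  [ProjectivePlane P L] [Finite P] [Finite L] [Coll G P L]

lemma natCard_affine (l : L) :
    Nat.card {p : P // p ∉ l} = ProjectivePlane.order P L ^ 2 := by
  classical
  have := Fintype.ofFinite P
  have h1 := natCard_points_on (P := P) l
  have h2 := card_points_nat (P := P) (L := L)
  rw [Nat.card_eq_fintype_card] at h1 h2 ⊢
  rw [Fintype.card_subtype_compl, h1, h2]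
  omega

lemma smul_not_mem_of_elGroup {g : G} {l : L} (hg : g ∈ elGroup G P l) {x : P} (hx : x ∉ l) :
    g • x ∉ l := by
  obtain ⟨C, -, h⟩ := hg
  exact fun e => hx ((smul_mem_iff_of_fix h.1.fix_line x).mp e)

lemma eq_one_of_elGroup_fix {g : G} {l : L} (hg : g ∈ elGroup G P l) {x : P} (hx : x ∉ l)
    (hfix : g • x = x) : g = 1 := by
  obtain ⟨C, hC, h⟩ := hg
  exact h.eq_one_of hfix (fun e => hx (e ▸ hC)) hx

/-- Elations with a common axis act freely on the points off it. -/
lemma natCard_elGroup_dvd (l : L) :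
    Nat.card (elGroup G P l) ∣ ProjectivePlane.order P L ^ 2 := by
  rw [← natCard_affine (P := P) l]
  exact natCard_dvd_of_free_on _ _ (fun g hg x hx => smul_not_mem_of_elGroup hg hx)
    fun g hg x hx hfix => eq_one_of_elGroup_fix hg hx hfix

lemma natCard_axGroup_conj [Finite G] (a : G) (C : P) (l : L) :
    Nat.card (axGroup G (a • C) (a • l)) = Nat.card (axGroup G C l) := by
  refine Nat.card_congr
    { toFun := fun x => ⟨a⁻¹ * x.1 * a, by
        have := Axial.conj a⁻¹ x.2
        rwa [inv_smul_smul, inv_smul_smul, inv_inv] at this⟩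
      invFun := fun x => ⟨a * x.1 * a⁻¹, Axial.conj a x.2⟩
      left_inv := fun x => Subtype.ext (by simp [mul_assoc])
      right_inv := fun x => Subtype.ext (by simp [mul_assoc]) }

variable [Finite G]

/-- The elations with axis `l`, counted by centres. -/
lemma natCard_elGroup (l : L) [Fintype P] [DecidablePred fun x : P => x ∈ l] :
    Nat.card (elGroup G P l) =
      1 + ∑ X ∈ Finset.univ.filter (fun x : P => x ∈ l), (Nat.card (axGroup G X l) - 1) := by
  classical
  have := Fintype.ofFinite G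
  let T : P → Finset G := fun X => (Finset.univ.filter fun g : G => Axial g X l).erase 1
  have hT : ∀ X : P, (T X).card = Nat.card (axGroup G X l) - 1 := by
    intro X
    rw [Finset.card_erase_of_mem (by simpa using Axial.one X l), ← Fintype.card_subtype,
      ← Nat.card_eq_fintype_card]
    rfl
  have hE : (Finset.univ.filter fun g : G => g ∈ elGroup G P l) =
      insert 1 ((Finset.univ.filter fun x : P => x ∈ l).biUnion T) := by
    ext g
    simp only [Finset.mem_filter, Finset.mem_univ, true_and, Finset.mem_insert,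
      Finset.mem_biUnion, T, Finset.mem_erase, mem_elGroup]
    constructor
    · rintro ⟨C, hC, h⟩
      rcases eq_or_ne g 1 with rfl | hg
      · exact Or.inl rfl
      · exact Or.inr ⟨C, hC, hg, h⟩
    · rintro (rfl | ⟨C, hC, -, h⟩)
      · exact (elGroup G P l).one_mem
      · exact ⟨C, hC, h⟩
  rw [Nat.card_eq_fintype_card, Fintype.card_subtype, hE,
    Finset.card_insert_of_notMem (by simp [T]), Finset.card_biUnion, Finset.sum_congr rfl
      (fun X _ => hT X), add_comm]
  intro X _ Y _ hne
  rw [Function.onFun, Finset.disjoint_left]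
  intro g hX hY
  simp only [T, Finset.mem_erase, Finset.mem_filter, Finset.mem_univ, true_and] at hX hY
  exact hne (hY.2.centre_unique hY.1 hX.2.2)

/-- If all centres on `l` carry the same number of elations, the elation group is all of it. -/
lemma elGroup_sharp (l : L) {e : ℕ} (he : 2 ≤ e)
    (hall : ∀ X : P, X ∈ l → Nat.card (axGroup G X l) = e) :
    e = ProjectivePlane.order P L ∧ Nat.card (elGroup G P l) = ProjectivePlane.order P L ^ 2 ∧
      ∃ p a : ℕ, p.Prime ∧ 0 < a ∧ ProjectivePlane.order P L = p ^ a := by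
  classical
  have := Fintype.ofFinite P
  obtain ⟨A, B, hA, hB, hAB⟩ := exists_two_mem (P := P) l
  have hne : ∀ X : P, X ∈ l → ∃ g : G, g ≠ 1 ∧ Axial g X l := fun X hX =>
    exists_of_axGroup_ne_bot fun h => by
      have := hall X hX
      rw [h, Subgroup.card_bot] at this
      omega
  obtain ⟨a, ha1, ha⟩ := hne A hA
  obtain ⟨b, hb1, hb⟩ := hne B hB
  obtain ⟨p, hp, hexp⟩ := exists_prime_of_two ha hb hA hB ha1 hb1 hAB
  have := Fact.mk hp
  have hpg : IsPGroup p (elGroup G P l) := by
    rintro ⟨g, C, hC, h⟩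
    exact ⟨1, Subtype.ext (by rw [pow_one]; exact hexp g C hC h)⟩
  obtain ⟨j, hj⟩ := IsPGroup.iff_card.mp hpg
  have hcard := natCard_elGroup (G := G) (P := P) l
  rw [Finset.sum_congr rfl (fun X hX => by rw [hall X (by simpa using hX)]), Finset.sum_const,
    smul_eq_mul, ← Fintype.card_subtype, ← Nat.card_eq_fintype_card, natCard_points_on (P := P) l, hj] at hcard
  have h2 := two_le_order (P := P) (L := L)
  obtain ⟨h3, h4, i, hi, h5⟩ := sharp_arith (n := ProjectivePlane.order P L) hp he (by omega)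
    (hall A hA ▸ natCard_axGroup_dvd_order hA) (by omega) (hj ▸ natCard_elGroup_dvd l)
  exact ⟨h3, by rw [hj, h4], p, i, hp, hi, h5⟩

/-- A 2-transitive group with an elation makes all lines translation lines. -/
theorem translation (h2 : TwoTrans G P) (he : HasElation G P L) :
    (∀ (C : P) (l : L), C ∈ l → Nat.card (axGroup G C l) = ProjectivePlane.order P L) ∧
      (∀ (l : L) (A B : P), A ∉ l → B ∉ l → ∃ g ∈ elGroup G P l, g • A = B) ∧
      ∃ p a : ℕ, p.Prime ∧ 0 < a ∧ ProjectivePlane.order P L = p ^ a := by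
  classical
  obtain ⟨g, C₀, l₀, hC₀, hg, hax⟩ := he
  set e := Nat.card (axGroup G C₀ l₀) with he
  have he2 : 2 ≤ e := by
    have := (Subgroup.one_lt_card_iff_ne_bot _).mpr (axGroup_ne_bot hg hax)
    omega
  have hall : ∀ (C : P) (l : L), C ∈ l → Nat.card (axGroup G C l) = e := by
    intro C l hC
    obtain ⟨a, rfl, rfl⟩ := h2.flag hC₀ hC
    exact natCard_axGroup_conj a C₀ l₀
  obtain ⟨hen, -, hpp⟩ := elGroup_sharp (G := G) l₀ he2 (fun X hX => hall X l₀ hX)
  refine ⟨fun C l hC => (hall C l hC).trans hen, fun l A B hA hB => ?_, hpp⟩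
  obtain ⟨-, hcard, -⟩ := elGroup_sharp (G := G) l he2 (fun X hX => hall X l hX)
  let E := elGroup G P l
  let := subAction E (fun x : P => x ∉ l) (fun g hg x hx => smul_not_mem_of_elGroup hg hx)
  let f : E → {x : P // x ∉ l} := fun g => g • (⟨A, hA⟩ : {x : P // x ∉ l})
  have hinj : Function.Injective f := by
    intro a b hab
    have h1 : ((b⁻¹ * a : E) : G) • A = A := by
      have h3 : (b⁻¹ * a) • (⟨A, hA⟩ : {x : P // x ∉ l}) = ⟨A, hA⟩ := by
        rw [mul_smul]; exact inv_smul_eq_iff.mpr hab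
      exact congrArg Subtype.val h3
    exact (inv_mul_eq_one.mp (Subtype.ext (eq_one_of_elGroup_fix (b⁻¹ * a).2 hA h1))).symm
  have hbij : Function.Bijective f := by
    rw [Nat.bijective_iff_injective_and_card]
    exact ⟨hinj, by rw [natCard_affine, hcard]⟩
  obtain ⟨g, hg⟩ := hbij.2 ⟨B, hB⟩
  exact ⟨g, g.2, congrArg Subtype.val hg⟩

end Cfsg.Agent.OW
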